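import Cfsg.Agent.H1.BG310G

/-!
# Frobenius groups acting on solvable groups (BG 3.10) (helper1)
-/

set_option autoImplicit false

namespace Cfsg.Agent.H1

open Subgroup
open scoped commutatorElement Pointwise

universe u v w

variable {X : Type u} [Group X] [Finite X]

structure Hyp310 (K S M : Subgroup X) : Prop where
  SK : S ≤ normalizer (K : Set X)
  KM : K ≤ normalizer (M : Set X)
  SM : S ≤ normalizer (M : Set X)
  frob : ∀ x ∈ S, x ≠ 1 → ∀ a ∈ K, Commute x a → a = 1
  solK : Group.IsSolvable K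
  solM : Group.IsSolvable M
  copK : (Nat.card K).Coprime (Nat.card M)
  copS : (Nat.card S).Coprime (Nat.card M)
  CMK : M ⊓ centralizer (K : Set X) = ⊥

theorem card_map_eq_of_inf_eq_bot {N S : Subgroup X} [N.Normal] (h : N ⊓ S = ⊥) :
    Nat.card (S.map (QuotientGroup.mk' N)) = Nat.card S := by
  have := card_map_mk'_mul N S
  rw [inf_comm, h, card_bot, one_mul] at this
  exact this

theorem le_normalizer_map' {Y : Type*} [Group Y] (f : X →* Y) (hf : Function.Surjective f)
    {A B : Subgroup X} (h : A ≤ normalizer (B : Set X)) :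
    A.map f ≤ normalizer ((B.map f : Subgroup Y) : Set Y) := by
  rintro _ ⟨a, ha, rfl⟩
  have h1 := mem_normalizer_iff.mp (h ha)
  rw [mem_normalizer_iff_conj_smul]
  apply le_antisymm
  · rintro _ ⟨_, ⟨x, hx, rfl⟩, rfl⟩
    exact ⟨a * x * a⁻¹, (h1 x).mp hx, by simp⟩
  · rintro _ ⟨x, hx, rfl⟩
    refine ⟨f (a⁻¹ * x * a), ⟨_, ?_, rfl⟩, by simp [mul_assoc]⟩
    rw [SetLike.mem_coe, h1]
    have e : a * (a⁻¹ * x * a) * a⁻¹ = x := by group
    rw [e]; exact hx

theorem Hyp310.quot {K S M : Subgroup X} (h : Hyp310 K S M) (N : Subgroup X) [hN : N.Normal]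
    (hNM : N ≤ M) : Hyp310 (K.map (QuotientGroup.mk' N)) (S.map (QuotientGroup.mk' N))
      (M.map (QuotientGroup.mk' N)) := by
  have hκs := QuotientGroup.mk'_surjective N
  have hNc := card_dvd_of_le hNM
  have hKN : K ⊓ N = ⊥ := inf_eq_bot_of_card_coprime (Nat.Coprime.coprime_dvd_right hNc h.copK)
  exact
  { SK := le_normalizer_map' _ hκs h.SK
    KM := le_normalizer_map' _ hκs h.KM
    SM := le_normalizer_map' _ hκs h.SM
    frob := by
      rintro _ ⟨x, hx, rfl⟩ hx1 _ ⟨a, ha, rfl⟩ hc
      have h1 : ⁅x, a⁆ ∈ K ⊓ N := by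
        refine mem_inf.mpr ⟨?_, ?_⟩
        · rw [commutatorElement_def]
          exact mul_mem ((mem_normalizer_iff.mp (h.SK hx) a).mp ha) (inv_mem ha)
        · rw [← QuotientGroup.eq_one_iff]
          show QuotientGroup.mk' N ⁅x, a⁆ = 1
          rw [map_commutatorElement, commutatorElement_eq_one_iff_mul_comm]
          exact hc
      rw [hKN, mem_bot, commutatorElement_eq_one_iff_mul_comm] at h1
      have hx1' : x ≠ 1 := by rintro rfl; exact hx1 (map_one _)
      rw [h.frob x hx hx1' a ha h1, map_one]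
    solK := isSolvable_map _ h.solK
    solM := isSolvable_map _ h.solM
    copK := Nat.Coprime.coprime_dvd_left (card_map_dvd _ _)
      (Nat.Coprime.coprime_dvd_right (card_map_dvd _ _) h.copK)
    copS := Nat.Coprime.coprime_dvd_left (card_map_dvd _ _)
      (Nat.Coprime.coprime_dvd_right (card_map_dvd _ _) h.copS)
    CMK := by
      rw [← H23.map_inf_centralizer (Nat.Coprime.coprime_dvd_right hNc h.copK)
        (Or.inl h.solK) hNM, h.CMK, Subgroup.map_bot] }

/-- the `i`-th derived subgroup, ambient version -/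
noncomputable def derAt (K : Subgroup X) (i : ℕ) : Subgroup X := (derivedSeries K i).map K.subtype

theorem derAt_zero (K : Subgroup X) : derAt K 0 = K := by
  rw [derAt, derivedSeries_zero, ← MonoidHom.range_eq_map, range_subtype]

theorem derAt_succ (K : Subgroup X) (i : ℕ) : derAt K (i + 1) = ⁅derAt K i, derAt K i⁆ := by
  rw [derAt, derivedSeries_succ, map_commutator, derAt]

theorem derAt_le (K : Subgroup X) (i : ℕ) : derAt K i ≤ K := map_subtype_le _

theorem le_normalizer_derAt {K A : Subgroup X} (h : A ≤ normalizer (K : Set X)) (i : ℕ) :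
    A ≤ normalizer (derAt K i : Set X) := by
  induction i with
  | zero => rw [derAt_zero]; exact h
  | succ i ih =>
    rw [derAt_succ]
    intro a ha
    exact mem_normalizer_commutator (ih ha) (ih ha)

theorem exists_derAt_eq_bot {K : Subgroup X} (h : Group.IsSolvable K) : ∃ n, derAt K n = ⊥ := by
  obtain ⟨n, hn⟩ := h.solvable
  refine ⟨n, ?_⟩
  rw [derAt, hn, Subgroup.map_bot]

theorem main310_step {K S M : Subgroup X} (h : Hyp310 K S M) (htop : M ⊔ (K ⊔ S) = ⊤)
    (ih : ∀ (Y : Type u) [Group Y] [Finite Y] (K' S' M' : Subgroup Y), Nat.card M' < Nat.card M →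
      Hyp310 K' S' M' → Nat.card M' = Nat.card (M' ⊓ centralizer (S' : Set Y) : Subgroup Y) ^
        Nat.card S') :
    Nat.card M = Nat.card (M ⊓ centralizer (S : Set X) : Subgroup X) ^ Nat.card S := by
  by_cases hM1 : M = ⊥
  · subst hM1
    rw [bot_inf_eq, card_bot, one_pow]
  have hnorm : ∀ N : Subgroup X, M ≤ normalizer (N : Set X) → K ≤ normalizer (N : Set X) →
      S ≤ normalizer (N : Set X) → N.Normal := by
    intro N h1 h2 h3
    rw [← normalizer_eq_top_iff, eq_top_iff, ← htop]
    exact sup_le h1 (sup_le h2 h3)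
  haveI hMn : M.Normal := hnorm M le_normalizer h.KM h.SM
  by_cases hred : ∃ N : Subgroup X, N.Normal ∧ N ≤ M ∧ N ≠ ⊥ ∧ N ≠ M
  · obtain ⟨N, hN, hNM, hN1, hN2⟩ := hred
    have hlt : N < M := lt_of_le_of_ne hNM hN2
    have hNc := card_dvd_of_le hNM
    have h1 := ih X K S N (card_lt_of_lt' hlt)
      { SK := h.SK
        KM := by rw [normalizer_eq_top]; exact le_top
        SM := by rw [normalizer_eq_top]; exact le_top
        frob := h.frob
        solK := h.solK
        solM := isSolvable_of_le hNM h.solM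
        copK := Nat.Coprime.coprime_dvd_right hNc h.copK
        copS := Nat.Coprime.coprime_dvd_right hNc h.copS
        CMK := by rw [eq_bot_iff, ← h.CMK]; exact inf_le_inf_right _ hNM }
    have hq := card_map_mk'_mul N M
    rw [inf_of_le_right hNM] at hq
    have hNS : N ⊓ S = ⊥ := by
      rw [inf_comm]
      exact inf_eq_bot_of_card_coprime (Nat.Coprime.coprime_dvd_right hNc h.copS)
    have hcardN : 1 < Nat.card N := by
      rw [Nat.one_lt_iff_ne_zero_and_ne_one]
      exact ⟨Nat.card_pos.ne', fun h4 => hN1 (card_eq_one.mp h4)⟩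
    have h2 := ih (X ⧸ N) _ _ _ (by
      rw [← hq]; exact lt_mul_of_one_lt_left Nat.card_pos hcardN) (h.quot N hNM)
    rw [card_map_eq_of_inf_eq_bot hNS] at h2
    have h3 := H23.map_inf_centralizer (A := S) (G := M) (N := N)
      (Nat.Coprime.coprime_dvd_right hNc h.copS) (Or.inr (isSolvable_of_le hNM h.solM)) hNM
    have h4 := card_map_mk'_mul N (M ⊓ centralizer (S : Set X))
    rw [h3] at h4
    have h5 : M ⊓ centralizer (S : Set X) ⊓ N = N ⊓ centralizer (S : Set X) := by
      rw [inf_comm, ← inf_assoc, inf_of_le_left hNM]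
    rw [h5] at h4
    rw [← hq, h1, h2, ← mul_pow, h4]
  · push Not at hred
    have hmin : ∀ N : Subgroup X, N.Normal → N ≤ M → N = ⊥ ∨ N = M := by
      intro N hN hNM
      by_cases h0 : N = ⊥
      · exact Or.inl h0
      · exact Or.inr (hred N hN hNM h0)
    obtain ⟨hab, p, hp, hMp, hpow⟩ := minimal_normal_solvable hMn hM1 hmin h.solM
    haveI : Fact p.Prime := ⟨hp⟩
    have hVea : Cfsg.IsElementaryAbelian p M := ⟨hab, hpow⟩
    have hpM : p ∣ Nat.card M := by
      obtain ⟨n, hn⟩ := IsPGroup.iff_card.mp hMp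
      rcases Nat.eq_zero_or_pos n with h0 | h0
      · rw [h0, pow_zero] at hn
        exact absurd (card_eq_one.mp hn) hM1
      · rw [hn]; exact dvd_pow_self p h0.ne'
    have hcop : ∀ n : ℕ, n.Coprime (Nat.card M) → ¬ p ∣ n := by
      intro n hn hpn
      have h2 := Nat.dvd_gcd hpn hpM
      rw [hn.gcd_eq_one] at h2
      exact hp.one_lt.ne' (Nat.dvd_one.mp h2)
    classical
    have hex : ∃ i, M ⊓ centralizer (derAt K i : Set X) ≠ ⊥ := by
      obtain ⟨n, hn⟩ := exists_derAt_eq_bot h.solK
      refine ⟨n, ?_⟩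
      have : centralizer ((⊥ : Subgroup X) : Set X) = ⊤ := by
        rw [eq_top_iff]
        intro x _
        rw [mem_centralizer_iff]
        intro y hy
        rw [SetLike.mem_coe, mem_bot] at hy
        rw [hy]; simp
      rw [hn, this, inf_top_eq]
      exact hM1
    obtain ⟨j, hj1, hj2⟩ : ∃ j, M ⊓ centralizer (derAt K j : Set X) = ⊥ ∧
        M ⊓ centralizer (derAt K (j + 1) : Set X) ≠ ⊥ := by
      have h0 : Nat.find hex ≠ 0 := by
        intro h0
        have := Nat.find_spec hex
        rw [h0, derAt_zero, h.CMK] at this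
        exact this rfl
      obtain ⟨j, hj⟩ := Nat.exists_eq_succ_of_ne_zero h0
      refine ⟨j, ?_, ?_⟩
      · by_contra hne
        exact Nat.find_min hex (m := j) (by omega) hne
      · have := Nat.find_spec hex
        rw [hj] at this
        exact this
    have hgen : ∀ A : Subgroup X, A ≤ normalizer (K : Set X) → A ≤ normalizer ((M ⊓ centralizer
        (derAt K (j + 1) : Set X) : Subgroup X) : Set X) := by
      intro A hA y hy
      have h1 : y ∈ normalizer ((centralizer (derAt K (j + 1) : Set X) : Subgroup X) : Set X) :=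
        OOT.normalizer_le_normalizer_centralizer _ (le_normalizer_derAt hA (j + 1) hy)
      rw [mem_normalizer_iff]
      intro g
      have h2 : y ∈ normalizer (M : Set X) := by rw [normalizer_eq_top]; trivial
      rw [mem_inf, mem_inf, mem_normalizer_iff.mp h2 g, mem_normalizer_iff.mp h1 g]
    have hNn : (M ⊓ centralizer (derAt K (j + 1) : Set X) : Subgroup X).Normal := by
      apply hnorm
      · -- `M` is abelian
        intro y hy
        rw [mem_normalizer_iff_conj_smul]
        apply H23.conj_smul_eq_of_mem_centralizer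
        rw [mem_centralizer_iff]
        intro z hz
        exact congrArg Subtype.val (hab.is_comm.comm (⟨z, (mem_inf.mp hz).1⟩ : M) ⟨y, hy⟩)
      · exact hgen K le_normalizer
      · exact hgen S h.SK
    have hNeq := (hmin _ hNn inf_le_left).resolve_left hj2
    have hAA : ⁅derAt K j, derAt K j⁆ ≤ centralizer (M : Set X) := by
      rw [← derAt_succ, le_centralizer_iff]
      exact hNeq.ge.trans inf_le_right
    exact card_eq_pow_of_frob_ab (A := derAt K j) hVea (by rw [normalizer_eq_top]; exact le_top)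
      (by rw [normalizer_eq_top]; exact le_top) (le_normalizer_derAt h.SK j) hAA hj1
      (fun x hx hx1 a ha hc => h.frob x hx hx1 a (derAt_le K j ha) hc)
      (fun h0 => hcop _ h.copK (h0.trans (card_dvd_of_le (derAt_le K j)))) (hcop _ h.copS)

theorem card_inf_centralizer_subgroupOf {M S Z : Subgroup X} (hM : M ≤ Z) (hS : S ≤ Z) :
    Nat.card (M.subgroupOf Z ⊓ centralizer ((S.subgroupOf Z : Subgroup Z) : Set Z) : Subgroup Z) =
      Nat.card (M ⊓ centralizer (S : Set X) : Subgroup X) := by
  have h1 : (M.subgroupOf Z ⊓ centralizer ((S.subgroupOf Z : Subgroup Z) : Set Z) : Subgroup Z) =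
      (M ⊓ centralizer (S : Set X)).subgroupOf Z := by
    ext x
    rw [mem_inf, mem_subgroupOf, mem_subgroupOf, mem_inf, mem_centralizer_iff, mem_centralizer_iff]
    constructor
    · rintro ⟨h1, h2⟩
      exact ⟨h1, fun s hs => congrArg Subtype.val (h2 ⟨s, hS hs⟩ hs)⟩
    · rintro ⟨h1, h2⟩
      exact ⟨h1, fun s hs => Subtype.ext (h2 s hs)⟩
  rw [h1, card_subgroupOf (inf_le_left.trans hM)]

theorem isSolvable_subgroupOf310 {K Z : Subgroup X} (h : Group.IsSolvable K) (hK : K ≤ Z) :
    Group.IsSolvable (K.subgroupOf Z) := by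
  haveI := h
  exact Group.isSolvable_of_isSolvable_injective
    (f := (subgroupOfEquivOfLe hK).toMonoidHom) (subgroupOfEquivOfLe hK).injective

theorem le_normalizer_subgroupOf' {A B Z : Subgroup X} (h : A ≤ normalizer (B : Set X)) :
    A.subgroupOf Z ≤ normalizer ((B.subgroupOf Z : Subgroup Z) : Set Z) := by
  intro a ha
  rw [mem_normalizer_iff]
  intro g
  rw [mem_subgroupOf, mem_subgroupOf]
  exact mem_normalizer_iff.mp (h ha) g

theorem Hyp310.sub {K S M Z : Subgroup X} (h : Hyp310 K S M) (hK : K ≤ Z) (hS : S ≤ Z)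
    (hM : M ≤ Z) : Hyp310 (K.subgroupOf Z) (S.subgroupOf Z) (M.subgroupOf Z) :=
  { SK := le_normalizer_subgroupOf' h.SK
    KM := le_normalizer_subgroupOf' h.KM
    SM := le_normalizer_subgroupOf' h.SM
    frob := fun x hx hx1 a ha hc => Subtype.ext (h.frob x hx (fun h0 => hx1 (Subtype.ext h0)) a ha
      (congrArg Subtype.val hc))
    solK := isSolvable_subgroupOf310 h.solK hK
    solM := isSolvable_subgroupOf310 h.solM hM
    copK := by rw [card_subgroupOf hK, card_subgroupOf hM]; exact h.copK
    copS := by rw [card_subgroupOf hS, card_subgroupOf hM]; exact h.copS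
    CMK := by
      rw [← card_eq_one, card_inf_centralizer_subgroupOf hM hK, h.CMK, card_bot] }

/-- the fixed point formula for a Frobenius group `KS` acting on a solvable group `M` with
`C_M(K) = 1`: `|M| = |C_M(S)| ^ |S|`. -/
theorem main310 (n : ℕ) : ∀ (X : Type u) [Group X] [Finite X] (K S M : Subgroup X),
    Nat.card M = n → Hyp310 K S M →
      Nat.card M = Nat.card (M ⊓ centralizer (S : Set X) : Subgroup X) ^ Nat.card S := by
  induction n using Nat.strong_induction_on with
  | _ n ih =>
    intro X _ _ K S M hn h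
    set Z : Subgroup X := M ⊔ (K ⊔ S) with hZ
    have hMZ : M ≤ Z := le_sup_left
    have hKZ : K ≤ Z := le_sup_left.trans le_sup_right
    have hSZ : S ≤ Z := le_sup_right.trans le_sup_right
    have h1 := main310_step (h.sub hKZ hSZ hMZ) (by
      apply map_injective Z.subtype_injective
      rw [Subgroup.map_sup, Subgroup.map_sup, subgroupOf_map_subtype, subgroupOf_map_subtype,
        subgroupOf_map_subtype, inf_of_le_left hMZ, inf_of_le_left hKZ, inf_of_le_left hSZ,
        ← MonoidHom.range_eq_map, range_subtype]) (by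
      intro Y _ _ K' S' M' hlt h'
      rw [card_subgroupOf hMZ, hn] at hlt
      exact ih _ hlt Y K' S' M' rfl h')
    rw [card_subgroupOf hMZ, card_subgroupOf hSZ, card_inf_centralizer_subgroupOf hMZ hSZ] at h1
    exact h1

/-! ### The cyclic fixed point case -/

structure Hyp310c (r : ℕ) (K M : Subgroup X) (ρ : X) : Prop where
  KM : K ≤ normalizer (M : Set X)
  ρM : ρ ∈ normalizer (M : Set X)
  ρK : ρ ∈ normalizer (K : Set X)
  fix : ∀ x ∈ K, Commute ρ x → x = 1
  solK : Group.IsSolvable K
  solM : Group.IsSolvable M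
  copK : (Nat.card K).Coprime (Nat.card M)
  rK : ¬ r ∣ Nat.card K
  rM : ¬ r ∣ Nat.card M
  cyc : IsCyclic (M ⊓ centralizer ({ρ} : Set X) : Subgroup X)

theorem isCyclic_of_le' {A B : Subgroup X} (h : A ≤ B) (hB : IsCyclic B) : IsCyclic A :=
  isCyclic_of_injective (Subgroup.inclusion h) (Subgroup.inclusion_injective h)

theorem isCyclic_map' {Y : Type*} [Group Y] (f : X →* Y) {A : Subgroup X} (hA : IsCyclic A) :
    IsCyclic (A.map f) :=
  isCyclic_of_surjective (f.subgroupMap A) (f.subgroupMap_surjective A)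

theorem Hyp310c.quot {r : ℕ} (hr : r.Prime) {K M : Subgroup X} {ρ : X} (hρr : ρ ^ r = 1)
    (h : Hyp310c r K M ρ) (N : Subgroup X) [hN : N.Normal]
    (hNM : N ≤ M) : Hyp310c r (K.map (QuotientGroup.mk' N)) (M.map (QuotientGroup.mk' N))
      (QuotientGroup.mk' N ρ) := by
  have hκs := QuotientGroup.mk'_surjective N
  have hNc := card_dvd_of_le hNM
  have hKN : K ⊓ N = ⊥ := inf_eq_bot_of_card_coprime (Nat.Coprime.coprime_dvd_right hNc h.copK)
  have hz : ∀ B : Subgroup X, ρ ∈ normalizer (B : Set X) → QuotientGroup.mk' N ρ ∈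
      normalizer ((B.map (QuotientGroup.mk' N) : Subgroup (X ⧸ N)) : Set (X ⧸ N)) := fun B hB =>
    le_normalizer_map' _ hκs (A := zpowers ρ) (by rw [zpowers_le]; exact hB)
      ⟨ρ, mem_zpowers ρ, rfl⟩
  exact
  { KM := le_normalizer_map' _ hκs h.KM
    ρM := hz M h.ρM
    ρK := hz K h.ρK
    fix := by
      rintro _ ⟨a, ha, rfl⟩ hc
      have h1 : ⁅ρ, a⁆ ∈ K ⊓ N := by
        refine mem_inf.mpr ⟨?_, ?_⟩
        · rw [commutatorElement_def]
          exact mul_mem ((mem_normalizer_iff.mp h.ρK a).mp ha) (inv_mem ha)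
        · rw [← QuotientGroup.eq_one_iff]
          show QuotientGroup.mk' N ⁅ρ, a⁆ = 1
          rw [map_commutatorElement, commutatorElement_eq_one_iff_mul_comm]
          exact hc
      rw [hKN, mem_bot, commutatorElement_eq_one_iff_mul_comm] at h1
      rw [h.fix a ha h1, map_one]
    solK := isSolvable_map _ h.solK
    solM := isSolvable_map _ h.solM
    copK := Nat.Coprime.coprime_dvd_left (card_map_dvd _ _)
      (Nat.Coprime.coprime_dvd_right (card_map_dvd _ _) h.copK)
    rK := fun h0 => h.rK (h0.trans (card_map_dvd _ _))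
    rM := fun h0 => h.rM (h0.trans (card_map_dvd _ _))
    cyc := by
      rw [map_inf_centralizer' hr hNM hρr h.rM]
      exact isCyclic_map' _ h.cyc }

theorem main310c_step {r : ℕ} (hr : r.Prime) {K M : Subgroup X} {ρ : X} (hρr : ρ ^ r = 1)
    (h : Hyp310c r K M ρ) (htop : M ⊔ (K ⊔ zpowers ρ) = ⊤)
    (ih : ∀ (Y : Type u) [Group Y] [Finite Y] (K' M' : Subgroup Y) (ρ' : Y),
      Nat.card M' < Nat.card M → ρ' ^ r = 1 → Hyp310c r K' M' ρ' →
      ⁅K', K'⁆ ≤ centralizer (M' : Set Y)) :
    ⁅K, K⁆ ≤ centralizer (M : Set X) := by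
  by_cases hM1 : M = ⊥
  · subst hM1
    intro x _
    rw [mem_centralizer_iff]
    intro y hy
    rw [SetLike.mem_coe, mem_bot] at hy
    rw [hy]; simp
  have hnorm : ∀ N : Subgroup X, M ≤ normalizer (N : Set X) → K ≤ normalizer (N : Set X) →
      ρ ∈ normalizer (N : Set X) → N.Normal := by
    intro N h1 h2 h3
    rw [← normalizer_eq_top_iff, eq_top_iff, ← htop]
    exact sup_le h1 (sup_le h2 (by rw [zpowers_le]; exact h3))
  haveI hMn : M.Normal := hnorm M le_normalizer h.KM h.ρM
  have hKK : ⁅K, K⁆ ≤ K := H23.commutator_le_of_le_normalizer le_normalizer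
  by_cases hred : ∃ N : Subgroup X, N.Normal ∧ N ≤ M ∧ N ≠ ⊥ ∧ N ≠ M
  · obtain ⟨N, hN, hNM, hN1, hN2⟩ := hred
    have hlt : N < M := lt_of_le_of_ne hNM hN2
    have hNc := card_dvd_of_le hNM
    have h1 := ih X K N ρ (card_lt_of_lt' hlt) hρr
      { KM := by rw [normalizer_eq_top]; exact le_top
        ρM := by rw [normalizer_eq_top]; trivial
        ρK := h.ρK
        fix := h.fix
        solK := h.solK
        solM := isSolvable_of_le hNM h.solM
        copK := Nat.Coprime.coprime_dvd_right hNc h.copK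
        rK := h.rK
        rM := fun h0 => h.rM (h0.trans hNc)
        cyc := isCyclic_of_le' (inf_le_inf_right _ hNM) h.cyc }
    have hq := card_map_mk'_mul N M
    rw [inf_of_le_right hNM] at hq
    have hcardN : 1 < Nat.card N := by
      rw [Nat.one_lt_iff_ne_zero_and_ne_one]
      exact ⟨Nat.card_pos.ne', fun h4 => hN1 (card_eq_one.mp h4)⟩
    have h2 := ih (X ⧸ N) _ _ _ (by
      rw [← hq]; exact lt_mul_of_one_lt_left Nat.card_pos hcardN)
      (by rw [← map_pow, hρr, map_one]) (h.quot hr hρr N hNM)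
    rw [← map_commutator] at h2
    have h3 : ⁅M, ⁅K, K⁆⁆ ≤ N := by
      rw [commutator_le]
      intro m hm k hk
      rw [← QuotientGroup.eq_one_iff]
      show QuotientGroup.mk' N ⁅m, k⁆ = 1
      rw [map_commutatorElement, commutatorElement_eq_one_iff_mul_comm]
      exact mem_centralizer_iff.mp (h2 ⟨k, hk, rfl⟩) _ ⟨m, hm, rfl⟩
    have h4 := H23.le_centralizer_of_commutator_le (A := ⁅K, K⁆) (G := M) (N := N)
      (by rw [normalizer_eq_top]; exact le_top)
      (Nat.Coprime.coprime_dvd_left (card_dvd_of_le hKK) h.copK) h3 (le_centralizer_iff.mp h1)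
    exact le_centralizer_iff.mp h4
  · push Not at hred
    have hmin : ∀ N : Subgroup X, N.Normal → N ≤ M → N = ⊥ ∨ N = M := by
      intro N hN hNM
      by_cases h0 : N = ⊥
      · exact Or.inl h0
      · exact Or.inr (hred N hN hNM h0)
    obtain ⟨hab, p, hp, hMp, hpow⟩ := minimal_normal_solvable hMn hM1 hmin h.solM
    haveI : Fact p.Prime := ⟨hp⟩
    have hVea : Cfsg.IsElementaryAbelian p M := ⟨hab, hpow⟩
    have hpM : p ∣ Nat.card M := by
      obtain ⟨n, hn⟩ := IsPGroup.iff_card.mp hMp
      rcases Nat.eq_zero_or_pos n with h0 | h0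
      · rw [h0, pow_zero] at hn
        exact absurd (card_eq_one.mp hn) hM1
      · rw [hn]; exact dvd_pow_self p h0.ne'
    have hpK : ¬ p ∣ Nat.card K := by
      intro hpn
      have h2 := Nat.dvd_gcd hpn hpM
      rw [h.copK.gcd_eq_one] at h2
      exact hp.one_lt.ne' (Nat.dvd_one.mp h2)
    refine bg35 hr hVea (by rw [normalizer_eq_top]; exact le_top)
      (by rw [normalizer_eq_top]; trivial) h.ρK hρr (by rintro rfl; exact h.rM hpM)
      (hr.coprime_iff_not_dvd.mpr h.rK).symm h.solK hpK h.fix ?_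
    obtain ⟨g, hg⟩ := h.cyc.exists_generator
    have h1 : orderOf g ∣ p := by
      apply orderOf_dvd_of_pow_eq_one
      exact Subtype.ext (hpow g (mem_inf.mp g.2).1)
    rw [orderOf_eq_card_of_forall_mem_zpowers hg] at h1
    exact Nat.le_of_dvd hp.pos h1

theorem main310c {r : ℕ} (hr : r.Prime) (n : ℕ) : ∀ (X : Type u) [Group X] [Finite X]
    (K M : Subgroup X) (ρ : X), Nat.card M = n → ρ ^ r = 1 → Hyp310c r K M ρ →
      ⁅K, K⁆ ≤ centralizer (M : Set X) := by
  induction n using Nat.strong_induction_on with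
  | _ n ih =>
    intro X _ _ K M ρ hn hρr h
    set Z : Subgroup X := M ⊔ (K ⊔ zpowers ρ) with hZ
    have hMZ : M ≤ Z := le_sup_left
    have hKZ : K ≤ Z := le_sup_left.trans le_sup_right
    have hSZ : zpowers ρ ≤ Z := le_sup_right.trans le_sup_right
    have hρZ : ρ ∈ Z := hSZ (mem_zpowers ρ)
    have hzp : (zpowers ρ).subgroupOf Z = zpowers (⟨ρ, hρZ⟩ : Z) := by
      apply map_injective Z.subtype_injective
      rw [subgroupOf_map_subtype, inf_of_le_left hSZ, MonoidHom.map_zpowers]
      rfl
    have h1 := main310c_step hr (K := K.subgroupOf Z) (M := M.subgroupOf Z) (ρ := ⟨ρ, hρZ⟩)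
      (Subtype.ext hρr)
      { KM := le_normalizer_subgroupOf' h.KM
        ρM := mem_normalizer_subgroupOf' hρZ h.ρM
        ρK := mem_normalizer_subgroupOf' hρZ h.ρK
        fix := fun x hx hc => Subtype.ext (h.fix x hx (congrArg Subtype.val hc))
        solK := isSolvable_subgroupOf310 h.solK hKZ
        solM := isSolvable_subgroupOf310 h.solM hMZ
        copK := by rw [card_subgroupOf hKZ, card_subgroupOf hMZ]; exact h.copK
        rK := by rw [card_subgroupOf hKZ]; exact h.rK
        rM := by rw [card_subgroupOf hMZ]; exact h.rM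
        cyc := by
          haveI := h.cyc
          refine isCyclic_of_injective (
            { toFun := fun x => ⟨x.1.1, mem_inf.mpr ⟨(mem_inf.mp x.2).1, by
                have h2 := (mem_inf.mp x.2).2
                rw [mem_centralizer_singleton_iff] at h2 ⊢
                exact congrArg Subtype.val h2⟩⟩
              map_one' := rfl
              map_mul' := fun _ _ => rfl } :
            (M.subgroupOf Z ⊓ centralizer ({⟨ρ, hρZ⟩} : Set Z) : Subgroup Z) →*
            (M ⊓ centralizer ({ρ} : Set X) : Subgroup X)) ?_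
          intro a b hab
          apply Subtype.ext
          apply Subtype.ext
          exact congrArg (fun z : (M ⊓ centralizer ({ρ} : Set X) : Subgroup X) => (z : X)) hab }
      (by
        rw [← hzp]
        apply map_injective Z.subtype_injective
        rw [Subgroup.map_sup, Subgroup.map_sup, subgroupOf_map_subtype, subgroupOf_map_subtype,
          subgroupOf_map_subtype, inf_of_le_left hMZ, inf_of_le_left hKZ, inf_of_le_left hSZ,
          ← MonoidHom.range_eq_map, range_subtype])
      (by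
        intro Y _ _ K' M' ρ' hlt hρ' h'
        rw [card_subgroupOf hMZ, hn] at hlt
        exact ih _ hlt Y K' M' ρ' rfl hρ' h')
    rw [commutator_subgroupOf' hKZ hKZ] at h1
    have hKK : ⁅K, K⁆ ≤ K := H23.commutator_le_of_le_normalizer le_normalizer
    intro x hx
    rw [mem_centralizer_iff]
    intro y hy
    have h2 := mem_centralizer_iff.mp (h1 (show (⟨x, hKZ (hKK hx)⟩ : Z) ∈
      (⁅K, K⁆ : Subgroup X).subgroupOf Z from hx)) ⟨y, hMZ hy⟩ hy
    exact congrArg Subtype.val h2

/-- a group with a fixed point free automorphism of prime order `r` has order `≡ 1 mod r` -/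
theorem card_modEq_one_of_fix {r : ℕ} [hr : Fact r.Prime] {K : Subgroup X} {ρ : X}
    (hρK : ρ ∈ normalizer (K : Set X)) (hρr : ρ ^ r = 1) (hfix : ∀ x ∈ K, Commute ρ x → x = 1) :
    ¬ r ∣ Nat.card K := by
  letI : MulAction (zpowers (⟨ρ, hρK⟩ : normalizer (K : Set X))) K :=
    MulAction.compHom K ((K.normalizerMonoidHom).comp
      (zpowers (⟨ρ, hρK⟩ : normalizer (K : Set X))).subtype)
  have hpg : IsPGroup r (zpowers (⟨ρ, hρK⟩ : normalizer (K : Set X))) := by
    rw [IsPGroup.iff_card]
    have h1 : Nat.card (zpowers (⟨ρ, hρK⟩ : normalizer (K : Set X))) ∣ r := by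
      rw [Nat.card_zpowers]
      exact orderOf_dvd_of_pow_eq_one (Subtype.ext hρr)
    rcases (Nat.dvd_prime hr.out).mp h1 with h2 | h2
    · exact ⟨0, by rw [h2, pow_zero]⟩
    · exact ⟨1, by rw [h2, pow_one]⟩
  have h1 := hpg.card_modEq_card_fixedPoints K
  have h2 : Nat.card (MulAction.fixedPoints
      (zpowers (⟨ρ, hρK⟩ : normalizer (K : Set X))) K) = 1 := by
    rw [Nat.card_eq_one_iff_unique]
    constructor
    · constructor
      have key : ∀ a : MulAction.fixedPoints (zpowers (⟨ρ, hρK⟩ : normalizer (K : Set X))) K,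
          (a : K) = 1 := by
        rintro ⟨a, ha⟩
        have h3 := ha ⟨⟨ρ, hρK⟩, mem_zpowers _⟩
        have h4 : ρ * (a : X) * ρ⁻¹ = a := congrArg Subtype.val h3
        apply Subtype.ext
        exact hfix a a.2 (mul_inv_eq_iff_eq_mul.mp h4)
      intro a b
      apply Subtype.ext
      rw [key a, key b]
    · refine ⟨⟨1, fun s => ?_⟩⟩
      show (K.normalizerMonoidHom (s : normalizer (K : Set X))) 1 = 1
      rw [map_one]
  rw [h2] at h1
  intro h3
  have h4 := (Nat.modEq_zero_iff_dvd.mpr h3).symm.trans h1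
  have h5 := (Nat.modEq_iff_dvd' (Nat.zero_le 1)).mp h4
  exact hr.out.one_lt.ne' (Nat.dvd_one.mp h5)

end Cfsg.Agent.H1
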