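import Cfsg.Agent.H1.Weight

/-!
# Bender–Glauberman Theorem 3.5 (helper1)
-/

set_option autoImplicit false

namespace Cfsg.Agent.H1

open Subgroup
open scoped commutatorElement Pointwise

universe u v w

section Lin

variable {F : Type*} [Field F] {G : Type u} [Group G] [Finite G] {M : Type v} [AddCommGroup M]
  [Module F M]

omit [Finite G] in
theorem smul_line_inv (π : Representation F G M) (g : G) (m : M) (h : π g m = m) :
    π g⁻¹ m = m := by
  conv_lhs => rw [← h]
  rw [← Module.End.mul_apply, pi_inv_mul, Module.End.one_apply]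

/-- the stabilizer of a vector -/
def vstab (π : Representation F G M) (m : M) : Subgroup G where
  carrier := {g | π g m = m}
  mul_mem' := fun {a b} ha hb => by
    show π (a * b) m = m
    rw [map_mul, Module.End.mul_apply, show π b m = m from hb, show π a m = m from ha]
  one_mem' := by show π 1 m = m; rw [map_one, Module.End.one_apply]
  inv_mem' := fun {a} ha => smul_line_inv π a m ha

omit [Finite G] in
theorem mem_vstab {π : Representation F G M} {m : M} {g : G} : g ∈ vstab π m ↔ π g m = m := Iff.rfl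

omit [Finite G] in
/-- a group acting by scalars on a line: its derived group acts trivially -/
theorem commutator_le_vstab {π : Representation F G M} {m : M} {K : Subgroup G}
    (h : ∀ k ∈ K, ∃ c : F, π k m = c • m) : ⁅K, K⁆ ≤ vstab π m := by
  rw [commutator_le]
  intro a ha b hb
  obtain ⟨c, hc⟩ := h a ha
  obtain ⟨d, hd⟩ := h b hb
  obtain ⟨c', hc'⟩ := h a⁻¹ (inv_mem ha)
  obtain ⟨d', hd'⟩ := h b⁻¹ (inv_mem hb)
  rw [mem_vstab, commutatorElement_def]
  have h1 : π (a * b * a⁻¹ * b⁻¹) m = (d' * c' * d * c) • m := by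
    simp only [map_mul, Module.End.mul_apply, hd', hc', hd, hc, map_smul, smul_smul]
    congr 1; ring
  have h2 : π (a⁻¹ * a * b⁻¹ * b) m = (d * d' * c * c') • m := by
    simp only [map_mul, Module.End.mul_apply, hd', hc', hd, hc, map_smul, smul_smul]
    congr 1; ring
  have h3 : a⁻¹ * a * b⁻¹ * b = 1 := by group
  rw [h3, map_one, Module.End.one_apply] at h2
  rw [h1]
  conv_rhs => rw [h2]
  congr 1
  ring

omit [Finite G] in
theorem cwt_eq_of_mem_zpowers {N : Subgroup G} [N.Normal] {ρ : G} {ψ : N →* Fˣ}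
    (h : cwt ρ ψ = ψ) {a : G} (ha : a ∈ zpowers ρ) : cwt a ψ = ψ := by
  letI := cwtAction F N
  have h1 : zpowers ρ ≤ MulAction.stabilizer G ψ := by
    rw [zpowers_le]; exact h
  exact h1 ha

/-- a character of `N = [N, ρ]` fixed by `ρ` is trivial -/
theorem eq_one_of_cwt_eq {N : Subgroup G} [hN : N.Normal] {ρ : G} {ψ : N →* Fˣ}
    (hNρ : ⁅N, zpowers ρ⁆ = N) (h : cwt ρ ψ = ψ) : ψ = 1 := by
  have h1 : ⁅N, zpowers ρ⁆ ≤ ψ.ker.map N.subtype := by
    rw [commutator_le]
    intro n hn a ha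
    have h2 := cwt_eq_of_mem_zpowers h (inv_mem ha)
    refine ⟨⟨n, hn⟩ * ⟨a * n⁻¹ * a⁻¹, hN.conj_mem _ (inv_mem hn) a⟩, ?_, ?_⟩
    · rw [SetLike.mem_coe, MonoidHom.mem_ker, map_mul]
      have h3 := DFunLike.congr_fun h2 (⟨n⁻¹, inv_mem hn⟩ : N)
      rw [cwt_apply] at h3
      have h4 : ψ ⟨a * n⁻¹ * a⁻¹, hN.conj_mem _ (inv_mem hn) a⟩ = ψ ⟨n⁻¹, inv_mem hn⟩ := by
        rw [← h3]
        congr 1
        apply Subtype.ext
        show a * n⁻¹ * a⁻¹ = a⁻¹⁻¹ * n⁻¹ * a⁻¹
        rw [inv_inv]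
      rw [h4, ← map_mul]
      have h5 : (⟨n, hn⟩ : N) * ⟨n⁻¹, inv_mem hn⟩ = 1 := Subtype.ext (mul_inv_cancel n)
      rw [h5, map_one]
    · show n * (a * n⁻¹ * a⁻¹) = ⁅n, a⁆
      rw [commutatorElement_def]; group
  rw [hNρ] at h1
  ext n
  obtain ⟨x, hx, hxn⟩ := h1 n.2
  have : x = n := Subtype.ext hxn
  rw [← this, MonoidHom.mem_ker.mp hx]
  rfl

theorem bg35_top [IsAlgClosed F] [FiniteDimensional F M] {K : Subgroup G} [hKn : K.Normal] {ρ : G}
    {r : ℕ} (hr : r.Prime) (hρ : ρ ^ r = 1) (hcop : (Nat.card K).Coprime r)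
    (hfixK : ∀ x ∈ K, Commute ρ x → x = 1) (hKF : (Nat.card K : F) ≠ 0)
    (π : Representation F G M) (hline : FixLine π ρ)
    (hcomm : ∀ a ∈ ⁅K, K⁆, ∀ b ∈ ⁅K, K⁆, π a * π b = π b * π a) : ∀ n ∈ ⁅K, K⁆, π n = 1 := by
  set N : Subgroup G := ⁅K, K⁆ with hNdef
  have hNK : N ≤ K := commutator_le_self K
  have hNdvd : Nat.card N ∣ Nat.card K := card_dvd_of_le hNK
  have hNF : (Nat.card N : F) ≠ 0 := by
    obtain ⟨m, hm⟩ := hNdvd
    intro h0
    apply hKF
    rw [hm, Nat.cast_mul, h0, zero_mul]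
  obtain ⟨ι, _, b, μ, hb⟩ := exists_eigenbasis_of_comm hNF (π.comp N.subtype)
    (fun x y => hcomm x x.2 y y.2)
  have hbw : ∀ i, b i ∈ wt π N (μ i) := fun i n => hb n i
  by_cases hall : ∀ i, μ i = 1
  · intro n hn
    apply b.ext
    intro i
    have h1 := hbw i ⟨n, hn⟩
    rw [hall i] at h1
    rw [Module.End.one_apply]
    simpa using h1
  exfalso
  push Not at hall
  obtain ⟨i, hi⟩ := hall
  set χ := μ i with hχ
  have hm := hbw i
  have hm0 : b i ≠ 0 := b.ne_zero i
  -- `[N, ρ] = N`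
  have hA : zpowers ρ ≤ normalizer (N : Set G) := by rw [normalizer_eq_top]; exact le_top
  have hcopA : (Nat.card (zpowers ρ)).Coprime (Nat.card N) := by
    have h1 : Nat.card (zpowers ρ) ∣ r := by
      rw [Nat.card_zpowers]; exact orderOf_dvd_of_pow_eq_one hρ
    exact Nat.Coprime.coprime_dvd_left h1 (Nat.Coprime.coprime_dvd_right hNdvd hcop.symm)
  have hNρ : ⁅N, zpowers ρ⁆ = N := by
    have h1 := H23.commutator_sup_centralizer hA hcopA (Or.inl inferInstance)
    have h2 : N ⊓ centralizer ((zpowers ρ : Subgroup G) : Set G) = ⊥ := by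
      rw [eq_bot_iff]
      intro x hx
      have h3 := mem_centralizer_iff.mp (mem_inf.mp hx).2 ρ (mem_zpowers ρ)
      rw [mem_bot]
      exact hfixK x (hNK (mem_inf.mp hx).1) h3
    rwa [h2, sup_bot_eq] at h1
  have hmoved : ∀ ψ : N →* Fˣ, ψ ≠ 1 → cwt ρ ψ ≠ ψ := fun ψ h1 h2 => h1 (eq_one_of_cwt_eq hNρ h2)
  have hnt : ∀ g : G, cwt g χ ≠ 1 := by
    intro g h1
    apply hi
    have h2 : cwt g⁻¹ (cwt g χ) = χ := by rw [← cwt_mul, inv_mul_cancel, cwt_one]
    rw [← h2, h1]
    ext n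
    rw [cwt_apply]; rfl
  -- `K` fixes `χ`
  letI := cwtAction F N
  have horb : Nat.card (MulAction.orbit G χ) = r := by
    have hf : ∀ j : Fin r, cwt (ρ ^ (j : ℕ)) χ ∈ MulAction.orbit G χ := fun j => ⟨ρ ^ (j : ℕ), rfl⟩
    have hbij : Function.Bijective (fun j : Fin r =>
        (⟨cwt (ρ ^ (j : ℕ)) χ, hf j⟩ : MulAction.orbit G χ)) := by
      constructor
      · have key : ∀ i j : ℕ, i < j → j < r → cwt (ρ ^ i) χ ≠ cwt (ρ ^ j) χ := by
          intro i j hij hj h1
          have h2 : cwt (ρ ^ (j - i)) χ = χ := by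
            have h3 := congrArg (cwt (ρ ^ i)⁻¹) h1
            rw [← cwt_mul, ← cwt_mul, inv_mul_cancel, cwt_one] at h3
            have h4 : (ρ ^ i)⁻¹ * ρ ^ j = ρ ^ (j - i) := by
              rw [inv_mul_eq_iff_eq_mul, ← pow_add]; congr 1; omega
            rw [h4] at h3
            exact h3.symm
          exact cwt_pow_injOn hr hρ (hmoved χ hi) (by omega) (by omega) h2
        intro a b' hab
        have h1 : cwt (ρ ^ (a : ℕ)) χ = cwt (ρ ^ (b' : ℕ)) χ := congrArg Subtype.val hab
        apply Fin.ext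
        rcases lt_trichotomy (a : ℕ) (b' : ℕ) with h | h | h
        · exact absurd h1 (key _ _ h b'.2)
        · exact h
        · exact absurd h1.symm (key _ _ h a.2)
      · rintro ⟨_, g, rfl⟩
        obtain ⟨j, hj, hje⟩ := wt_orbit hNF hr hρ hline (χ := cwt g χ) (ψ := χ)
          (hmoved _ (hnt g)) (hmoved χ hi) (wt_map hm g) (by
            intro h0
            apply hm0
            have : π g⁻¹ (π g (b i)) = 0 := by rw [h0, map_zero]
            rwa [← Module.End.mul_apply, pi_inv_mul, Module.End.one_apply] at this) hm hm0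
        exact ⟨⟨j, hj⟩, Subtype.ext hje⟩
    rw [← Nat.card_congr (Equiv.ofBijective _ hbij), Nat.card_fin]
  have hKst : K ≤ MulAction.stabilizer G χ := by
    rw [← relIndex_eq_one]
    have h1 : (MulAction.stabilizer G χ).relIndex K ∣ r := by
      have h3 := MulAction.index_stabilizer G χ
      rw [← Nat.card_coe_set_eq, horb] at h3
      rw [← h3]
      exact relIndex_dvd_index_of_normal_right (G := G) _ _
    have h2 : (MulAction.stabilizer G χ).relIndex K ∣ Nat.card K := relIndex_dvd_card _ _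
    exact Nat.eq_one_of_dvd_coprimes hcop h2 h1
  -- `K` acts by scalars on the weight line
  have hsc : ∀ k ∈ K, ∃ c : F, π k (b i) = c • b i := by
    intro k hk
    have h1 := wt_map hm k
    have h2 : cwt k χ = χ := hKst hk
    rw [h2] at h1
    exact wt_line hNF hr hρ hline (hmoved χ hi) h1 hm hm0
  have hfixb : ∀ n ∈ N, π n (b i) = b i := fun n hn => commutator_le_vstab hsc hn
  apply hi
  ext n
  have h1 := hm n
  rw [hfixb n n.2] at h1
  have h2 : ((χ n : F) - 1) • b i = 0 := by rw [sub_smul, one_smul, ← h1, sub_self]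
  rcases smul_eq_zero.mp h2 with h | h
  · rw [sub_eq_zero.mp h]; rfl
  · exact absurd h hm0

/-- **BG 3.5**, linear form -/
theorem bg35_lin [IsAlgClosed F] {r : ℕ} (hr : r.Prime) (n : ℕ) :
    ∀ (G : Type u) [Group G] [Finite G] (K : Subgroup G) (ρ : G), Nat.card K = n →
    ρ ∈ normalizer (K : Set G) → ρ ^ r = 1 → (Nat.card K).Coprime r →
    Group.IsSolvable K → (Nat.card K : F) ≠ 0 → (∀ x ∈ K, Commute ρ x → x = 1) →
    ∀ (M : Type v) [AddCommGroup M] [Module F M] [FiniteDimensional F M]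
      (π : Representation F G M), FixLine π ρ → ∀ x ∈ ⁅K, K⁆, π x = 1 := by
  induction n using Nat.strong_induction_on with
  | _ n ih =>
    intro G _ _ K ρ hn hρ hρr hcop hs hKF hfix M _ _ _ π hline x hx
    by_cases hK : K = ⊥
    · subst hK
      rw [commutator_bot_left, mem_bot] at hx
      rw [hx, map_one]
    -- the derived group is smaller
    have hlt : ⁅K, K⁆ < K := by
      refine lt_of_le_of_ne (commutator_le_self K) fun h => hK ?_
      obtain ⟨n, hn⟩ := (isSolvable_def K).mp hs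
      have key : ∀ n, (derivedSeries K n).map K.subtype = K := by
        intro n
        induction n with
        | zero => rw [derivedSeries_zero, ← MonoidHom.range_eq_map, range_subtype]
        | succ n ih => rw [derivedSeries_succ, map_commutator, ih, h]
      have := key n
      rw [hn, Subgroup.map_bot] at this
      exact this.symm
    set N : Subgroup G := ⁅K, K⁆ with hN
    have hρN : ρ ∈ normalizer (N : Set G) := by
      rw [H1.mem_normalizer_iff_conj_smul, hN, H23.conj_smul_commutator,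
        H1.mem_normalizer_iff_conj_smul.mp hρ]
    have hdvd := card_dvd_of_le hlt.le
    have h1 := ih (Nat.card N) (by rw [← hn]; exact card_lt_of_lt' hlt) G N ρ rfl hρN hρr
      (Nat.Coprime.coprime_dvd_left hdvd hcop) (isSolvable_of_le hlt.le hs) (by
        obtain ⟨m, hm⟩ := hdvd
        intro h0
        apply hKF
        rw [hm, Nat.cast_mul, h0, zero_mul]) (fun x hx => hfix x (hlt.le hx)) M π hline
    have hcomm : ∀ a ∈ N, ∀ b ∈ N, π a * π b = π b * π a := by
      intro a ha b hb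
      have h2 := h1 _ (commutator_mem_commutator ha hb)
      have h3 : a * b = ⁅a, b⁆ * (b * a) := by rw [commutatorElement_def]; group
      rw [← map_mul, h3, map_mul, h2, one_mul, map_mul]
    -- pass to the normalizer of `K`
    set H := normalizer (K : Set G) with hH
    have hKH : K ≤ H := le_normalizer
    have hKc : Nat.card (K.subgroupOf H) = Nat.card K := card_subgroupOf hKH
    haveI : (K.subgroupOf H).Normal := normal_in_normalizer
    have hmap : (⁅K.subgroupOf H, K.subgroupOf H⁆).map H.subtype = N := by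
      rw [map_commutator, subgroupOf_map_subtype, inf_of_le_left hKH]
    have key := bg35_top (F := F) (K := K.subgroupOf H) (ρ := (⟨ρ, hρ⟩ : H)) hr
      (Subtype.ext hρr) (by rw [hKc]; exact hcop)
      (fun x hx hc => Subtype.ext (hfix x hx (congrArg Subtype.val hc)))
      (by rw [hKc]; exact hKF) (π.comp H.subtype) hline (by
        intro a ha b hb
        have ha' : (a : G) ∈ N := by rw [← hmap]; exact ⟨a, ha, rfl⟩
        have hb' : (b : G) ∈ N := by rw [← hmap]; exact ⟨b, hb, rfl⟩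
        exact hcomm a ha' b hb')
    have hx' := hx
    rw [← hmap] at hx'
    obtain ⟨y, hy, rfl⟩ := hx'
    exact key y hy

end Lin

section Main

variable {X : Type u} [Group X] [Finite X]

/-- the fixed line -/
theorem fixLine_of_card_le {ℓ : ℕ} [hℓ : Fact ℓ.Prime] {V : Subgroup X} {F : Type v} [Field F]
    [CharP F ℓ] {M : Type w} [AddCommGroup M] [Module F M] (R : RepOf V F M)
    {ρ : normalizer (V : Set X)} {r : ℕ} (hρ : ρ ^ r = 1) (hrF : (r : F) ≠ 0)
    (hfix : Nat.card (V ⊓ centralizer ({(ρ : X)} : Set X) : Subgroup X) ≤ ℓ) (hVℓ : IsPGroup ℓ V) :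
    FixLine R.rep ρ := by
  set C : Subgroup X := V ⊓ centralizer ({(ρ : X)} : Set X) with hC
  have hCp : IsPGroup ℓ C := hVℓ.to_le inf_le_left
  -- `C` is cyclic
  have hcyc : IsCyclic C := by
    obtain ⟨n, hn⟩ := IsPGroup.iff_card.mp hCp
    rw [hn] at hfix
    have : n ≤ 1 := by
      by_contra h
      push Not at h
      have : ℓ ^ 1 < ℓ ^ n := Nat.pow_lt_pow_right hℓ.out.one_lt h
      rw [pow_one] at this
      omega
    interval_cases n
    · rw [pow_zero] at hn
      haveI : Subsingleton C := (Nat.card_eq_one_iff_unique.mp hn).1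
      exact isCyclic_of_subsingleton
    · rw [pow_one] at hn
      exact isCyclic_of_prime_card hn
  obtain ⟨w, hw⟩ := hcyc.exists_generator
  have hc : (Nat.card (zpowers ρ) : F) ≠ 0 := by
    have h1 : Nat.card (zpowers ρ) ∣ r := by
      rw [Nat.card_zpowers]; exact orderOf_dvd_of_pow_eq_one hρ
    obtain ⟨k, hk⟩ := h1
    intro h0
    apply hrF
    rw [hk, Nat.cast_mul, h0, zero_mul]
  refine ⟨R.ι ⟨w, (mem_inf.mp w.2).1⟩, fun m hm => ?_⟩
  have h1 := R.mem_span_fixed (zpowers ρ) hc (m := m) (by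
    intro s hs
    have h2 : zpowers ρ ≤ vstab R.rep m := by rw [zpowers_le]; exact hm
    exact h2 hs)
  refine Submodule.span_le.mpr ?_ h1
  rintro _ ⟨v, hv, rfl⟩
  have h3 := hv ρ (mem_zpowers ρ)
  have hvC : (v : X) ∈ C := by
    refine mem_inf.mpr ⟨v.2, ?_⟩
    rw [mem_centralizer_singleton_iff]
    exact (mul_inv_eq_iff_eq_mul.mp h3).symm
  obtain ⟨k, hk⟩ := mem_powers_iff_mem_zpowers.mpr (hw ⟨v, hvC⟩)
  have h4 : v = (⟨w, (mem_inf.mp w.2).1⟩ : V) ^ k := by
    apply Subtype.ext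
    have := congrArg Subtype.val hk
    rw [SubmonoidClass.coe_pow]
    exact this.symm
  rw [h4, R.ι_pow]
  exact Submodule.smul_mem _ _ (Submodule.mem_span_singleton_self _)

/-- **BG 3.5** for solvable `K` -/
theorem bg35 {ℓ : ℕ} [hℓ : Fact ℓ.Prime] {V K : Subgroup X} {ρ : X} {r : ℕ} (hr : r.Prime)
    (hV : Cfsg.IsElementaryAbelian ℓ V) (hKV : K ≤ normalizer (V : Set X))
    (hρV : ρ ∈ normalizer (V : Set X)) (hρK : ρ ∈ normalizer (K : Set X)) (hρr : ρ ^ r = 1)
    (hrℓ : r ≠ ℓ) (hcop : (Nat.card K).Coprime r)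
    (hs : Group.IsSolvable K) (hKℓ : ¬ ℓ ∣ Nat.card K) (hfixK : ∀ x ∈ K, Commute ρ x → x = 1)
    (hfix : Nat.card (V ⊓ centralizer ({ρ} : Set X) : Subgroup X) ≤ ℓ) :
    ⁅K, K⁆ ≤ centralizer (V : Set X) := by
  obtain ⟨F, _, _, _, M, _, _, _, ⟨R⟩⟩ := exists_repOf hV
  have hrF : (r : F) ≠ 0 := cast_ne_zero_of_not_dvd (ℓ := ℓ) fun h =>
    hrℓ ((Nat.prime_dvd_prime_iff_eq hℓ.out hr).mp h).symm
  set N := normalizer (V : Set X) with hN
  have hρr' : (⟨ρ, hρV⟩ : N) ^ r = 1 := Subtype.ext hρr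
  have hc : Nat.card (K.subgroupOf N) = Nat.card K := card_subgroupOf hKV
  have hline : FixLine R.rep (⟨ρ, hρV⟩ : N) :=
    fixLine_of_card_le (ℓ := ℓ) R hρr' hrF hfix (OOT.isEA_isPGroup hV)
  have key := bg35_lin (F := F) hr (Nat.card (K.subgroupOf N)) N (K.subgroupOf N)
    (⟨ρ, hρV⟩ : N) rfl (by
      rw [mem_normalizer_iff]
      intro g
      rw [mem_subgroupOf, mem_subgroupOf]
      exact mem_normalizer_iff.mp hρK g) hρr' (by rw [hc]; exact hcop)
    (by
      haveI := hs
      exact Group.isSolvable_of_isSolvable_injective (f := (subgroupOfEquivOfLe hKV).toMonoidHom)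
        (subgroupOfEquivOfLe hKV).injective)
    (by rw [hc]; exact cast_ne_zero_of_not_dvd (ℓ := ℓ) hKℓ)
    (fun x hx hcm => Subtype.ext (hfixK x hx (congrArg Subtype.val hcm))) M R.rep hline
  have hmap : (⁅K.subgroupOf N, K.subgroupOf N⁆).map N.subtype = ⁅K, K⁆ := by
    rw [map_commutator, subgroupOf_map_subtype, inf_of_le_left hKV]
  intro x hx
  rw [← hmap] at hx
  obtain ⟨y, hy, rfl⟩ := hx
  exact R.mem_centralizer_of_rep_eq_one (key y hy)

end Main

end Cfsg.Agent.H1
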