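import Cfsg.Agent.H1.BG36M
import Cfsg.Agent.H1.Cyc

/-!
# Bender–Glauberman Theorem 3.6: the main induction (helper1)
-/

set_option autoImplicit false

namespace Cfsg.Agent.H1

open Subgroup Cfsg
open scoped commutatorElement Pointwise

universe u v w

theorem cyclic_unique {A : Type*} [Group A] [Finite A] [IsCyclic A] {p : ℕ} (hp : p.Prime)
    {v x : A} (hv : orderOf v = p) (hx : orderOf x = p) : v ∈ zpowers x := by
  classical
  letI := Fintype.ofFinite A
  have h1 : (Finset.univ.filter (fun y : A => y ^ p = 1)).card ≤ p :=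
    IsCyclic.card_pow_eq_one_le hp.pos
  have h2 : (zpowers x : Set A).toFinset ⊆ Finset.univ.filter (fun y => y ^ p = 1) := by
    intro y hy
    rw [Set.mem_toFinset] at hy
    obtain ⟨k, rfl⟩ := mem_zpowers_iff.mp hy
    simp only [Finset.mem_filter, Finset.mem_univ, true_and]
    rw [← zpow_natCast, ← zpow_mul, mul_comm, zpow_mul, zpow_natCast, ← hx, pow_orderOf_eq_one,
      one_zpow]
  have h3 : (zpowers x : Set A).toFinset.card = p := by
    rw [Set.toFinset_card, ← Nat.card_eq_fintype_card]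
    show Nat.card (zpowers x) = p
    rw [Nat.card_zpowers, hx]
  have h4 := Finset.eq_of_subset_of_card_le h2 (by omega)
  have h5 : v ∈ Finset.univ.filter (fun y : A => y ^ p = 1) := by
    simp only [Finset.mem_filter, Finset.mem_univ, true_and]
    rw [← hv, pow_orderOf_eq_one]
  rw [← h4, Set.mem_toFinset] at h5
  exact h5

section Gen

variable {p : ℕ} [hp : Fact p.Prime]

theorem le_of_isPGroup_of_relIndex {X : Type u} [Group X] [Finite X] {V K P : Subgroup X}
    [V.Normal] (hVK : V ≤ K) (hi : (V.relIndex K).Coprime p) (hP : IsPGroup p P) (hPK : P ≤ K) :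
    P ≤ V := by
  rw [← relIndex_eq_one]
  have h1 : V.relIndex P ∣ V.relIndex K := by
    have h2 := relIndex_mul_relIndex V (P ⊔ V) K le_sup_right (sup_le hPK hVK)
    rw [relIndex_sup_right] at h2
    exact Dvd.intro _ h2
  have h2 : V.relIndex P ∣ Nat.card P := relIndex_dvd_card _ _
  obtain ⟨n, hn⟩ := IsPGroup.iff_card.mp hP
  rw [hn] at h2
  exact Nat.Coprime.eq_one_of_dvd (Nat.Coprime.coprime_dvd_left h1 (Nat.Coprime.pow_right n hi)) h2

theorem t4_aux {L : Type u} [Group L] [Finite L] (h : PLengthLE p 1 L) {D₁ P₁ U : Subgroup L}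
    (hD : ¬ p ∣ Nat.card D₁) (hP : IsPGroup p P₁)
    (hDP : D₁ ≤ ⁅D₁, P₁⁆) [hUn : U.Normal] (hU : IsPGroup p U) :
    D₁ ≤ centralizer (U : Set L) := by
  rw [OOT.plength_one_iff] at h
  haveI hMn := H10.pPrimePCore_normal p L
  haveI hNn := pPrimeCore_normal p L
  set M := pPrimePCore p L with hM
  set N := pPrimeCore p L with hN
  have hDc : (Nat.card D₁).Coprime p := (hp.out.coprime_iff_not_dvd.mpr hD).symm
  have hPM : P₁ ≤ M := le_of_isPGroup_of_relIndex (K := ⊤) le_top (by
    rw [relIndex_top_right]; exact h) hP le_top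
  have hDM : D₁ ≤ M := hDP.trans ((commutator_mono le_rfl hPM).trans (commutator_le_right _ _))
  have hDN : D₁ ≤ N := by
    rw [← relIndex_eq_one]
    obtain ⟨m, hm⟩ := OOT.relIndex_pPrimeCore_pPrimePCore p L
    have h1 : N.relIndex D₁ ∣ p ^ m := by
      have hNM : N ≤ M := by rw [hN, hM]; exact le_comap_mk' _ _
      have h2 := relIndex_mul_relIndex N (D₁ ⊔ N) M le_sup_right (sup_le hDM hNM)
      rw [relIndex_sup_right, hm] at h2
      exact Dvd.intro _ h2
    exact Nat.Coprime.eq_one_of_dvd (Nat.Coprime.coprime_dvd_left (relIndex_dvd_card _ _)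
      (Nat.Coprime.pow_right m hDc)) h1
  have hUN : U ⊓ N = ⊥ := by
    apply inf_eq_bot_of_card_coprime
    obtain ⟨n, hn⟩ := IsPGroup.iff_card.mp hU
    rw [hn]
    exact Nat.Coprime.pow_left n (pPrimeCore_coprime p L).symm
  rw [← commutator_eq_bot_iff_le_centralizer, commutator_comm, eq_bot_iff, ← hUN]
  exact le_inf (commutator_le_left _ _) ((commutator_mono le_rfl hDN).trans
    (commutator_le_right _ _))

theorem t4 {Y : Type u} [Group Y] [Finite Y] {L : Subgroup Y} (h : PLengthLE p 1 L)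
    {D₁ P₁ U : Subgroup Y} (hDL : D₁ ≤ L) (hPL : P₁ ≤ L) (hUL : U ≤ L)
    (hD : ¬ p ∣ Nat.card D₁) (hP : IsPGroup p P₁) (hDP : D₁ ≤ ⁅D₁, P₁⁆)
    (hUn : L ≤ normalizer (U : Set Y)) (hU : IsPGroup p U) : D₁ ≤ centralizer (U : Set Y) := by
  haveI := normal_subgroupOf' hUn
  have h1 := t4_aux h (D₁ := D₁.subgroupOf L) (P₁ := P₁.subgroupOf L) (U := U.subgroupOf L)
    (by rw [card_subgroupOf hDL]; exact hD) (hP.of_equiv (subgroupOfEquivOfLe hPL).symm)
    (by
      rw [commutator_subgroupOf' hDL hPL]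
      intro x hx
      exact hDP hx) (hU.of_equiv (subgroupOfEquivOfLe hUL).symm)
  intro x hx
  rw [mem_centralizer_iff]
  intro y hy
  have h2 := mem_centralizer_iff.mp (h1 (show (⟨x, hDL hx⟩ : L) ∈ D₁.subgroupOf L from hx))
    ⟨y, hUL hy⟩ hy
  exact congrArg Subtype.val h2

theorem isZGroup_map {X Y : Type*} [Group X] [Finite X] [Group Y] (f : X →* Y) {A : Subgroup X}
    (h : IsZGroup A) : IsZGroup (A.map f) :=
  IsZGroup.of_surjective (f := f.subgroupMap A) (f.subgroupMap_surjective A)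

structure Hyp36 {X : Type u} [Group X] (r : ℕ) (H R : Subgroup X) (ρ : X) : Prop where
  RH : R ≤ normalizer (H : Set X)
  ρR : ρ ∈ R
  cop : (Nat.card R).Coprime (Nat.card H)
  solv : Group.IsSolvable H
  odd : Odd (Nat.card H)
  ZH : IsZGroup (H ⊓ centralizer ({ρ} : Set X) : Subgroup X)
  rH : ¬ r ∣ Nat.card H

/-- images of centralizers in the quotient -/
theorem map_inf_centralizer' {X : Type u} [Group X] [Finite X] {r : ℕ} (hr : r.Prime)
    {H N : Subgroup X} [hN : N.Normal] (hNH : N ≤ H) {ρ : X} (hρr : ρ ^ r = 1)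
    (hrH : ¬ r ∣ Nat.card H) :
    H.map (QuotientGroup.mk' N) ⊓ centralizer ({QuotientGroup.mk' N ρ} : Set (X ⧸ N)) =
      (H ⊓ centralizer ({ρ} : Set X)).map (QuotientGroup.mk' N) := by
  set κ := QuotientGroup.mk' N with hκ
  have hκ1 : ∀ y : X, κ y = 1 ↔ y ∈ N := fun y => QuotientGroup.eq_one_iff y
  apply le_antisymm
  · rintro _ hz
    obtain ⟨⟨x, hx, rfl⟩, hc⟩ := mem_inf.mp hz
    rw [mem_centralizer_singleton_iff] at hc
    have h1 : x⁻¹ * ρ * x * ρ⁻¹ ∈ N := by
      rw [← hκ1]
      simp only [map_mul, map_inv]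
      rw [mul_assoc ((κ x)⁻¹), ← hc]
      group
    obtain ⟨n, hn, hcn⟩ := exists_mem_centralizer_of_comm hρr
      (by rw [normalizer_eq_top]; trivial : ρ ∈ normalizer (N : Set X))
      (by
        rw [hr.coprime_iff_not_dvd]
        exact fun h => hrH (h.trans (card_dvd_of_le hNH))) h1
    refine ⟨x * n, mem_inf.mpr ⟨mul_mem hx (hNH hn), ?_⟩, ?_⟩
    · rw [mem_centralizer_singleton_iff]
      exact hcn.symm
    · rw [map_mul, (hκ1 n).mpr hn, mul_one]
  · rintro _ ⟨x, hx, rfl⟩
    refine mem_inf.mpr ⟨⟨x, (mem_inf.mp hx).1, rfl⟩, ?_⟩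
    have h1 := (mem_inf.mp hx).2
    rw [mem_centralizer_singleton_iff] at h1 ⊢
    rw [← map_mul, h1, map_mul]

theorem Hyp36.quot {X : Type u} [Group X] [Finite X] {r : ℕ} (hr : r.Prime) {H R : Subgroup X}
    [hH : H.Normal] {ρ : X} (hρr : ρ ^ r = 1) (h : Hyp36 r H R ρ) (N : Subgroup X) [hN : N.Normal]
    (hNH : N ≤ H) : Hyp36 r (H.map (QuotientGroup.mk' N)) (R.map (QuotientGroup.mk' N))
      (QuotientGroup.mk' N ρ) := by
  have hdvd : Nat.card (H.map (QuotientGroup.mk' N)) ∣ Nat.card H := card_map_dvd _ _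
  haveI : (H.map (QuotientGroup.mk' N)).Normal := hH.map _ (QuotientGroup.mk'_surjective N)
  exact
  { RH := by rw [normalizer_eq_top]; exact le_top
    ρR := ⟨ρ, h.ρR, rfl⟩
    cop := Nat.Coprime.coprime_dvd_left (card_map_dvd _ _)
      (Nat.Coprime.coprime_dvd_right hdvd h.cop)
    solv := isSolvable_map _ h.solv
    odd := Odd.of_dvd_nat h.odd hdvd
    ZH := by
      rw [map_inf_centralizer' hr hNH hρr h.rH]
      exact isZGroup_map _ h.ZH
    rH := fun h1 => h.rH (h1.trans hdvd) }

/-- The contradiction at the heart of BG 3.6. -/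
theorem core36 {X : Type u} [Group X] [Finite X] {r : ℕ} (hr : r.Prime) (hr2 : r ≠ 2)
    {H R : Subgroup X} [hHn : H.Normal] {ρ : X} (hρr : ρ ^ r = 1) (h : Hyp36 r H R ρ)
    (hHR : ⁅H, R⁆ = H) {V K D P : Subgroup X} [hVn : V.Normal] [hKn : K.Normal] (hVK : V ≤ K)
    (hKH : K ≤ H) (hVp : IsPGroup p V) (hi : (V.relIndex K).Coprime p)
    (hCV : ∀ x ∈ H, x ∈ centralizer (V : Set X) → x ∈ V)
    (hCK : ∀ x ∈ H, (∀ k ∈ K, ⁅x, k⁆ ∈ V) → x ∈ K)
    (hmax : ∀ T : Subgroup X, T ≤ H → H ≤ normalizer (T : Set X) → IsPGroup p T → T ≤ V)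
    (hDK : D ≤ K) (hVD : V ⊓ D = ⊥) (hVDK : V ⊔ D = K) (hDp : (Nat.card D).Coprime p)
    (hRD : R ≤ normalizer (D : Set X)) (hfr : ∀ x : X, ∃ v ∈ V, v * x ∈ normalizer (D : Set X))
    (hPs : H23.IsSylowOf p P (H ⊓ normalizer (D : Set X))) (hRP : R ≤ normalizer (P : Set X))
    (hPV : ¬ P ≤ V) (hquot : ∀ N : Subgroup X, ∀ [N.Normal], N ≤ V → N ≠ ⊥ →
      PLengthLE p 1 (H.map (QuotientGroup.mk' N))) : False := by
  have hVH : V ≤ H := hVK.trans hKH
  have hDH : D ≤ H := hDK.trans hKH
  set N : Subgroup X := H ⊓ normalizer (D : Set X) with hN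
  have hPN : P ≤ N := hPs.le
  have hPH : P ≤ H := hPN.trans inf_le_left
  have hPD : P ≤ normalizer (D : Set X) := hPN.trans inf_le_right
  have hDN : D ≤ N := le_inf hDH le_normalizer
  have hPp : IsPGroup p P := hPs.isPGroup
  have hρR := h.ρR
  -- elements centralizing `D` modulo `V` lie in `K`
  have hCD : ∀ x ∈ H, x ∈ centralizer (D : Set X) → x ∈ K := by
    intro x hx hc
    apply hCK x hx
    intro k hk
    rw [← hVDK] at hk
    obtain ⟨v, hv, d, hd, rfl⟩ := mem_sup_of_normal_left.mp hk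
    have h1 : x * d = d * x := (mem_centralizer_iff.mp hc d hd).symm
    have h2 : ⁅x, v * d⁆ = x * v * x⁻¹ * v⁻¹ := by
      rw [commutatorElement_def, mul_inv_rev]
      calc x * (v * d) * x⁻¹ * (d⁻¹ * v⁻¹) = x * v * (d * x⁻¹) * d⁻¹ * v⁻¹ := by group
        _ = x * v * (x⁻¹ * d) * d⁻¹ * v⁻¹ := by
          congr 3
          rw [eq_inv_mul_iff_mul_eq, ← mul_assoc, h1, mul_inv_cancel_right]
        _ = x * v * x⁻¹ * v⁻¹ := by group
    rw [h2]
    exact mul_mem (hVn.conj_mem v hv x) (inv_mem hv)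
  -- the group `D₁ = [D, P]`
  set D₁ : Subgroup X := ⁅D, P⁆ with hD₁
  have hD₁D : D₁ ≤ D := H23.commutator_le_of_le_normalizer hPD
  have hpD : ¬ p ∣ Nat.card D := by
    rw [Nat.coprime_comm, hp.out.coprime_iff_not_dvd] at hDp; exact hDp
  have hPDc : (Nat.card P).Coprime (Nat.card D) := by
    obtain ⟨n, hn⟩ := IsPGroup.iff_card.mp hPp
    rw [hn]
    exact Nat.Coprime.pow_left n hDp.symm
  have hD₁P : ⁅D₁, P⁆ = D₁ := H23.commutator_commutator_eq hPD hPDc
  have hD₁V : ¬ D₁ ≤ centralizer (V : Set X) := by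
    intro h1
    have h2 : D₁ ≤ V ⊓ D := le_inf (fun x hx => hCV x (hDH (hD₁D hx)) (h1 hx)) hD₁D
    rw [hVD, le_bot_iff, hD₁, commutator_comm, commutator_eq_bot_iff_le_centralizer] at h2
    exact hPV (le_of_isPGroup_of_relIndex hVK hi hPp fun x hx => hCD x (hPH hx) (h2 hx))
  have hVne : V ≠ ⊥ := by
    rintro rfl
    exact hD₁V fun x _ => by
      rw [mem_centralizer_iff]
      intro y hy
      rw [SetLike.mem_coe, mem_bot] at hy
      rw [hy]; simp
  have hpH : p ∣ Nat.card H := by
    obtain ⟨n, hn⟩ := IsPGroup.iff_card.mp hVp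
    rcases Nat.eq_zero_or_pos n with h0 | h0
    · rw [h0, pow_zero] at hn
      exact absurd (card_eq_one.mp hn) hVne
    · exact (hn ▸ dvd_pow_self p h0.ne' : p ∣ Nat.card V).trans (card_dvd_of_le hVH)
  have hp2 : p ≠ 2 := by
    rintro rfl
    exact (Nat.not_even_iff_odd.mpr h.odd) (even_iff_two_dvd.mpr hpH)
  have hrp : r ≠ p := by rintro rfl; exact h.rH hpH
  have hD₁Vcop : (Nat.card D₁).Coprime (Nat.card V) := by
    obtain ⟨n, hn⟩ := IsPGroup.iff_card.mp hVp
    rw [hn]
    exact Nat.Coprime.pow_right n (Nat.Coprime.coprime_dvd_left (card_dvd_of_le hD₁D) hDp)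
  have hVs : Group.IsSolvable V := H23.isSolvable_of_isPGroup hVp
  have hVnt : ∀ S : Subgroup X, S ≤ normalizer (V : Set X) := fun S => by
    rw [normalizer_eq_top]; exact le_top
  -- normal subgroups of `X` inside `V`
  have hW : ∀ W : Subgroup X, ∀ [W.Normal], W ≤ V → W ≠ ⊥ → ⁅V, D₁⁆ ≤ W := by
    intro W _ hWV hWne
    have h1 := hquot W hWV hWne
    set κ := QuotientGroup.mk' W with hκ
    haveI : (V.map κ).Normal := hVn.map _ (QuotientGroup.mk'_surjective W)
    have h2 := t4 h1 (D₁ := D₁.map κ) (P₁ := P.map κ) (U := V.map κ) (map_mono (hD₁D.trans hDH))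
      (map_mono hPH) (map_mono hVH)
      (fun h3 => hpD (h3.trans ((card_map_dvd _ _).trans (card_dvd_of_le hD₁D))))
      (hPp.map κ) (by rw [← map_commutator, hD₁P]) (by rw [normalizer_eq_top]; exact le_top)
      (hVp.map κ)
    rw [commutator_le]
    intro v hv d hd
    rw [← QuotientGroup.eq_one_iff]
    show κ ⁅v, d⁆ = 1
    rw [map_commutatorElement, commutatorElement_eq_one_iff_mul_comm]
    exact mem_centralizer_iff.mp (h2 ⟨d, hd, rfl⟩) (κ v) ⟨v, hv, rfl⟩
  -- `V` is elementary abelian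
  have hVea : Cfsg.IsElementaryAbelian p V := by
    have hfrat : (frattini V).map V.subtype = ⊥ := by
      by_contra hne
      have h1 := hW ((frattini V).map V.subtype) (map_subtype_le _) hne
      have h2 := H23.le_centralizer_of_commutator_le_frattini (hVnt D₁) hD₁Vcop (Or.inr hVs) h1
      exact hD₁V (le_centralizer_iff.mp h2)
    have hf1 : ∀ x : V, x ∈ frattini V → (x : X) = 1 := by
      intro x hx
      have : (x : X) ∈ (frattini V).map V.subtype := ⟨x, hx, rfl⟩
      rw [hfrat, mem_bot] at this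
      exact this
    refine ⟨⟨⟨?_⟩⟩, ?_⟩
    · intro x y
      have h1 := hf1 ⁅x, y⁆ (H2.commutator_le_frattini hVp
        (commutator_mem_commutator (mem_top x) (mem_top y)))
      have h2 : ⁅x, y⁆ = 1 := Subtype.ext h1
      rwa [commutatorElement_eq_one_iff_mul_comm] at h2
    · intro x hx
      exact hf1 (⟨x, hx⟩ ^ p) (H2.pow_mem_frattini hVp _)
  have hVab : ∀ x ∈ V, ∀ y ∈ V, x * y = y * x := fun x hx y hy =>
    congrArg Subtype.val (hVea.1.is_comm.comm (⟨x, hx⟩ : V) ⟨y, hy⟩)
  -- `C_V(D) = 1`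
  have hCVD : V ⊓ centralizer (D : Set X) = ⊥ := by
    by_contra hne
    haveI : (V ⊓ centralizer (D : Set X) : Subgroup X).Normal := by
      constructor
      intro w hw x
      obtain ⟨hwV, hwD⟩ := mem_inf.mp hw
      obtain ⟨v, hv, hvx⟩ := hfr x
      have h1 : v * x ∈ normalizer ((centralizer (D : Set X) : Subgroup X) : Set X) :=
        OOT.normalizer_le_normalizer_centralizer D hvx
      have h2 := (mem_normalizer_iff.mp h1 w).mp hwD
      have h3 : x * w * x⁻¹ ∈ V := hVn.conj_mem w hwV x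
      have h4 : v * x * w * (v * x)⁻¹ = x * w * x⁻¹ := by
        have h5 : v * x * w * (v * x)⁻¹ = v * (x * w * x⁻¹) * v⁻¹ := by group
        rw [h5, hVab v hv _ h3, mul_inv_cancel_right]
      rw [h4] at h2
      exact mem_inf.mpr ⟨h3, h2⟩
    have h1 := hW (V ⊓ centralizer (D : Set X)) inf_le_left hne
    have h2 := H23.le_centralizer_of_commutator_le (hVnt D₁) hD₁Vcop h1
      (inf_le_right.trans (centralizer_le hD₁D))
    exact hD₁V (le_centralizer_iff.mp h2)
  have hVN : V ⊓ N = ⊥ := by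
    rw [eq_bot_iff, ← hCVD]
    intro v hv
    obtain ⟨hvV, hvN⟩ := mem_inf.mp hv
    refine mem_inf.mpr ⟨hvV, ?_⟩
    rw [mem_centralizer_iff]
    intro d hd
    have h1 : ⁅v, d⁆ ∈ V ⊓ D := by
      refine mem_inf.mpr ⟨?_, ?_⟩
      · have h2 := mul_mem hvV (hVn.conj_mem _ (inv_mem hvV) d)
        have e : v * (d * v⁻¹ * d⁻¹) = ⁅v, d⁆ := by rw [commutatorElement_def]; group
        rwa [e] at h2
      · have h2 := (mem_normalizer_iff.mp (mem_inf.mp hvN).2 d).mp hd
        exact mul_mem h2 (inv_mem hd)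
    rw [hVD, mem_bot, commutatorElement_eq_one_iff_mul_comm] at h1
    exact h1.symm
  have hρH : ρ ∈ normalizer (H : Set X) := h.RH hρR
  have hVρ : ρ ∈ normalizer (V : Set X) := by rw [normalizer_eq_top]; trivial
  have hDρ : ρ ∈ normalizer (D : Set X) := hRD hρR
  have hPρ : ρ ∈ normalizer (P : Set X) := hRP hρR
  have hRN : R ≤ normalizer (N : Set X) := by
    intro x hx
    rw [mem_normalizer_iff]
    intro g
    have h1 : x ∈ normalizer ((normalizer (D : Set X) : Subgroup X) : Set X) :=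
      le_normalizer (hRD hx)
    rw [hN, mem_inf, mem_inf, mem_normalizer_iff.mp (h.RH hx) g, mem_normalizer_iff.mp h1 g]
  by_cases hcase : V ⊓ centralizer ({ρ} : Set X) = ⊥
  · -- Case A
    have hrD : ¬ r ∣ Nat.card D := fun h1 => h.rH (h1.trans (card_dvd_of_le hDH))
    have h34 := bg34 hr hr2 hVea (hVnt D) hVρ hDρ hρr hrp
      ((hr.coprime_iff_not_dvd.mpr hrD).symm) (Odd.of_dvd_nat h.odd (card_dvd_of_le hDH))
      (isSolvable_of_le hDH h.solv) hpD (fun v hv hc => by
        have : v ∈ V ⊓ centralizer ({ρ} : Set X) := by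
          refine mem_inf.mpr ⟨hv, ?_⟩
          rw [mem_centralizer_singleton_iff]
          exact hc.symm
        rwa [hcase, mem_bot] at this)
    have hAρ : ∀ S : Subgroup X, (∀ x ∈ S, Commute x ρ) →
        S ≤ centralizer ((zpowers ρ : Subgroup X) : Set X) := by
      intro S hS x hx
      rw [mem_centralizer_iff]
      intro y hy
      obtain ⟨k, rfl⟩ := mem_zpowers_iff.mp hy
      exact ((hS x hx).zpow_right k).symm
    have hDc : D ≤ centralizer ((zpowers ρ : Subgroup X) : Set X) := by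
      apply hAρ
      intro x hx
      have h1 := h34 x hx
      have h2 : ⁅x, ρ⁆ ∈ D := by
        have h3 := mul_mem hx ((mem_normalizer_iff.mp hDρ _).mp (inv_mem hx))
        have e : x * (ρ * x⁻¹ * ρ⁻¹) = ⁅x, ρ⁆ := by rw [commutatorElement_def]; group
        rwa [e] at h3
      have h3 : ⁅x, ρ⁆ ∈ V ⊓ D := mem_inf.mpr ⟨hCV _ (hDH h2) h1, h2⟩
      rw [hVD, mem_bot, commutatorElement_eq_one_iff_mul_comm] at h3
      exact h3
    have hNρ : zpowers ρ ≤ normalizer (N : Set X) := by rw [zpowers_le]; exact hRN hρR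
    have hND : N ≤ normalizer (D : Set X) := inf_le_right
    have hNc : N ≤ centralizer ((zpowers ρ : Subgroup X) : Set X) := by
      have h1 : ⁅⁅N, zpowers ρ⁆, D⁆ = ⊥ := by
        apply commutator_commutator_eq_bot_of_rotate
        · rw [commutator_comm (zpowers ρ) D, commutator_eq_bot_iff_le_centralizer.mpr hDc,
            commutator_bot_left]
        · rw [eq_bot_iff]
          refine (commutator_mono (H23.commutator_le_of_le_normalizer hND) le_rfl).trans ?_
          rw [commutator_eq_bot_iff_le_centralizer.mpr hDc]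
      rw [commutator_eq_bot_iff_le_centralizer] at h1
      have h2 : ⁅N, zpowers ρ⁆ ≤ N := H23.commutator_le_of_le_normalizer hNρ
      have h3 : ⁅N, zpowers ρ⁆ ≤ D := by
        intro x hx
        have h4 : x ∈ K := hCD x (mem_inf.mp (h2 hx)).1 (h1 hx)
        rw [← hVDK] at h4
        obtain ⟨v, hv, d, hd, rfl⟩ := mem_sup_of_normal_left.mp h4
        have h5 : v ∈ V ⊓ N := by
          refine mem_inf.mpr ⟨hv, ?_⟩
          have := mul_mem (h2 hx) (inv_mem (hDN hd))
          rwa [mul_inv_cancel_right] at this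
        rw [hVN, mem_bot] at h5
        rw [h5, one_mul]; exact hd
      refine H23.le_centralizer_of_commutator_le hNρ ?_ h3 hDc
      refine Nat.Coprime.coprime_dvd_right (card_dvd_of_le inf_le_left) ?_
      exact Nat.Coprime.coprime_dvd_left (card_dvd_of_le (by rw [zpowers_le]; exact hρR)) h.cop
    have hNZ : IsZGroup N := by
      refine isZGroup_of_le (le_inf inf_le_left fun x hx => ?_) h.ZH
      rw [mem_centralizer_singleton_iff]
      exact (mem_centralizer_iff.mp (hNc hx) ρ (mem_zpowers ρ)).symm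
    -- `N = [N, R]`
    have hNR : N ≤ ⁅N, R⁆ := by
      have hT : ⁅N, R⁆ ≤ N := H23.commutator_le_of_le_normalizer hRN
      have h1 : H ≤ V ⊔ ⁅N, R⁆ := by
        conv_lhs => rw [← hHR]
        rw [commutator_le]
        intro x hx a ha
        obtain ⟨v, hv, hvx⟩ := hfr x
        have hy : v * x ∈ N := mem_inf.mpr ⟨mul_mem (hVH hv) hx, hvx⟩
        have h2 : ⁅v * x, a⁆ ∈ ⁅N, R⁆ := commutator_mem_commutator hy ha
        have h3 : ⁅x, a⁆ = v⁻¹ * ⁅v * x, a⁆ * (a * v * a⁻¹) := by
          rw [commutatorElement_def, commutatorElement_def]; group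
        rw [h3]
        exact mul_mem (mul_mem (mem_sup_left (inv_mem hv)) (mem_sup_right h2))
          (mem_sup_left (hVn.conj_mem v hv a))
      intro x hx
      obtain ⟨v, hv, t, ht, hvt⟩ := mem_sup_of_normal_left.mp (h1 (mem_inf.mp hx).1)
      have h5 : v ∈ V ⊓ N := by
        refine mem_inf.mpr ⟨hv, ?_⟩
        have := mul_mem hx (inv_mem (hT ht))
        rwa [← hvt, mul_inv_cancel_right] at this
      rw [hVN, mem_bot] at h5
      rw [← hvt, h5, one_mul]; exact ht
    -- `N` is nilpotent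
    have hNnil : Group.IsNilpotent N := by
      have hcyc : IsCyclic (⁅N, N⁆ : Subgroup X) := by
        haveI := hNZ
        have h1 : IsCyclic (commutator N) := IsZGroup.isCyclic_commutator N
        have h2 : (commutator N).map N.subtype = ⁅N, N⁆ := by
          rw [_root_.commutator_def, map_commutator, ← MonoidHom.range_eq_map, range_subtype]
        rw [← h2]
        exact isCyclic_of_surjective (N.subtype.subgroupMap (commutator N))
          (N.subtype.subgroupMap_surjective _)
      set N' : Subgroup X := ⁅N, N⁆ with hN'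
      set Y := normalizer (N' : Set X) with hY
      have hNY : N ≤ Y := by
        intro x hx
        exact mem_normalizer_commutator (le_normalizer hx) (le_normalizer hx)
      have hRY : R ≤ Y := by
        intro x hx
        exact mem_normalizer_commutator (hRN hx) (hRN hx)
      have hN'Y : N' ≤ Y := le_normalizer
      haveI : (N'.subgroupOf Y).Normal := normal_subgroupOf' le_rfl
      have h1 := commutator_le_centralizer_of_cyclic (N := N'.subgroupOf Y) this
        (isCyclic_of_surjective (subgroupOfEquivOfLe hN'Y).symm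
          (subgroupOfEquivOfLe hN'Y).symm.surjective)
      have h2 : N ≤ centralizer (N' : Set X) := by
        refine hNR.trans ?_
        rw [commutator_le]
        intro x hx a ha
        have h3 : ⁅(⟨x, hNY hx⟩ : Y), (⟨a, hRY ha⟩ : Y)⁆ ∈ commutator Y :=
          commutator_mem_commutator (mem_top _) (mem_top _)
        have h4 := h1 h3
        rw [mem_centralizer_iff] at h4 ⊢
        intro y hy
        exact congrArg Subtype.val (h4 ⟨y, hN'Y hy⟩ hy)
      exact isNilpotent_of_commutator_le_central (A := N) (Z := N') le_rfl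
        (by rw [commutator_comm, commutator_eq_bot_iff_le_centralizer]; exact h2)
    -- the Sylow subgroup is normal
    have hNP : N ≤ normalizer (P : Set X) := by
      obtain ⟨S, hS⟩ := hPs
      have h1 := isNilpotent_iff_sylow_normal.mp hNnil p hp S
      intro x hx
      rw [← hS, mem_normalizer_iff]
      intro g
      constructor
      · rintro ⟨y, hy, rfl⟩
        exact ⟨⟨x, hx⟩ * y * ⟨x, hx⟩⁻¹, h1.conj_mem y hy _, rfl⟩
      · rintro ⟨y, hy, hyg⟩
        refine ⟨⟨x, hx⟩⁻¹ * y * ⟨x, hx⟩⁻¹⁻¹, h1.conj_mem y hy _, ?_⟩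
        have h2 : (y : X) = x * g * x⁻¹ := hyg
        simp only [map_mul, map_inv, subtype_apply, h2]
        group
    apply hPV
    refine le_trans le_sup_right (hmax (V ⊔ P) (sup_le hVH hPH) ?_ ?_)
    · intro x hx
      obtain ⟨v, hv, hvx⟩ := hfr x
      have hy : v * x ∈ N := mem_inf.mpr ⟨mul_mem (hVH hv) hx, hvx⟩
      have h1 : v * x ∈ normalizer ((V ⊔ P : Subgroup X) : Set X) := by
        rw [mem_normalizer_iff_conj_smul, smul_sup,
          mem_normalizer_iff_conj_smul.mp (hNP hy),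
          mem_normalizer_iff_conj_smul.mp (show v * x ∈ normalizer (V : Set X) by
            rw [normalizer_eq_top]; trivial)]
      have h2 : v ∈ normalizer ((V ⊔ P : Subgroup X) : Set X) :=
        le_normalizer (mem_sup_left hv)
      have := mul_mem (inv_mem h2) h1
      rwa [inv_mul_cancel_left] at this
    · exact hVp.to_sup_of_normal_left' hPp (hVnt P)
  · -- Case B
    have hSp : IsPGroup p (V ⊔ P : Subgroup X) := hVp.to_sup_of_normal_left' hPp (hVnt P)
    have hSH : V ⊔ P ≤ H := sup_le hVH hPH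
    have hcyc : IsCyclic ((V ⊔ P) ⊓ centralizer ({ρ} : Set X) : Subgroup X) :=
      isCyclic_of_isZGroup' (hSp.to_le inf_le_left) (isZGroup_of_le (inf_le_inf_right _ hSH) h.ZH)
    -- an element of order `p` in `C_V(ρ)`
    obtain ⟨v, hv⟩ : ∃ v ∈ V ⊓ centralizer ({ρ} : Set X), v ≠ 1 := by
      by_contra hno
      push Not at hno
      exact hcase (eq_bot_iff.mpr fun x hx => by rw [mem_bot]; exact hno x hx)
    obtain ⟨hv, hv1⟩ := hv
    have hvo : orderOf v = p := orderOf_eq_prime (hVea.2 v (mem_inf.mp hv).1) hv1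
    have hCP : ∀ x ∈ P, Commute ρ x → x = 1 := by
      by_contra hno
      push Not at hno
      obtain ⟨x, hx, hxρ, hx1⟩ := hno
      obtain ⟨k, hk⟩ := (IsPGroup.iff_orderOf.mp hPp) ⟨x, hx⟩
      have hk' : orderOf x = p ^ k := by rw [← hk]; exact (orderOf_mk x hx).symm
      have hk0 : k ≠ 0 := by
        rintro rfl
        rw [pow_zero, orderOf_eq_one_iff] at hk'
        exact hx1 hk'
      obtain ⟨j, rfl⟩ := Nat.exists_eq_succ_of_ne_zero hk0
      have hyo : orderOf (x ^ p ^ j) = p := by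
        rw [orderOf_pow_of_dvd (pow_ne_zero _ hp.out.ne_zero) (by rw [hk']; exact pow_dvd_pow p (Nat.le_succ j)),
          hk', pow_succ, Nat.mul_div_cancel_left _ (pow_pos hp.out.pos j)]
      have hyP : x ^ p ^ j ∈ P := pow_mem hx _
      have hymem : x ^ p ^ j ∈ (V ⊔ P) ⊓ centralizer ({ρ} : Set X) := by
        refine mem_inf.mpr ⟨mem_sup_right hyP, ?_⟩
        rw [mem_centralizer_singleton_iff]
        exact (hxρ.pow_right _).symm
      have hvmem : v ∈ (V ⊔ P) ⊓ centralizer ({ρ} : Set X) :=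
        mem_inf.mpr ⟨mem_sup_left (mem_inf.mp hv).1, (mem_inf.mp hv).2⟩
      have h1 := cyclic_unique (A := ((V ⊔ P) ⊓ centralizer ({ρ} : Set X) : Subgroup X)) hp.out
        (v := ⟨v, hvmem⟩) (x := ⟨_, hymem⟩) (by rw [orderOf_mk, hvo]) (by rw [orderOf_mk, hyo])
      obtain ⟨m, hm⟩ := mem_zpowers_iff.mp h1
      have h2 : (x ^ p ^ j) ^ m = v := by
        have := congrArg Subtype.val hm
        simpa using this
      have h3 : v ∈ V ⊓ N := by
        refine mem_inf.mpr ⟨(mem_inf.mp hv).1, ?_⟩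
        rw [← h2]
        exact hPN (zpow_mem hyP m)
      rw [hVN, mem_bot] at h3
      exact hv1 h3
    have hCVp : Nat.card (V ⊓ centralizer ({ρ} : Set X) : Subgroup X) ≤ p := by
      have hle : V ⊓ centralizer ({ρ} : Set X) ≤ (V ⊔ P) ⊓ centralizer ({ρ} : Set X) :=
        inf_le_inf_right _ le_sup_left
      have hcyc2 : IsCyclic (V ⊓ centralizer ({ρ} : Set X) : Subgroup X) :=
        isCyclic_of_isZGroup' (hVp.to_le inf_le_left)
          (isZGroup_of_le (inf_le_inf_right _ hVH) h.ZH)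
      obtain ⟨g, hg⟩ := hcyc2.exists_generator
      have h1 : orderOf g ∣ p := by
        apply orderOf_dvd_of_pow_eq_one
        exact Subtype.ext (hVea.2 g (mem_inf.mp g.2).1)
      rw [orderOf_eq_card_of_forall_mem_zpowers hg] at h1
      exact Nat.le_of_dvd hp.out.pos h1
    have hD₁H : D₁ ≤ H := hD₁D.trans hDH
    have hcfg : Cfg36 p r V D₁ P ρ :=
      { vea := hVea
        pgrp := hPp
        hpD := fun h1 => hpD (h1.trans (card_dvd_of_le hD₁D))
        hrD := fun h1 => h.rH (h1.trans (card_dvd_of_le hD₁H))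
        hoddD := Odd.of_dvd_nat h.odd (card_dvd_of_le hD₁H)
        solv := isSolvable_of_le hD₁H h.solv
        PD := normalizer_commutator_ge_right _ _
        PV := hVnt P
        DV := hVnt D₁
        ρV := hVρ
        ρD := mem_normalizer_commutator hDρ hPρ
        ρP := hPρ
        DP := hD₁P
        CP := hCP
        CV := hCVp
        ZD := isZGroup_of_le (inf_le_inf_right _ hD₁H) h.ZH }
    exact hD₁V (hcfg.main hp2 hr hr2 hrp hρr)

/-- one step of the induction -/
theorem step36 {X : Type u} [Group X] [Finite X] {r : ℕ} (hr : r.Prime) (hr2 : r ≠ 2)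
    {H R : Subgroup X} [hHn : H.Normal] {ρ : X} (hρr : ρ ^ r = 1) (h : Hyp36 r H R ρ)
    (ih : ∀ (Y : Type u) [Group Y] [Finite Y] (H' R' : Subgroup Y) (ρ' : Y),
      Nat.card H' < Nat.card H → ρ' ^ r = 1 → Hyp36 r H' R' ρ' →
      PLengthLE p 1 (⁅H', R'⁆ : Subgroup Y)) : PLengthLE p 1 (⁅H, R⁆ : Subgroup X) := by
  have hle : ⁅H, R⁆ ≤ H := H23.commutator_le_of_le_normalizer h.RH
  by_cases hHR : ⁅H, R⁆ = H
  swap
  · have hlt := lt_of_le_of_ne hle hHR
    have h1 := ih X ⁅H, R⁆ R ρ (card_lt_of_lt' hlt) hρr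
      { RH := normalizer_commutator_ge_right _ _
        ρR := h.ρR
        cop := Nat.Coprime.coprime_dvd_right (card_dvd_of_le hle) h.cop
        solv := isSolvable_of_le hle h.solv
        odd := Odd.of_dvd_nat h.odd (card_dvd_of_le hle)
        ZH := isZGroup_of_le (inf_le_inf_right _ hle) h.ZH
        rH := fun h2 => h.rH (h2.trans (card_dvd_of_le hle)) }
    rwa [H23.commutator_commutator_eq h.RH h.cop] at h1
  rw [hHR]
  by_contra hcon
  have hquot : ∀ N : Subgroup X, ∀ [N.Normal], N ≤ H → N ≠ ⊥ →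
      PLengthLE p 1 (H.map (QuotientGroup.mk' N)) := by
    intro N _ hNH hne
    have h1 : Nat.card (H.map (QuotientGroup.mk' N)) < Nat.card H := by
      have h2 := card_map_mk'_mul N H
      rw [inf_of_le_right hNH] at h2
      have h3 : 1 < Nat.card N := by
        rw [Nat.one_lt_iff_ne_zero_and_ne_one]
        exact ⟨Nat.card_pos.ne', fun h4 => hne (card_eq_one.mp h4)⟩
      rw [← h2]
      exact lt_mul_of_one_lt_left Nat.card_pos h3
    have h2 := ih (X ⧸ N) (H.map (QuotientGroup.mk' N)) (R.map (QuotientGroup.mk' N))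
      (QuotientGroup.mk' N ρ) h1 (by rw [← map_pow, hρr, map_one]) (h.quot hr hρr N hNH)
    rwa [← map_commutator, hHR] at h2
  have hO : pPrimeCore p H = ⊥ := by
    by_contra hne
    set N : Subgroup X := (pPrimeCore p H).map H.subtype with hN
    have hNH : N ≤ H := map_subtype_le _
    have hNne : N ≠ ⊥ := by
      intro h0
      rw [hN, Subgroup.map_eq_bot_iff, ker_subtype, le_bot_iff] at h0
      exact hne h0
    have h1 := hquot N hNH hNne
    apply hcon
    refine plen_of_surjective ((QuotientGroup.mk' N).subgroupMap H)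
      ((QuotientGroup.mk' N).subgroupMap_surjective H) ?_ h1
    have h2 : ((QuotientGroup.mk' N).subgroupMap H).ker = N.subgroupOf H := by
      ext x
      rw [MonoidHom.mem_ker, mem_subgroupOf, ← QuotientGroup.eq_one_iff]
      exact ⟨fun h3 => congrArg Subtype.val h3, fun h3 => Subtype.ext h3⟩
    rw [h2, card_subgroupOf hNH, hN, card_map_subtype]
    exact pPrimeCore_coprime p H
  obtain ⟨V, K, hVn, hKn, hVK, hKH, hVp, hi, hCV, hCK, hmax, hVdef⟩ := struct36 h.solv hO
  obtain ⟨D, hDK, hVD, hVDK, hDp, hRD, hfr⟩ := compl36 (R := R) hVK hVp hi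
    (Nat.Coprime.coprime_dvd_right (card_dvd_of_le hKH) h.cop)
  have hRN : R ≤ normalizer ((H ⊓ normalizer (D : Set X) : Subgroup X) : Set X) := by
    intro x hx
    rw [mem_normalizer_iff]
    intro g
    have h1 : x ∈ normalizer ((normalizer (D : Set X) : Subgroup X) : Set X) :=
      le_normalizer (hRD hx)
    rw [mem_inf, mem_inf, mem_normalizer_iff.mp (h.RH hx) g, mem_normalizer_iff.mp h1 g]
  obtain ⟨P, hPs, hRP⟩ := H23.exists_invariant_sylow hRN
    (Nat.Coprime.coprime_dvd_right (card_dvd_of_le inf_le_left) h.cop)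
    (Or.inr (isSolvable_of_le inf_le_left h.solv)) p
  refine core36 hr hr2 hρr h hHR hVK hKH hVp hi hCV hCK hmax hDK hVD hVDK hDp hRD hfr hPs hRP ?_
    (fun N _ hNV hne => hquot N (hNV.trans (hVK.trans hKH)) hne)
  intro hPV
  apply hcon
  refine OOT.plength_one_of (N₁ := ⊥) (N₂ := V.subgroupOf H) inferInstance
    (normal_subgroupOf' (by rw [normalizer_eq_top]; exact le_top)) ?_ ?_ ?_
  · rw [card_bot]; exact Nat.coprime_one_left p
  · rw [relIndex_bot_left, card_subgroupOf (hVK.trans hKH)]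
    exact IsPGroup.iff_card.mp hVp
  · show (V.relIndex H).Coprime p
    have h1 : V ⊔ (H ⊓ normalizer (D : Set X)) = H := by
      apply le_antisymm (sup_le (hVK.trans hKH) inf_le_left)
      intro x hx
      obtain ⟨v, hv, hvx⟩ := hfr x
      have hy : v * x ∈ H ⊓ normalizer (D : Set X) :=
        mem_inf.mpr ⟨mul_mem (hKH (hVK hv)) hx, hvx⟩
      have := mul_mem (mem_sup_left (T := H ⊓ normalizer (D : Set X)) (inv_mem hv))
        (mem_sup_right (S := V) hy)
      rwa [inv_mul_cancel_left] at this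
    have h2 : V.relIndex H = V.relIndex (H ⊓ normalizer (D : Set X)) := by
      conv_lhs => rw [← h1]
      rw [sup_comm, relIndex_sup_right]
    rw [h2, Nat.coprime_comm, hp.out.coprime_iff_not_dvd]
    intro h3
    exact hPs.not_dvd (h3.trans (relIndex_dvd_of_le_left _ hPV))

/-- BG 3.6, general form -/
theorem main36 {r : ℕ} (hr : r.Prime) (hr2 : r ≠ 2) (n : ℕ) :
    ∀ (X : Type u) [Group X] [Finite X] (H R : Subgroup X) (ρ : X), Nat.card H = n →
      ρ ^ r = 1 → Hyp36 r H R ρ → PLengthLE p 1 (⁅H, R⁆ : Subgroup X) := by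
  induction n using Nat.strong_induction_on with
  | _ n ih =>
    intro X _ _ H R ρ hn hρr h
    set Y := normalizer (H : Set X) with hY
    have hHY : H ≤ Y := le_normalizer
    haveI : (H.subgroupOf Y).Normal := normal_subgroupOf' le_rfl
    have hρY : ρ ∈ Y := h.RH h.ρR
    have h1 := step36 (p := p) hr hr2 (H := H.subgroupOf Y) (R := R.subgroupOf Y)
      (ρ := ⟨ρ, hρY⟩) (Subtype.ext hρr)
      { RH := by rw [normalizer_eq_top]; exact le_top
        ρR := h.ρR
        cop := by rw [card_subgroupOf hHY, card_subgroupOf h.RH]; exact h.cop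
        solv := by
          haveI := h.solv
          exact Group.isSolvable_of_isSolvable_injective
            (f := (subgroupOfEquivOfLe hHY).toMonoidHom) (subgroupOfEquivOfLe hHY).injective
        odd := by rw [card_subgroupOf hHY]; exact h.odd
        ZH := by
          haveI := h.ZH
          refine IsZGroup.of_injective (f := (
            { toFun := fun x => ⟨x.1.1, mem_inf.mpr ⟨(mem_inf.mp x.2).1, by
                have h2 := (mem_inf.mp x.2).2
                rw [mem_centralizer_singleton_iff] at h2 ⊢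
                exact congrArg Subtype.val h2⟩⟩
              map_one' := rfl
              map_mul' := fun _ _ => rfl } :
            (H.subgroupOf Y ⊓ centralizer ({⟨ρ, hρY⟩} : Set Y) : Subgroup Y) →*
            (H ⊓ centralizer ({ρ} : Set X) : Subgroup X))) ?_
          intro a b hab
          apply Subtype.ext
          apply Subtype.ext
          exact congrArg (fun z : (H ⊓ centralizer ({ρ} : Set X) : Subgroup X) => (z : X)) hab
        rH := by rw [card_subgroupOf hHY]; exact h.rH }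
      (by
        intro Z _ _ H' R' ρ' hlt hρ' hH'
        rw [card_subgroupOf hHY, hn] at hlt
        exact ih _ hlt Z H' R' ρ' rfl hρ' hH')
    rw [commutator_subgroupOf' hHY h.RH] at h1
    have h2 : ⁅H, R⁆ ≤ Y := (H23.commutator_le_of_le_normalizer h.RH).trans hHY
    exact OOT.plengthLE_of_injective (subgroupOfEquivOfLe h2).symm.toMonoidHom
      (subgroupOfEquivOfLe h2).symm.injective h1

end Gen

end Cfsg.Agent.H1
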