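import Cfsg.Agent.H1.BG310L
import Cfsg.Agent.H1.BG35
import Cfsg.Agent.H1.BG36N

/-!
# Frobenius groups acting on groups (BG 3.10) (helper1)
-/

set_option autoImplicit false

namespace Cfsg.Agent.H1

open Subgroup
open scoped commutatorElement Pointwise TensorProduct

universe u v w

theorem exists_repOf_aux_dim {W : Type u} [CommGroup W] [Finite W] {ℓ : ℕ} [hℓ : Fact ℓ.Prime]
    [Module (ZMod ℓ) (Additive W)] (F : Type) [Field F] [Algebra (ZMod ℓ) F] :
    ∃ (M : Type u) (_ : AddCommGroup M) (_ : Module F M) (_ : FiniteDimensional F M)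
      (κ : MulAut W →* (M →ₗ[F] M)) (ι : W → M), Submodule.span F (Set.range ι) = ⊤ ∧
      (∀ φ v, κ φ (ι v) = ι (φ v)) ∧ (∀ v w, ι (v * w) = ι v + ι w) ∧ (∀ v, ι v = 0 → v = 1) ∧
      (∀ B : Subgroup W, Nat.card B = ℓ ^ Module.finrank F (Submodule.span F (ι '' B))) := by
  haveI : Module.Finite (ZMod ℓ) (Additive W) := Module.Finite.of_finite
  refine ⟨F ⊗[ZMod ℓ] Additive W, inferInstance, inferInstance, inferInstance, H2.krep ℓ F,
    fun v => (1 : F) ⊗ₜ[ZMod ℓ] Additive.ofMul v, ?_, ?_, ?_, ?_, ?_⟩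
  · rw [eq_top_iff]
    intro x _
    induction x using TensorProduct.induction_on with
    | zero => exact zero_mem _
    | tmul a v =>
      have : a ⊗ₜ[ZMod ℓ] v = a • ((1 : F) ⊗ₜ[ZMod ℓ] v) := by
        rw [TensorProduct.smul_tmul', smul_eq_mul, mul_one]
      rw [this]
      exact Submodule.smul_mem _ _ (Submodule.subset_span ⟨Additive.toMul v, rfl⟩)
    | add x y hx hy => exact add_mem (hx trivial) (hy trivial)
  · intro φ v
    rw [H2.krep_apply]
    exact LinearMap.baseChange_tmul _ _ _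
  · intro v w
    show (1 : F) ⊗ₜ[ZMod ℓ] Additive.ofMul (v * w) = _
    rw [ofMul_mul, TensorProduct.tmul_add]
  · intro v hv
    have hinj : Function.Injective (TensorProduct.mk (ZMod ℓ) F (Additive W) 1) :=
      Module.FaithfullyFlat.tensorProduct_mk_injective (Additive W)
    have h0 : TensorProduct.mk (ZMod ℓ) F (Additive W) 1 (Additive.ofMul v) =
        TensorProduct.mk (ZMod ℓ) F (Additive W) 1 0 := by
      rw [map_zero]; exact hv
    exact hinj h0
  · intro B
    let B' : Submodule (ZMod ℓ) (Additive W) :=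
      AddSubgroup.toZModSubmodule ℓ (Subgroup.toAddSubgroup B)
    have h1 : Submodule.span F ((fun v : W => (1 : F) ⊗ₜ[ZMod ℓ] Additive.ofMul v) '' (B : Set W)) =
        B'.baseChange F := by
      rw [Submodule.baseChange_eq_span]
      congr 1
    have h2 : Nat.card B = Nat.card B' := rfl
    rw [h1, h2, Module.natCard_eq_pow_finrank (K := ZMod ℓ), Nat.card_zmod,
      ← (Submodule.toBaseChange.toLinearEquiv (A := F) B').finrank_eq, Module.finrank_baseChange]

theorem exists_repOf_dim {X : Type u} [Group X] [Finite X] {ℓ : ℕ} [hℓ : Fact ℓ.Prime]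
    {V : Subgroup X} (hV : Cfsg.IsElementaryAbelian ℓ V) :
    ∃ (F : Type) (_ : Field F) (_ : IsAlgClosed F) (_ : CharP F ℓ) (M : Type u)
      (_ : AddCommGroup M) (_ : Module F M) (_ : FiniteDimensional F M) (R : RepOf V F M),
      ∀ B : Subgroup V, Nat.card B = ℓ ^ Module.finrank F (Submodule.span F (R.ι '' B)) := by
  letI cg : CommGroup V := { (inferInstance : Group V) with mul_comm := hV.1.is_comm.comm }
  letI md : Module (ZMod ℓ) (Additive V) := AddCommGroup.zmodModule (n := ℓ) (by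
    intro x
    change Additive.ofMul ((Additive.toMul x) ^ ℓ) = 0
    have : (Additive.toMul x) ^ ℓ = 1 := Subtype.ext (hV.2 _ (Additive.toMul x).2)
    rw [this]; rfl)
  haveI : CharP (AlgebraicClosure (ZMod ℓ)) ℓ :=
    charP_of_injective_algebraMap (algebraMap (ZMod ℓ) (AlgebraicClosure (ZMod ℓ))).injective ℓ
  obtain ⟨M, i1, i2, i3, κ, ι, h1, h2, h3, h4, h5⟩ := exists_repOf_aux_dim (W := V) (ℓ := ℓ)
    (AlgebraicClosure (ZMod ℓ))
  exact ⟨AlgebraicClosure (ZMod ℓ), inferInstance, inferInstance, this, M, i1, i2, i3,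
    { rep := κ.comp V.normalizerMonoidHom
      ι := ι
      span_top := h1
      rep_ι := fun g v => h2 _ v
      ι_mul := h3
      ι_inj := h4 }, h5⟩

variable {X : Type u} [Group X] [Finite X]

theorem card_eq_pow_of_frob_ab {ℓ : ℕ} [hℓ : Fact ℓ.Prime] {V A S : Subgroup X}
    (hV : Cfsg.IsElementaryAbelian ℓ V) (hAV : A ≤ normalizer (V : Set X))
    (hSV : S ≤ normalizer (V : Set X)) (hSA : S ≤ normalizer (A : Set X))
    (hAA : ⁅A, A⁆ ≤ centralizer (V : Set X)) (hCV : V ⊓ centralizer (A : Set X) = ⊥)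
    (hfrob : ∀ x ∈ S, x ≠ 1 → ∀ a ∈ A, Commute x a → a = 1) (hAℓ : ¬ ℓ ∣ Nat.card A)
    (hSℓ : ¬ ℓ ∣ Nat.card S) :
    Nat.card V = Nat.card (V ⊓ centralizer (S : Set X) : Subgroup X) ^ Nat.card S := by
  obtain ⟨F, _, _, _, M, _, _, _, R, hdim⟩ := exists_repOf_dim hV
  set N := normalizer (V : Set X) with hN
  set Y : Subgroup X := N ⊓ normalizer (A : Set X) with hY
  have hYV : Y ≤ N := inf_le_left
  let π : Representation F Y M := R.rep.comp (Subgroup.inclusion hYV)
  have hAY : A ≤ Y := le_inf hAV le_normalizer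
  have hSY : S ≤ Y := le_inf hSV hSA
  haveI hAn : (A.subgroupOf Y).Normal := normal_subgroupOf' inf_le_right
  have key := free_dim π (A := A.subgroupOf Y) (S := S.subgroupOf Y)
    (by rw [card_subgroupOf hAY]; exact cast_ne_zero_of_not_dvd (ℓ := ℓ) hAℓ)
    (by
      intro a ha b hb
      have h1 : π ⁅a, b⁆ = 1 := by
        apply R.rep_eq_one_of_mem_centralizer
        exact hAA (commutator_mem_commutator (g₁ := (a : X)) (g₂ := (b : X)) ha hb)
      have h2 : a * b = ⁅a, b⁆ * (b * a) := by rw [commutatorElement_def]; group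
      rw [← map_mul, h2, map_mul, h1, one_mul, map_mul])
    (by
      intro m hm
      have h1 := R.mem_span_fixed (A.subgroupOf N) (m := m)
        (by rw [card_subgroupOf hAV]; exact cast_ne_zero_of_not_dvd (ℓ := ℓ) hAℓ) (by
          intro s hs
          exact hm ⟨s, hAY hs⟩ hs)
      have h2 : R.ι '' {v | ∀ s ∈ A.subgroupOf N, (s : X) * v * (s : X)⁻¹ = v} ⊆ {0} := by
        rintro _ ⟨v, hv, rfl⟩
        have h3 : (v : X) ∈ V ⊓ centralizer (A : Set X) := by
          refine mem_inf.mpr ⟨v.2, ?_⟩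
          rw [mem_centralizer_iff]
          intro s hs
          exact mul_inv_eq_iff_eq_mul.mp (hv ⟨s, hAV hs⟩ hs)
        rw [hCV, mem_bot] at h3
        have h5 : v = 1 := Subtype.ext h3
        rw [h5, R.ι_one]; rfl
      have h3 := Submodule.span_mono (R := F) h2 h1
      rw [Submodule.span_zero_singleton, Submodule.mem_bot] at h3
      exact h3)
    (by
      intro x hx hx1 χ hχ
      have hxS : (x : X) ∈ S := hx
      have hx1' : (x : X) ≠ 1 := fun h => hx1 (Subtype.ext h)
      let φ : A.subgroupOf Y → A.subgroupOf Y := fun a => a⁻¹ * ⟨x⁻¹ * a * x, by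
        have := hAn.conj_mem a a.2 x⁻¹
        rwa [inv_inv] at this⟩
      have hφ : Function.Injective φ := by
        intro a b hab
        have h1 : (a : Y)⁻¹ * (x⁻¹ * a * x) = (b : Y)⁻¹ * (x⁻¹ * b * x) :=
          congrArg Subtype.val hab
        -- `a b⁻¹`
        have h2 : (a : Y)⁻¹ * x⁻¹ * a = (b : Y)⁻¹ * x⁻¹ * b := by
          have h3 : (a : Y)⁻¹ * x⁻¹ * a * x = (b : Y)⁻¹ * x⁻¹ * b * x := by
            calc (a : Y)⁻¹ * x⁻¹ * a * x = (a : Y)⁻¹ * (x⁻¹ * a * x) := by group
              _ = (b : Y)⁻¹ * (x⁻¹ * b * x) := h1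
              _ = (b : Y)⁻¹ * x⁻¹ * b * x := by group
          exact mul_right_cancel h3
        have h3 : x⁻¹ * ((a : Y) * (b : Y)⁻¹) = (a : Y) * (b : Y)⁻¹ * x⁻¹ := by
          calc x⁻¹ * ((a : Y) * (b : Y)⁻¹) = (a : Y) * ((a : Y)⁻¹ * x⁻¹ * a) * (b : Y)⁻¹ := by group
            _ = (a : Y) * ((b : Y)⁻¹ * x⁻¹ * b) * (b : Y)⁻¹ := by rw [h2]
            _ = (a : Y) * (b : Y)⁻¹ * x⁻¹ := by group
        have h4 : Commute x ((a : Y) * (b : Y)⁻¹) :=
          (Commute.inv_left_iff.mp (show Commute x⁻¹ ((a : Y) * (b : Y)⁻¹) from h3))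
        have h5 : (((a : Y) * (b : Y)⁻¹ : Y) : X) = 1 :=
          hfrob x hxS hx1' _ (mul_mem a.2 (inv_mem b.2)) (congrArg Subtype.val h4)
        have h6 : (a : Y) * (b : Y)⁻¹ = 1 := Subtype.ext h5
        exact Subtype.ext (mul_inv_eq_one.mp h6)
      have hφs : Function.Surjective φ := Finite.surjective_of_injective hφ
      ext n
      obtain ⟨a, rfl⟩ := hφs n
      have h1 := DFunLike.congr_fun hχ a
      rw [cwt_apply] at h1
      rw [MonoidHom.one_apply, map_mul, map_inv, h1, inv_mul_cancel])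
  -- the fixed space
  have hfix : fixS π (S.subgroupOf Y) = Submodule.span F (R.ι ''
      (((V ⊓ centralizer (S : Set X)).subgroupOf V : Subgroup V) : Set V)) := by
    apply le_antisymm
    · intro m hm
      have h1 := R.mem_span_fixed (S.subgroupOf N) (m := m)
        (by rw [card_subgroupOf hSV]; exact cast_ne_zero_of_not_dvd (ℓ := ℓ) hSℓ) (by
          intro s hs
          exact hm ⟨s, hSY hs⟩ hs)
      refine Submodule.span_mono ?_ h1
      rintro _ ⟨v, hv, rfl⟩
      refine ⟨v, ?_, rfl⟩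
      rw [SetLike.mem_coe, mem_subgroupOf]
      refine mem_inf.mpr ⟨v.2, ?_⟩
      rw [mem_centralizer_iff]
      intro s hs
      exact mul_inv_eq_iff_eq_mul.mp (hv ⟨s, hSV hs⟩ hs)
    · rw [Submodule.span_le]
      rintro _ ⟨v, hv, rfl⟩
      rw [SetLike.mem_coe, mem_subgroupOf] at hv
      intro s hs
      show R.rep _ (R.ι v) = R.ι v
      rw [R.rep_ι]
      congr 1
      apply Subtype.ext
      rw [RepOf.coe_hom]
      have h3 := mem_centralizer_iff.mp (mem_inf.mp hv).2 s hs
      show (s : X) * v * (s : X)⁻¹ = v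
      rw [h3, mul_inv_cancel_right]
  have h1 : Nat.card V = ℓ ^ Module.finrank F M := by
    have h2 := hdim ⊤
    rw [coe_top, Set.image_univ, R.span_top, finrank_top] at h2
    rw [← h2]
    exact (Nat.card_congr (topEquiv (G := V)).toEquiv).symm
  have h2 : Nat.card (V ⊓ centralizer (S : Set X) : Subgroup X) =
      ℓ ^ Module.finrank F (fixS π (S.subgroupOf Y)) := by
    rw [hfix, ← hdim, card_subgroupOf inf_le_left]
  rw [h1, h2, key, card_subgroupOf hSY, ← pow_mul, mul_comm]

end Cfsg.Agent.H1
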