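import Cfsg.Agent.H1.Weight

/-!
# Frobenius groups acting on modules: freeness over the complement (helper1)
-/

set_option autoImplicit false

namespace Cfsg.Agent.H1

open Subgroup
open scoped commutatorElement Pointwise

universe u v w

/-- a transversal for a free action on the nontrivial characters -/
theorem exists_transversal310 {F : Type*} [Field F] {G : Type u} [Group G] {A : Subgroup G}
    [A.Normal] (S : Subgroup G)
    (hfree : ∀ x ∈ S, x ≠ 1 → ∀ χ : A →* Fˣ, cwt x χ = χ → χ = 1) :
    ∃ T : Set (A →* Fˣ), (∀ χ : A →* Fˣ, χ ≠ 1 → ∃ x ∈ S, cwt x χ ∈ T) ∧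
      (∀ χ ∈ T, ∀ x ∈ S, cwt x χ ∈ T → x = 1) := by
  classical
  let s : Setoid (A →* Fˣ) :=
    { r := fun χ ψ => ∃ x ∈ S, cwt x χ = ψ
      iseqv :=
        { refl := fun χ => ⟨1, one_mem S, cwt_one χ⟩
          symm := by
            rintro χ ψ ⟨x, hx, rfl⟩
            exact ⟨x⁻¹, inv_mem hx, by rw [← cwt_mul, inv_mul_cancel, cwt_one]⟩
          trans := by
            rintro χ ψ θ ⟨x, hx, rfl⟩ ⟨y, hy, rfl⟩
            exact ⟨y * x, mul_mem hy hx, cwt_mul y x χ⟩ } }
  let rep : (A →* Fˣ) → (A →* Fˣ) := fun χ => Quotient.out (Quotient.mk s χ)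
  have hrep : ∀ χ, ∃ x ∈ S, cwt x χ = rep χ := fun χ =>
    Quotient.exact (Quotient.out_eq (Quotient.mk s χ)).symm
  have hrep2 : ∀ χ ψ, (∃ x ∈ S, cwt x χ = ψ) → rep χ = rep ψ := fun χ ψ h =>
    congrArg Quotient.out (Quotient.sound (s := s) h)
  have h1 : ∀ x : G, cwt x (1 : A →* Fˣ) = 1 := fun x => by
    ext n
    rw [cwt_apply]; rfl
  refine ⟨{χ | χ ≠ 1 ∧ rep χ = χ}, ?_, ?_⟩
  · intro χ hχ
    obtain ⟨x, hx, hxχ⟩ := hrep χ
    refine ⟨x, hx, ?_, ?_⟩
    · intro h2
      apply hχ
      have h3 : cwt x⁻¹ (cwt x χ) = χ := by rw [← cwt_mul, inv_mul_cancel, cwt_one]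
      rw [← h3, h2, h1]
    · rw [hxχ]
      have := hrep2 χ (rep χ) (hrep χ)
      exact this.symm
  · rintro χ ⟨hχ1, hχ⟩ x hx ⟨-, hxχ⟩
    by_contra hx1
    apply hχ1
    apply hfree x hx hx1
    rw [← hxχ, ← hrep2 χ (cwt x χ) ⟨x, hx, rfl⟩, hχ]

section LF

variable {F : Type*} [Field F] [IsAlgClosed F] {G : Type u} [Group G] [Finite G] {M : Type v}
  [AddCommGroup M] [Module F M] [FiniteDimensional F M]

/-- the fixed space of a subgroup -/
def fixS (π : Representation F G M) (S : Subgroup G) : Submodule F M where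
  carrier := {m | ∀ s ∈ S, π s m = m}
  add_mem' := fun {a b} ha hb s hs => by rw [map_add, ha s hs, hb s hs]
  zero_mem' := fun s _ => map_zero _
  smul_mem' := fun c m hm s hs => by rw [map_smul, hm s hs]

omit [IsAlgClosed F] [Finite G] [FiniteDimensional F M] in
theorem mem_fixS {π : Representation F G M} {S : Subgroup G} {m : M} :
    m ∈ fixS π S ↔ ∀ s ∈ S, π s m = m := Iff.rfl

open Classical in
theorem free_dim (π : Representation F G M) {A S : Subgroup G} [hA : A.Normal]
    (hAF : (Nat.card A : F) ≠ 0) (hcomm : ∀ a ∈ A, ∀ b ∈ A, π a * π b = π b * π a)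
    (hno : ∀ m, (∀ a ∈ A, π a m = m) → m = 0)
    (hfree : ∀ x ∈ S, x ≠ 1 → ∀ χ : A →* Fˣ, cwt x χ = χ → χ = 1) :
    Module.finrank F M = Nat.card S * Module.finrank F (fixS π S) := by
  obtain ⟨T, hT1, hT2⟩ := exists_transversal310 (F := F) S hfree
  obtain ⟨ι, _, b, μ, hb⟩ := exists_eigenbasis_of_comm hAF (π.comp A.subtype)
    (fun x y => hcomm x x.2 y y.2)
  have hbw : ∀ i, b i ∈ wt π A (μ i) := fun i n => hb n i
  letI : Fintype S := Fintype.ofFinite S
  -- nontrivial weights
  have hμ1 : ∀ i, μ i ≠ 1 := by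
    intro i hi
    apply b.ne_zero i
    apply hno
    intro a ha
    have := hbw i ⟨a, ha⟩
    rw [hi] at this
    rw [this, MonoidHom.one_apply, Units.val_one, one_smul]
  -- coordinates
  have hc1 : ∀ (n : A) (m : M) (i : ι), b.repr (π n m) i = (μ i n : F) * b.repr m i := by
    intro n m i
    have h1 : π n m = ∑ j, b.repr m j • ((μ j n : F) • b j) := by
      conv_lhs => rw [← b.sum_repr m]
      rw [map_sum]
      refine Finset.sum_congr rfl fun j _ => ?_
      rw [map_smul, hbw j n]
    rw [h1, map_sum, Finsupp.finset_sum_apply, Finset.sum_eq_single i]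
    · rw [map_smul, map_smul, Finsupp.smul_apply, Finsupp.smul_apply, b.repr_self,
        Finsupp.single_eq_same, smul_eq_mul, smul_eq_mul, mul_one, mul_comm]
    · intro j _ hj
      rw [map_smul, map_smul, Finsupp.smul_apply, Finsupp.smul_apply, b.repr_self,
        Finsupp.single_eq_of_ne hj.symm, smul_zero, smul_zero]
    · intro h; exact absurd (Finset.mem_univ i) h
  have hc2 : ∀ (χ : A →* Fˣ) (m : M), m ∈ wt π A χ → ∀ i, b.repr m i ≠ 0 → μ i = χ := by
    intro χ m hm i hi
    ext n
    have h1 := hc1 n m i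
    rw [hm n, map_smul, Finsupp.smul_apply, smul_eq_mul] at h1
    exact (mul_right_cancel₀ hi h1).symm
  -- the subspaces attached to sets of characters
  let U : Set (A →* Fˣ) → Submodule F M := fun C =>
    { carrier := {m | ∀ i, μ i ∉ C → b.repr m i = 0}
      add_mem' := fun {x y} hx hy i hi => by
        rw [map_add, Finsupp.add_apply, hx i hi, hy i hi, add_zero]
      zero_mem' := fun i _ => by rw [map_zero, Finsupp.zero_apply]
      smul_mem' := fun c x hx i hi => by
        rw [map_smul, Finsupp.smul_apply, hx i hi, smul_zero] }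
  have hUmem : ∀ C m, m ∈ U C ↔ ∀ i, μ i ∉ C → b.repr m i = 0 := fun C m => Iff.rfl
  have hUspan : ∀ C, U C = Submodule.span F (Set.range fun j : {i // μ i ∈ C} => b j) := by
    intro C
    have h1 : Set.range (fun j : {i // μ i ∈ C} => b j) = b '' {i | μ i ∈ C} := by
      ext m
      constructor
      · rintro ⟨j, rfl⟩; exact ⟨j, j.2, rfl⟩
      · rintro ⟨i, hi, rfl⟩; exact ⟨⟨i, hi⟩, rfl⟩
    rw [h1]
    ext m
    rw [hUmem, b.mem_span_image]
    constructor
    · intro h i hi
      by_contra hC
      exact (Finsupp.mem_support_iff.mp hi) (h i hC)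
    · intro h i hi
      by_contra hne
      exact hi (h (Finsupp.mem_support_iff.mpr hne))
  have hUdim : ∀ C, Module.finrank F (U C) = Fintype.card {i // μ i ∈ C} := by
    intro C
    rw [hUspan]
    exact finrank_span_eq_card (b.linearIndependent.comp _ Subtype.val_injective)
  -- the action on the subspaces
  have hUmap : ∀ (x : G) (C : Set (A →* Fˣ)) (m : M), m ∈ U C →
      π x m ∈ U {ψ | cwt x⁻¹ ψ ∈ C} := by
    intro x C m hm
    rw [hUspan] at hm
    induction hm using Submodule.span_induction with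
    | mem y hy =>
      obtain ⟨j, rfl⟩ := hy
      intro i hi
      by_contra hne
      apply hi
      have h1 := hc2 _ _ (wt_map (hbw j) x) i hne
      show cwt x⁻¹ (μ i) ∈ C
      rw [h1, ← cwt_mul, inv_mul_cancel, cwt_one]
      exact j.2
    | zero => rw [map_zero]; exact zero_mem _
    | add y z _ _ hy hz => rw [map_add]; exact add_mem hy hz
    | smul c y _ hy => rw [map_smul]; exact Submodule.smul_mem _ c hy
  have hcard : ∀ x ∈ S, Fintype.card {i // cwt x (μ i) ∈ T} = Fintype.card {i // μ i ∈ T} := by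
    intro x hx
    have h1 : Module.finrank F (U {ψ | cwt x ψ ∈ T}) = Module.finrank F (U T) := by
      let e : U {ψ | cwt x ψ ∈ T} ≃ₗ[F] U T := LinearEquiv.ofLinear
        (LinearMap.codRestrict _ ((π x).comp (Submodule.subtype _)) (fun m => by
          have h2 := hUmap x _ m.1 m.2
          have h3 : {ψ : A →* Fˣ | cwt x⁻¹ ψ ∈ {ψ : A →* Fˣ | cwt x ψ ∈ T}} = T := by
            ext ψ
            simp only [Set.mem_setOf_eq]
            rw [← cwt_mul, mul_inv_cancel, cwt_one]
          rw [h3] at h2
          exact h2))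
        (LinearMap.codRestrict _ ((π x⁻¹).comp (Submodule.subtype _)) (fun m => by
          have h2 := hUmap x⁻¹ _ m.1 m.2
          rw [inv_inv] at h2
          exact h2))
        (by
          ext m
          show π x (π x⁻¹ m) = m
          rw [← Module.End.mul_apply, ← map_mul, mul_inv_cancel, map_one, Module.End.one_apply])
        (by
          ext m
          show π x⁻¹ (π x m) = m
          rw [← Module.End.mul_apply, ← map_mul, inv_mul_cancel, map_one, Module.End.one_apply])
      exact e.finrank_eq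
    rw [hUdim, hUdim] at h1
    exact h1
  -- counting
  have hcount : Fintype.card ι = Fintype.card S * Fintype.card {i // μ i ∈ T} := by
    choose f hf using fun i => hT1 (μ i) (hμ1 i)
    let f' : ι → S := fun i => ⟨f i, (hf i).1⟩
    have h1 := Finset.card_eq_sum_card_fiberwise (s := (Finset.univ : Finset ι))
      (t := (Finset.univ : Finset S)) (f := f') (fun i _ => Finset.mem_univ _)
    rw [Finset.card_univ] at h1
    rw [h1, Finset.sum_const_nat (m := Fintype.card {i // μ i ∈ T}), Finset.card_univ]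
    intro x _
    rw [← hcard x x.2, Fintype.card_subtype]
    congr 1
    ext i
    simp only [Finset.mem_filter, Finset.mem_univ, true_and]
    constructor
    · intro h; rw [← h]; exact (hf i).2
    · intro h
      apply Subtype.ext
      show f i = x
      have h2 := hT2 _ (hf i).2 (x * (f i)⁻¹) (mul_mem x.2 (inv_mem (hf i).1)) (by
        rw [← cwt_mul, inv_mul_cancel_right]; exact h)
      exact (mul_inv_eq_one.mp h2).symm
  -- the fixed space
  have hfix : Module.finrank F (U T) = Module.finrank F (fixS π S) := by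
    have hL : ∀ m, (∑ x : S, π (x : G) m) ∈ fixS π S := by
      intro m s hs
      rw [map_sum]
      refine Fintype.sum_equiv (Equiv.mulLeft (⟨s, hs⟩ : S)) _ _ fun x => ?_
      rw [← Module.End.mul_apply, ← map_mul]; rfl
    -- coordinates of the translates
    have hco : ∀ m ∈ U T, ∀ x ∈ S, ∀ i, cwt x⁻¹ (μ i) ∈ T →
        b.repr (∑ y : S, π (y : G) m) i = b.repr (π x m) i := by
      intro m hm x hx i hi
      rw [map_sum, Finsupp.finset_sum_apply, Finset.sum_eq_single ⟨x, hx⟩]
      · intro y _ hy
        by_contra hne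
        apply hy
        have h1 := hUmap y T m hm
        have h2 : cwt (y : G)⁻¹ (μ i) ∈ T := by
          by_contra h3
          exact hne (h1 i h3)
        have h3 := hT2 _ hi ((y : G)⁻¹ * x) (mul_mem (inv_mem y.2) hx) (by
          rw [← cwt_mul, mul_assoc, mul_inv_cancel, mul_one]; exact h2)
        apply Subtype.ext
        rw [inv_mul_eq_one] at h3
        exact h3
      · intro h; exact absurd (Finset.mem_univ _) h
    let L : U T →ₗ[F] fixS π S := LinearMap.codRestrict _
      ((∑ x : S, π (x : G)).comp (Submodule.subtype _)) (fun m => by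
        rw [LinearMap.comp_apply, LinearMap.sum_apply]; exact hL _)
    have hLap : ∀ m, ((L m : fixS π S) : M) = ∑ x : S, π (x : G) (m : M) := fun m => by
      show (∑ x : S, π (x : G)) (m : M) = _
      rw [LinearMap.sum_apply]
    refine (LinearEquiv.ofBijective L ⟨?_, ?_⟩).finrank_eq
    · rw [← LinearMap.ker_eq_bot, LinearMap.ker_eq_bot']
      intro m hm
      apply Subtype.ext
      have h1 : (∑ x : S, π (x : G) (m : M)) = 0 := by rw [← hLap, hm]; rfl
      apply b.repr.injective
      ext i
      show b.repr (m : M) i = b.repr 0 i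
      rw [map_zero, Finsupp.zero_apply]
      by_cases hi : μ i ∈ T
      · have h2 := hco m m.2 1 (one_mem S) i (by rw [inv_one, cwt_one]; exact hi)
        rw [h1, map_zero, Finsupp.zero_apply, map_one, Module.End.one_apply] at h2
        exact h2.symm
      · exact m.2 i hi
    · rintro ⟨m, hm⟩
      -- the part of `m` supported on `T`
      let u : M := ∑ i, (if μ i ∈ T then b.repr m i else 0) • b i
      have hu : ∀ i, b.repr u i = if μ i ∈ T then b.repr m i else 0 := by
        intro i
        rw [show b.repr u = b.repr (∑ i, (if μ i ∈ T then b.repr m i else 0) • b i) from rfl,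
          map_sum, Finsupp.finset_sum_apply, Finset.sum_eq_single i]
        · rw [map_smul, Finsupp.smul_apply, b.repr_self, Finsupp.single_eq_same, smul_eq_mul,
            mul_one]
        · intro j _ hj
          rw [map_smul, Finsupp.smul_apply, b.repr_self, Finsupp.single_eq_of_ne hj.symm,
            smul_zero]
        · intro h; exact absurd (Finset.mem_univ i) h
      have huT : u ∈ U T := by
        intro i hi
        rw [hu, if_neg hi]
      have hu' : m - u ∈ U Tᶜ := by
        intro i hi
        rw [Set.mem_compl_iff, not_not] at hi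
        rw [map_sub, Finsupp.sub_apply, hu, if_pos hi, sub_self]
      refine ⟨⟨u, huT⟩, ?_⟩
      apply Subtype.ext
      rw [hLap]
      apply b.repr.injective
      ext i
      obtain ⟨x, hx, hxi⟩ := hT1 (μ i) (hμ1 i)
      have hx' : cwt x⁻¹⁻¹ (μ i) ∈ T := by rw [inv_inv]; exact hxi
      show b.repr (∑ y : S, π (y : G) u) i = b.repr m i
      rw [hco u huT x⁻¹ (inv_mem hx) i hx']
      have h1 : π x⁻¹ (m - u) ∈ U {ψ | cwt x⁻¹⁻¹ ψ ∈ Tᶜ} := hUmap x⁻¹ _ _ hu'
      have h2 := h1 i (by
        show ¬ (cwt x⁻¹⁻¹ (μ i) ∈ Tᶜ)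
        rw [Set.mem_compl_iff, not_not]; exact hx')
      rw [map_sub, hm x⁻¹ (inv_mem hx), map_sub, Finsupp.sub_apply, sub_eq_zero] at h2
      exact h2.symm
  rw [Module.finrank_eq_card_basis b, hcount, ← hUdim, hfix, Nat.card_eq_fintype_card]

end LF

end Cfsg.Agent.H1
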