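import Cfsg.Agent.H1.BG3Lin
import Cfsg.Agent.H1.BG6
import Cfsg.Agent.H23.Coprime5
import Mathlib

/-!
# Bender–Glauberman Theorem 3.4 (helper1)
-/

set_option autoImplicit false

namespace Cfsg.Agent.H1

open Subgroup
open scoped commutatorElement Pointwise

universe u v

section Grp

variable {X : Type u} [Group X] [Finite X]

/-- minimal nontrivial coprime action on a solvable group -/
theorem min_action {K A : Subgroup X} (hA : A ≤ normalizer (K : Set X))
    (hcop : (Nat.card A).Coprime (Nat.card K)) (hs : Group.IsSolvable K)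
    (hmin : ∀ K₀ : Subgroup X, K₀ < K → A ≤ normalizer (K₀ : Set X) →
      K₀ ≤ centralizer (A : Set X)) (hne : ¬ K ≤ centralizer (A : Set X)) :
    ⁅K, A⁆ = K ∧ ⁅K, K⁆ ≤ centralizer (K : Set X) ∧ K ⊓ centralizer (A : Set X) ≤ ⁅K, K⁆ ∧
      ∀ N : Subgroup X, N < K → A ≤ normalizer (N : Set X) → K ≤ normalizer (N : Set X) →
        N ≤ centralizer (K : Set X) := by
  have hle : ⁅K, A⁆ ≤ K := H23.commutator_le_of_le_normalizer hA
  have hKA : ⁅K, A⁆ = K := by
    by_contra hlt
    have h1 := hmin _ (lt_of_le_of_ne hle hlt) (normalizer_commutator_ge_right _ _)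
    exact hne (H23.le_centralizer_of_commutator_le hA hcop le_rfl h1)
  have h4 : ∀ N : Subgroup X, N < K → A ≤ normalizer (N : Set X) → K ≤ normalizer (N : Set X) →
      N ≤ centralizer (K : Set X) := by
    intro N hN hAN hKN
    have h1 : ⁅N, A⁆ = ⊥ := commutator_eq_bot_iff_le_centralizer.mpr (hmin N hN hAN)
    have h2 : ⁅⁅N, A⁆, K⁆ = ⊥ := by rw [h1, commutator_bot_left]
    have h3 : ⁅⁅K, N⁆, A⁆ = ⊥ := by
      rw [eq_bot_iff, ← h1]
      apply commutator_mono _ le_rfl
      rw [commutator_comm]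
      exact H23.commutator_le_of_le_normalizer hKN
    have h5 : ⁅⁅A, K⁆, N⁆ = ⊥ := commutator_commutator_eq_bot_of_rotate h3 h2
    rw [commutator_comm A K, hKA, commutator_comm, commutator_eq_bot_iff_le_centralizer] at h5
    exact h5
  have hKne : K ≠ ⊥ := by
    rintro rfl; exact hne bot_le
  have hlt : ⁅K, K⁆ < K := by
    refine lt_of_le_of_ne (commutator_le_self K) fun h => ?_
    haveI := hs
    obtain ⟨n, hn⟩ := (isSolvable_def K).mp hs
    have key : ∀ n, (derivedSeries K n).map K.subtype = K := by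
      intro n
      induction n with
      | zero => rw [derivedSeries_zero, ← MonoidHom.range_eq_map, range_subtype]
      | succ n ih => rw [derivedSeries_succ, map_commutator, ih, h]
    have := key n
    rw [hn, Subgroup.map_bot] at this
    exact hKne this.symm
  have hnA : A ≤ normalizer ((⁅K, K⁆ : Subgroup X) : Set X) := by
    refine H23.le_normalizer_of_conj_mem ?_
    intro a ha g hg
    have h1 : MulAut.conj a • ⁅K, K⁆ = ⁅K, K⁆ := by
      rw [H23.conj_smul_commutator, H1.mem_normalizer_iff_conj_smul.mp (hA ha)]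
    rw [← h1]
    exact ⟨g, hg, rfl⟩
  have hnK : K ≤ normalizer ((⁅K, K⁆ : Subgroup X) : Set X) := normalizer_commutator_ge_left _ _
  refine ⟨hKA, h4 _ hlt hnA hnK, ?_, h4⟩
  have := H23.commutator_inf_centralizer_le_derived hA hcop
  rwa [hKA] at this

/-- `ρ` is a power of `ρ ^ j` for `0 < j < r` -/
theorem exists_pow_pow_eq {X : Type*} [Group X] {ρ : X} {r : ℕ} (hr : r.Prime) (hρ : ρ ^ r = 1)
    {j : ℕ} (hj0 : 0 < j) (hjr : j < r) : ∃ k : ℕ, (ρ ^ j) ^ k = ρ := by
  have hcop : Nat.Coprime j r := (Nat.coprime_of_lt_prime (by omega) hjr hr).symm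
  obtain ⟨k, -, hk⟩ := Nat.exists_mul_mod_eq_one_of_coprime hcop hr.one_lt
  refine ⟨k, ?_⟩
  rw [← pow_mul]
  conv_rhs => rw [← pow_one ρ]
  rw [← Nat.div_add_mod (j * k) r, pow_add, pow_mul, hρ, one_pow, one_mul, hk]

theorem commute_of_commute_pow {X : Type*} [Group X] {ρ x : X} {r : ℕ} (hr : r.Prime)
    (hρ : ρ ^ r = 1) {j : ℕ} (hj0 : 0 < j) (hjr : j < r) (h : Commute (ρ ^ j) x) :
    Commute ρ x := by
  obtain ⟨k, hk⟩ := exists_pow_pow_eq hr hρ hj0 hjr
  have := h.pow_left k
  rwa [hk] at this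

end Grp

section Lin

variable {F : Type*} [Field F] {G : Type u} [Group G] [Finite G] {V : Type v} [AddCommGroup V]
  [Module F V]

/-- if `ρ` of prime order acts without fixed points on `K` and has no fixed vectors on `V`
then `K` acts trivially on `V` -/
theorem frob_lin (π : Representation F G V) {K : Subgroup G} {ρ : G}
    (hρ : ρ ∈ normalizer (K : Set G)) {r : ℕ} (hr : r.Prime) (hρr : ρ ^ r = 1)
    (hfix : ∀ x ∈ K, Commute ρ x → x = 1) (hK : (Nat.card K : F) ≠ 0)
    (hsum : ∑ j ∈ Finset.range r, π (ρ ^ j) = 0) : ∀ x ∈ K, π x = 1 := by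
  classical
  haveI : Fintype K := Fintype.ofFinite K
  set N : V →ₗ[F] V := ∑ k : K, π (k : G) with hN
  have h0 : ∑ d : K, π (d : G) * (∑ j ∈ Finset.range r, π (ρ ^ j)) * π (d : G)⁻¹ = 0 := by
    rw [hsum]; simp
  have h1 : ∑ d : K, π (d : G) * (∑ j ∈ Finset.range r, π (ρ ^ j)) * π (d : G)⁻¹ =
      ∑ j ∈ Finset.range r, ∑ d : K, π ((d : G) * ρ ^ j * (d : G)⁻¹) := by
    rw [Finset.sum_comm]
    refine Finset.sum_congr rfl fun d _ => ?_
    rw [Finset.mul_sum, Finset.sum_mul]
    refine Finset.sum_congr rfl fun j _ => ?_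
    rw [map_mul, map_mul]
  have hpow : ∀ j : ℕ, ρ ^ j ∈ normalizer (K : Set G) := fun j => pow_mem hρ j
  have h2 : ∀ j, 0 < j → j < r → ∑ d : K, π ((d : G) * ρ ^ j * (d : G)⁻¹) = N * π (ρ ^ j) := by
    intro j hj0 hjr
    let f : K → K := fun d => ⟨d * (ρ ^ j * (d : G)⁻¹ * (ρ ^ j)⁻¹),
      K.mul_mem d.2 ((mem_normalizer_iff.mp (hpow j) _).mp (K.inv_mem d.2))⟩
    have hinj : Function.Injective f := by
      intro a b hab
      have e : (a : G) * (ρ ^ j * (a : G)⁻¹ * (ρ ^ j)⁻¹) = b * (ρ ^ j * (b : G)⁻¹ * (ρ ^ j)⁻¹) :=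
        congrArg Subtype.val hab
      have e2 : ρ ^ j * ((a : G)⁻¹ * b) = ((a : G)⁻¹ * b) * ρ ^ j := by
        have e3 : (a : G) * ρ ^ j * (a : G)⁻¹ = b * ρ ^ j * (b : G)⁻¹ := by
          have := congrArg (fun t => t * ρ ^ j) e
          simpa [mul_assoc] using this
        calc ρ ^ j * ((a : G)⁻¹ * b) = (a : G)⁻¹ * ((a : G) * ρ ^ j * (a : G)⁻¹) * b := by group
          _ = (a : G)⁻¹ * (b * ρ ^ j * (b : G)⁻¹) * b := by rw [e3]
          _ = _ := by group
      have e4 := commute_of_commute_pow hr hρr hj0 hjr (x := (a : G)⁻¹ * b) e2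
      have e5 := hfix _ (K.mul_mem (K.inv_mem a.2) b.2) e4
      exact Subtype.ext (inv_mul_eq_one.1 e5)
    have hbij : Function.Bijective f := Finite.injective_iff_bijective.1 hinj
    have e6 : ∀ d : K, π ((d : G) * ρ ^ j * (d : G)⁻¹) = π ((f d : K) : G) * π (ρ ^ j) := by
      intro d
      rw [← map_mul]
      congr 1
      show _ = (d : G) * (ρ ^ j * (d : G)⁻¹ * (ρ ^ j)⁻¹) * ρ ^ j
      group
    rw [Finset.sum_congr rfl fun d _ => e6 d, hN, ← Finset.sum_mul]
    congr 1
    exact hbij.sum_comp (fun x : K => π (x : G))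
  obtain ⟨r', rfl⟩ : ∃ r', r = r' + 1 := ⟨r - 1, by have := hr.pos; omega⟩
  rw [h1, Finset.sum_range_succ'] at h0
  have h3 : ∑ j ∈ Finset.range r', ∑ d : K, π ((d : G) * ρ ^ (j + 1) * (d : G)⁻¹) = - N := by
    rw [Finset.sum_congr rfl fun j hj => h2 (j + 1) (by omega)
      (by have := Finset.mem_range.mp hj; omega), ← Finset.mul_sum]
    rw [Finset.sum_range_succ', pow_zero, map_one] at hsum
    rw [eq_neg_of_add_eq_zero_left hsum, mul_neg, mul_one]
  have h4 : ∑ d : K, π ((d : G) * ρ ^ 0 * (d : G)⁻¹) = (Nat.card K : F) • (1 : V →ₗ[F] V) := by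
    rw [Finset.sum_congr rfl fun d _ => by rw [pow_zero, mul_one, mul_inv_cancel, map_one],
      Finset.sum_const, Finset.card_univ, ← Nat.card_eq_fintype_card, Nat.cast_smul_eq_nsmul F]
  rw [h3, h4] at h0
  have h5 : N = (Nat.card K : F) • (1 : V →ₗ[F] V) := (neg_add_eq_zero.mp h0)
  intro x hx
  have h6 : π x * N = N := by
    rw [hN, Finset.mul_sum]
    rw [← Equiv.sum_comp (Equiv.mulLeft (⟨x, hx⟩ : K)) (fun z : K => π (z : G))]
    refine Finset.sum_congr rfl fun z _ => ?_
    rw [← map_mul]; rfl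
  rw [h5, mul_smul_comm, mul_one] at h6
  exact smul_right_injective _ hK h6

/-- the conclusion of BG 3.4 for groups `K` of order less than `n` -/
def BG34 (F : Type*) [Field F] (r : ℕ) (n : ℕ) : Prop :=
  ∀ (G : Type u) [Group G] [Finite G] (K : Subgroup G) (ρ : G), Nat.card K = n →
    ρ ∈ normalizer (K : Set G) → ρ ^ r = 1 → (Nat.card K).Coprime r → Odd (Nat.card K) →
    Group.IsSolvable K → (Nat.card K : F) ≠ 0 →
    ∀ (V : Type v) [AddCommGroup V] [Module F V] [FiniteDimensional F V]
      (π : Representation F G V), ∑ j ∈ Finset.range r, π (ρ ^ j) = 0 →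
      ∀ x ∈ K, π ⁅x, ρ⁆ = 1

theorem bg34_irr [IsAlgClosed F] {r : ℕ} (hr : r.Prime) (hr2 : r ≠ 2) (hrF : (r : F) ≠ 0)
    {n : ℕ} (ih : ∀ m < n, BG34.{u, v} F r m) {K : Subgroup G} {ρ : G} (hn : Nat.card K = n)
    (hgen : K ⊔ zpowers ρ = ⊤)
    (hρ : ρ ∈ normalizer (K : Set G)) (hρr : ρ ^ r = 1) (hcop : (Nat.card K).Coprime r)
    (hodd : Odd (Nat.card K)) (hs : Group.IsSolvable K) (hKF : (Nat.card K : F) ≠ 0)
    [FiniteDimensional F V] (π : Representation F G V) [hirr : π.IsIrreducible]
    (hsum : ∑ j ∈ Finset.range r, π (ρ ^ j) = 0) :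
    ∀ x ∈ K, π ⁅x, ρ⁆ = 1 := by
  haveI hKn : K.Normal := by
    rw [← normalizer_eq_top_iff, ← top_le_iff, ← hgen]
    exact sup_le le_normalizer (by rw [zpowers_le]; exact hρ)
  -- pass to the quotient by the kernel
  by_cases hker : K ⊓ π.ker = ⊥
  swap
  · set N := K ⊓ π.ker with hN
    haveI : N.Normal := by rw [hN]; infer_instance
    have hlt : Nat.card (K.map (QuotientGroup.mk' N)) < n := by
      have h1 := card_map_mk'_mul N K
      have h2 : 1 < Nat.card (K ⊓ N : Subgroup G) := by
        rw [inf_of_le_right (inf_le_left : N ≤ K)]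
        exact (Subgroup.one_lt_card_iff_ne_bot N).mpr hker
      have h3 : 0 < Nat.card (K.map (QuotientGroup.mk' N)) := Nat.card_pos
      rw [hn] at h1
      nlinarith
    have hdvd : Nat.card (K.map (QuotientGroup.mk' N)) ∣ Nat.card K := card_map_dvd _ _
    let πq : Representation F (G ⧸ N) V := QuotientGroup.lift N π (fun x hx => (mem_inf.mp hx).2)
    have hπq : ∀ g : G, πq (QuotientGroup.mk' N g) = π g := fun g => rfl
    have key := ih _ hlt (G ⧸ N) (K.map (QuotientGroup.mk' N)) (QuotientGroup.mk' N ρ) rfl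
      (by
        have : (K.map (QuotientGroup.mk' N)).Normal := hKn.map _ (QuotientGroup.mk'_surjective N)
        rw [normalizer_eq_top]; trivial)
      (by rw [← map_pow, hρr, map_one])
      (Nat.Coprime.coprime_dvd_left hdvd hcop)
      (hodd.of_dvd_nat hdvd)
      (by
        haveI := hs
        exact isSolvable_map _ hs)
      (by
        obtain ⟨m, hm⟩ := hdvd
        intro h0
        apply hKF
        rw [hm, Nat.cast_mul, h0, zero_mul])
      V πq (by
        rw [← hsum]
        refine Finset.sum_congr rfl fun j _ => ?_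
        rw [← map_pow, hπq])
    intro x hx
    have := key (QuotientGroup.mk' N x) ⟨x, hx, rfl⟩
    rw [← map_commutatorElement, hπq] at this
    exact this
  · have hinj : ∀ x ∈ K, π x = 1 → x = 1 := by
      intro x hx h1
      have : x ∈ K ⊓ π.ker := mem_inf.mpr ⟨hx, h1⟩
      rwa [hker, mem_bot] at this
    have hcK : ∀ x ∈ K, ⁅x, ρ⁆ ∈ K := by
      intro x hx
      have : ⁅x, ρ⁆ = x * (ρ * x⁻¹ * ρ⁻¹) := by rw [commutatorElement_def]; group
      rw [this]
      exact mul_mem hx (hKn.conj_mem _ (inv_mem hx) ρ)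
    by_contra hcon
    push Not at hcon
    obtain ⟨x₀, hx₀, hne₀⟩ := hcon
    set A := zpowers ρ with hA
    have hAK : A ≤ normalizer (K : Set G) := by rw [hA, zpowers_le]; exact hρ
    have hAc : Nat.card A ∣ r := by rw [hA, Nat.card_zpowers]; exact orderOf_dvd_of_pow_eq_one hρr
    have hcopA : (Nat.card A).Coprime (Nat.card K) :=
      Nat.Coprime.coprime_dvd_left hAc hcop.symm
    have hAcent : ∀ x, x ∈ centralizer (A : Set G) ↔ ρ * x = x * ρ := by
      intro x
      rw [hA, zpowers_eq_closure, centralizer_closure, mem_centralizer_singleton_iff]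
      exact eq_comm
    have hne : ¬ K ≤ centralizer (A : Set G) := by
      intro h1
      apply hne₀
      have : ⁅x₀, ρ⁆ = 1 := by
        rw [commutatorElement_eq_one_iff_mul_comm]
        exact ((hAcent x₀).mp (h1 hx₀)).symm
      rw [this, map_one]
    have hmin : ∀ K₀ : Subgroup G, K₀ < K → A ≤ normalizer (K₀ : Set G) →
        K₀ ≤ centralizer (A : Set G) := by
      intro K₀ hK₀ hAK₀ x hx
      have hcard : Nat.card K₀ < n := by
        rw [← hn]
        exact card_lt_of_lt' hK₀
      have hdvd := card_dvd_of_le hK₀.le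
      have := ih _ hcard G K₀ ρ rfl (hAK₀ (mem_zpowers ρ)) hρr
        (Nat.Coprime.coprime_dvd_left hdvd hcop) (hodd.of_dvd_nat hdvd)
        (isSolvable_of_le hK₀.le hs) (by
          obtain ⟨m, hm⟩ := hdvd
          intro h0
          apply hKF
          rw [hm, Nat.cast_mul, h0, zero_mul]) V π hsum x hx
      have h1 := hinj _ (hcK x (hK₀.le hx)) this
      rw [commutatorElement_eq_one_iff_mul_comm] at h1
      exact (hAcent x).mpr h1.symm
    obtain ⟨hKA, hK', hCK, hN⟩ := min_action hAK hcopA hs hmin hne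
    have hne' : ∃ x ∈ K, π x ≠ 1 := ⟨_, hcK x₀ hx₀, hne₀⟩
    by_cases hab : K ≤ centralizer (K : Set G)
    · -- abelian case
      obtain ⟨x, hx, hx1⟩ := hne'
      refine hx1 (frob_lin π hρ hr hρr ?_ hKF hsum x hx)
      intro y hy hc
      have h1 : y ∈ K ⊓ centralizer (A : Set G) := mem_inf.mpr ⟨hy, (hAcent y).mpr hc⟩
      have h2 := hCK h1
      rw [commutator_eq_bot_iff_le_centralizer.mpr hab, mem_bot] at h2
      exact h2
    · -- nonabelian case
      have hZlt : K ⊓ centralizer (K : Set G) < K := by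
        refine lt_of_le_of_ne inf_le_left fun h => hab ?_
        exact h.ge.trans inf_le_right
      have hZA : A ≤ normalizer ((K ⊓ centralizer (K : Set G) : Subgroup G) : Set G) := by
        have : (K ⊓ centralizer (K : Set G) : Subgroup G).Normal := inferInstance
        rw [normalizer_eq_top]; exact le_top
      have hZc := hmin _ hZlt hZA
      have cfg : ExtCfg π K ρ r :=
        { normal := hKn
          irr := hirr
          prime := hr
          pow := hρr
          gen := hgen
          inj := hinj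
          cardK := hKF
          cardr := hrF
          cent := fun x hx hxc => (hAcent x).mp (hZc (mem_inf.mpr ⟨hx, hxc⟩))
          fix := by
            intro x hx hxc
            haveI hZn : (K ⊓ centralizer (K : Set G) : Subgroup G).Normal := inferInstance
            -- commutators with all elements of `A`
            have hcomm : ∀ a ∈ A, x⁻¹ * a * x * a⁻¹ ∈ (K ⊓ centralizer (K : Set G) : Subgroup G) := by
              set q := QuotientGroup.mk' (K ⊓ centralizer (K : Set G)) with hq
              have hc : Commute (q x) (q ρ) := by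
                rw [← commutatorElement_eq_one_iff_commute, ← map_commutatorElement]
                exact (QuotientGroup.eq_one_iff _).mpr (mem_inf.mpr ⟨hcK x hx, hxc⟩)
              intro a ha
              obtain ⟨k, rfl⟩ := mem_zpowers_iff.mp ha
              have hck : Commute (q x) (q (ρ ^ k)) := by rw [map_zpow]; exact hc.zpow_right k
              refine (QuotientGroup.eq_one_iff _).mp ?_
              show q (x⁻¹ * ρ ^ k * x * (ρ ^ k)⁻¹) = 1
              rw [map_mul, map_mul, map_mul, map_inv, map_inv, mul_assoc ((q x)⁻¹), ← hck.eq]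
              group
            obtain ⟨m, hm, hmc⟩ := H23.exists_mem_coset_centralizer hZA
              (Nat.Coprime.coprime_dvd_right (card_dvd_of_le inf_le_left) hcopA)
              (Or.inl inferInstance) hcomm
            have h1 : x * m ∈ K ⊓ centralizer (A : Set G) :=
              mem_inf.mpr ⟨mul_mem hx hm.1, hmc⟩
            have h2 := hK' (hCK h1)
            have h3 := mul_mem h2 (inv_mem hm.2)
            rwa [mul_inv_cancel_right] at h3
          class2 := hK' }
      obtain ⟨hrD, hD⟩ := cfg.main hab hsum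
      have hoddD : Odd (Module.finrank F V ^ 2) := by
        rw [hD]
        exact hodd.of_dvd_nat (card_quotient_dvd_card _)
      have hoddD' : Odd (Module.finrank F V) := by
        rw [Nat.odd_pow_iff two_ne_zero] at hoddD; exact hoddD
      have : Even r := by rw [hrD]; exact hoddD'.add_one
      exact hr2 ((Nat.Prime.even_iff hr).mp this)

/-- **BG 3.4**, linear form over an algebraically closed field -/
theorem bg34_all [IsAlgClosed F] {r : ℕ} (hr : r.Prime) (hr2 : r ≠ 2) (hrF : (r : F) ≠ 0)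
    (n : ℕ) : BG34.{u, v} F r n := by
  induction n using Nat.strong_induction_on with
  | _ n ih =>
    intro G _ _ K ρ hn hρ hρr hcop hodd hs hKF V _ _ _ π hsum x hx
    set H : Subgroup G := K ⊔ zpowers ρ with hH
    have hKH : K ≤ H := le_sup_left
    have hρH : ρ ∈ H := mem_sup_right (mem_zpowers ρ)
    set K' : Subgroup H := K.subgroupOf H with hK'
    have hcK' : Nat.card K' = Nat.card K := card_subgroupOf hKH
    have hgen : K' ⊔ zpowers (⟨ρ, hρH⟩ : H) = ⊤ := by
      apply map_injective H.subtype_injective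
      rw [Subgroup.map_sup, hK', subgroupOf_map_subtype, inf_of_le_left hKH, MonoidHom.map_zpowers,
        ← MonoidHom.range_eq_map, range_subtype]
      rfl
    have hρ' : (⟨ρ, hρH⟩ : H) ∈ normalizer (K' : Set H) := by
      rw [mem_normalizer_iff]
      intro g
      rw [hK', mem_subgroupOf, mem_subgroupOf]
      exact mem_normalizer_iff.mp hρ g
    have hρr' : (⟨ρ, hρH⟩ : H) ^ r = 1 := Subtype.ext hρr
    have hs' : Group.IsSolvable K' := by
      haveI := hs
      exact Group.isSolvable_of_isSolvable_injective (f := (subgroupOfEquivOfLe hKH).toMonoidHom)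
        (subgroupOfEquivOfLe hKH).injective
    haveI : NeZero ((Nat.card H : ℕ) : F) := ⟨by
      have h1 : Nat.card H ∣ Nat.card K * r := by
        have h2 := H1.card_sup_mul_card_inf_of_le_normalizer (H := K) (K := zpowers ρ)
          (by rw [zpowers_le]; exact hρ)
        have h3 : Nat.card (zpowers ρ) ∣ r := by
          rw [Nat.card_zpowers]; exact orderOf_dvd_of_pow_eq_one hρr
        exact (Dvd.intro _ h2).trans (mul_dvd_mul_left _ h3)
      obtain ⟨m, hm⟩ := h1
      intro h0
      apply mul_ne_zero hKF hrF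
      rw [← Nat.cast_mul, hm, Nat.cast_mul, h0, zero_mul]⟩
    have key := H3.rep_induction (k := F) (G := H)
      (motive := fun V _ _ _ π' => ∑ j ∈ Finset.range r, π' ((⟨ρ, hρH⟩ : H) ^ j) = 0 →
        ∀ x ∈ K', π' ⁅x, (⟨ρ, hρH⟩ : H)⁆ = 1)
      (by
        intro V _ _ _ π' hV _ x _
        ext v
        exact Subsingleton.elim _ _)
      (by
        intro V _ _ _ π' hirr' hsum'
        exact bg34_irr hr hr2 hrF ih (hcK'.trans hn) hgen hρ' hρr' (by rw [hcK']; exact hcop)
          (by rw [hcK']; exact hodd) hs' (by rw [hcK']; exact hKF) π' (hirr := hirr') hsum')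
      (by
        intro V _ _ _ π' U W hc hU hW hsum' x hx
        have hsumU : ∑ j ∈ Finset.range r, U.toRepresentation ((⟨ρ, hρH⟩ : H) ^ j) = 0 := by
          ext u
          have := LinearMap.congr_fun hsum' (u : V)
          rw [LinearMap.sum_apply] at this
          rw [LinearMap.sum_apply, LinearMap.zero_apply, AddSubmonoidClass.coe_finset_sum]
          exact this
        have hsumW : ∑ j ∈ Finset.range r, W.toRepresentation ((⟨ρ, hρH⟩ : H) ^ j) = 0 := by
          ext u
          have := LinearMap.congr_fun hsum' (u : V)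
          rw [LinearMap.sum_apply] at this
          rw [LinearMap.sum_apply, LinearMap.zero_apply, AddSubmonoidClass.coe_finset_sum]
          exact this
        have h1 := hU hsumU x hx
        have h2 := hW hsumW x hx
        ext v
        have hv : v ∈ U.toSubmodule ⊔ W.toSubmodule := by
          rw [hc.sup_eq_top]; trivial
        obtain ⟨a, ha, b, hb, rfl⟩ := Submodule.mem_sup.mp hv
        rw [map_add, Module.End.one_apply]
        have e1 : π' ⁅x, (⟨ρ, hρH⟩ : H)⁆ a = a :=
          congrArg Subtype.val (LinearMap.congr_fun h1 ⟨a, ha⟩)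
        have e2 : π' ⁅x, (⟨ρ, hρH⟩ : H)⁆ b = b :=
          congrArg Subtype.val (LinearMap.congr_fun h2 ⟨b, hb⟩)
        rw [e1, e2])
    exact key V (π.comp H.subtype) hsum ⟨x, hKH hx⟩ hx

end Lin

end Cfsg.Agent.H1
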