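import Cfsg.Agent.H1.BG35
import Cfsg.Agent.H1.Cyc

/-!
# Bender–Glauberman Theorem 3.6: the configuration `V`, `D`, `P`, `ρ` (helper1)
-/

set_option autoImplicit false

namespace Cfsg.Agent.H1

open Subgroup
open scoped commutatorElement Pointwise

universe u v w

section Lin

variable {F : Type*} [Field F] {G : Type u} [Group G] {M : Type v} [AddCommGroup M]
  [Module F M]

/-- a character of `N = [N, A]` fixed by `A` is trivial -/
theorem eq_one_of_cwt_eq' {N A : Subgroup G} [hN : N.Normal] {ψ : N →* Fˣ}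
    (hNA : ⁅N, A⁆ = N) (h : ∀ a ∈ A, cwt a ψ = ψ) : ψ = 1 := by
  have h1 : ⁅N, A⁆ ≤ ψ.ker.map N.subtype := by
    rw [commutator_le]
    intro n hn a ha
    have h2 := h a⁻¹ (inv_mem ha)
    refine ⟨⟨n, hn⟩ * ⟨a * n⁻¹ * a⁻¹, hN.conj_mem _ (inv_mem hn) a⟩, ?_, ?_⟩
    · rw [SetLike.mem_coe, MonoidHom.mem_ker, map_mul]
      have h3 := DFunLike.congr_fun h2 (⟨n⁻¹, inv_mem hn⟩ : N)
      rw [cwt_apply] at h3
      have h4 : ψ ⟨a * n⁻¹ * a⁻¹, hN.conj_mem _ (inv_mem hn) a⟩ = ψ ⟨n⁻¹, inv_mem hn⟩ := by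
        rw [← h3]
        congr 1
        apply Subtype.ext
        show a * n⁻¹ * a⁻¹ = a⁻¹⁻¹ * n⁻¹ * a⁻¹
        rw [inv_inv]
      rw [h4, ← map_mul]
      have h5 : (⟨n, hn⟩ : N) * ⟨n⁻¹, inv_mem hn⟩ = 1 := Subtype.ext (mul_inv_cancel n)
      rw [h5, map_one]
    · show n * (a * n⁻¹ * a⁻¹) = ⁅n, a⁆
      rw [commutatorElement_def]; group
  rw [hNA] at h1
  ext n
  obtain ⟨x, hx, hxn⟩ := h1 n.2
  have : x = n := Subtype.ext hxn
  rw [← this, MonoidHom.mem_ker.mp hx]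
  rfl

theorem rep_ne_zero {π : Representation F G M} {m : M} (hm : m ≠ 0) (g : G) : π g m ≠ 0 := by
  intro h0
  apply hm
  have : π g⁻¹ (π g m) = 0 := by rw [h0, map_zero]
  rwa [← Module.End.mul_apply, pi_inv_mul, Module.End.one_apply] at this

theorem cwt_ne_one {N : Subgroup G} [N.Normal] {χ : N →* Fˣ} (hχ : χ ≠ 1) (g : G) :
    cwt g χ ≠ 1 := by
  intro h1
  apply hχ
  have h2 : cwt g⁻¹ (cwt g χ) = χ := by rw [← cwt_mul, inv_mul_cancel, cwt_one]
  rw [← h2, h1]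
  ext n
  rw [cwt_apply]; rfl

theorem cwt_pow_ne {N : Subgroup G} [N.Normal] {ρ : G} {r : ℕ} (hr : r.Prime) (hρ : ρ ^ r = 1)
    {χ : N →* Fˣ} (hχ : cwt ρ χ ≠ χ) : Function.Injective (fun j : Fin r => cwt (ρ ^ (j : ℕ)) χ) := by
  have key : ∀ i j : ℕ, i < j → j < r → cwt (ρ ^ i) χ ≠ cwt (ρ ^ j) χ := by
    intro i j hij hj h1
    have h2 : cwt (ρ ^ (j - i)) χ = χ := by
      have h3 := congrArg (cwt (ρ ^ i)⁻¹) h1
      rw [← cwt_mul, ← cwt_mul, inv_mul_cancel, cwt_one] at h3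
      have h4 : (ρ ^ i)⁻¹ * ρ ^ j = ρ ^ (j - i) := by
        rw [inv_mul_eq_iff_eq_mul, ← pow_add]; congr 1; omega
      rw [h4] at h3
      exact h3.symm
    exact cwt_pow_injOn hr hρ hχ (by omega) (by omega) h2
  intro a b hab
  apply Fin.ext
  rcases lt_trichotomy (a : ℕ) (b : ℕ) with h | h | h
  · exact absurd hab (key _ _ h b.2)
  · exact h
  · exact absurd hab.symm (key _ _ h a.2)

/-- stabilizer of a character -/
def cstab {N : Subgroup G} [N.Normal] (χ : N →* Fˣ) : Subgroup G where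
  carrier := {g | cwt g χ = χ}
  mul_mem' := fun {a b} ha hb => by
    show cwt (a * b) χ = χ
    rw [cwt_mul, show cwt b χ = χ from hb, show cwt a χ = χ from ha]
  one_mem' := cwt_one χ
  inv_mem' := fun {a} ha => by
    show cwt a⁻¹ χ = χ
    conv_lhs => rw [← show cwt a χ = χ from ha]
    rw [← cwt_mul, inv_mul_cancel, cwt_one]

theorem mem_cstab {N : Subgroup G} [N.Normal] {χ : N →* Fˣ} {g : G} :
    g ∈ cstab χ ↔ cwt g χ = χ := Iff.rfl

/-- orbits of characters are indexed by cosets of the stabilizer -/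
theorem ncard_orbit [Finite G] {N : Subgroup G} [N.Normal] (χ : N →* Fˣ) (P : Subgroup G) :
    ({ψ | ∃ x ∈ P, ψ = cwt x χ} : Set (N →* Fˣ)).ncard = (cstab χ).relIndex P := by
  letI := cwtAction F N
  have h1 := MulAction.index_stabilizer P χ
  have h2 : MulAction.stabilizer P χ = (cstab χ).subgroupOf P := by
    ext x
    rw [MulAction.mem_stabilizer_iff, mem_subgroupOf, mem_cstab]
    rfl
  rw [h2] at h1
  have h3 : (MulAction.orbit P χ : Set (N →* Fˣ)) = {ψ | ∃ x ∈ P, ψ = cwt x χ} := by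
    ext ψ
    constructor
    · rintro ⟨x, rfl⟩
      exact ⟨x, x.2, rfl⟩
    · rintro ⟨x, hx, rfl⟩
      exact ⟨⟨x, hx⟩, rfl⟩
  rw [← h3, ← h1]; rfl

theorem core_i [Finite G] [IsAlgClosed F] [FiniteDimensional F M] (π : Representation F G M)
    {D P : Subgroup G} [hD : D.Normal] {ρ : G} {r p : ℕ} (hr : r.Prime) (hr2 : r ≠ 2)
    (hp : p.Prime) (hp2 : p ≠ 2) (hrp : r ≠ p) (hρr : ρ ^ r = 1) (hP : IsPGroup p P)
    (hρP : ρ ∈ normalizer (P : Set G)) (hDF : (Nat.card D : F) ≠ 0)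
    (hcomm : ∀ a ∈ D, ∀ b ∈ D, π a * π b = π b * π a) (hDP : ⁅D, P⁆ = D)
    (hCP : ∀ x ∈ P, Commute ρ x → x = 1) (hline : FixLine π ρ) : ∀ x ∈ D, π x = 1 := by
  haveI : Fact p.Prime := ⟨hp⟩
  haveI : Fact r.Prime := ⟨hr⟩
  obtain ⟨ι, _, b, μ, hb⟩ := exists_eigenbasis_of_comm hDF (π.comp D.subtype)
    (fun x y => hcomm x x.2 y y.2)
  have hbw : ∀ i, b i ∈ wt π D (μ i) := fun i n => hb n i
  by_cases hall : ∀ i, μ i = 1
  · intro n hn
    apply b.ext
    intro i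
    have h1 := hbw i ⟨n, hn⟩
    rw [hall i] at h1
    rw [Module.End.one_apply]
    simpa using h1
  exfalso
  push Not at hall
  obtain ⟨i, hi⟩ := hall
  -- nontrivial weights are not fixed by `P`
  have hPst : ∀ ψ : D →* Fˣ, ψ ≠ 1 → ¬ P ≤ cstab ψ := fun ψ h1 h2 =>
    h1 (eq_one_of_cwt_eq' hDP fun a ha => h2 ha)
  -- sizes of `P`-orbits
  have hPorb : ∀ ψ : D →* Fˣ, ∃ k, (cstab ψ).relIndex P = p ^ k := by
    intro ψ
    obtain ⟨k, hk⟩ := IsPGroup.iff_card.mp hP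
    have h1 : (cstab ψ).relIndex P ∣ p ^ k := by rw [← hk]; exact relIndex_dvd_card _ _
    obtain ⟨j, _, hj⟩ := (Nat.dvd_prime_pow hp).mp h1
    exact ⟨j, hj⟩
  by_cases hex : ∃ (ψ : D →* Fˣ) (m : M), m ∈ wt π D ψ ∧ m ≠ 0 ∧ ψ ≠ 1 ∧ cwt ρ ψ = ψ
  · obtain ⟨ψ, m, hm, hm0, hψ1, hψ⟩ := hex
    -- uniqueness of the fixed weight in the orbit
    have huniq : ∀ x ∈ P, cwt ρ (cwt x ψ) = cwt x ψ → cwt x ψ = ψ := by
      intro x hx hfx
      set T : Subgroup G := P ⊓ cstab ψ with hT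
      have hρst : ρ ∈ cstab ψ := hψ
      have hρT : ρ ∈ normalizer (T : Set G) := by
        rw [mem_normalizer_iff]
        intro g
        rw [hT, mem_inf, mem_inf, ← mem_normalizer_iff.mp hρP g]
        refine and_congr_right fun _ => ?_
        constructor
        · intro h1; exact mul_mem (mul_mem hρst h1) (inv_mem hρst)
        · intro h1
          have := mul_mem (mul_mem (inv_mem hρst) h1) hρst
          have e : ρ⁻¹ * (ρ * g * ρ⁻¹) * ρ = g := by group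
          rwa [e] at this
      have hA : zpowers ρ ≤ normalizer (T : Set G) := by rw [zpowers_le]; exact hρT
      have hcop : (Nat.card (zpowers ρ)).Coprime (Nat.card T) := by
        have h1 : Nat.card (zpowers ρ) ∣ r := by
          rw [Nat.card_zpowers]; exact orderOf_dvd_of_pow_eq_one hρr
        obtain ⟨k, hk⟩ := IsPGroup.iff_card.mp (hP.to_le (inf_le_left : T ≤ P))
        rw [hk]
        exact Nat.Coprime.coprime_dvd_left h1
          (Nat.Coprime.pow_right k ((Nat.coprime_primes hr hp).mpr hrp))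
      -- `x⁻¹ ρ x ρ⁻¹ ∈ T`
      have h1 : x⁻¹ * ρ * x * ρ⁻¹ ∈ T := by
        refine mem_inf.mpr ⟨?_, ?_⟩
        · have h2 := (mem_normalizer_iff.mp hρP x).mp hx
          have := mul_mem (inv_mem hx) h2
          have e : x⁻¹ * (ρ * x * ρ⁻¹) = x⁻¹ * ρ * x * ρ⁻¹ := by group
          rwa [e] at this
        · rw [mem_cstab, cwt_mul, mem_cstab.mp (inv_mem hρst), cwt_mul, cwt_mul, hfx, ← cwt_mul,
            inv_mul_cancel, cwt_one]
      have h2 : ∀ a ∈ zpowers ρ, x⁻¹ * a * x * a⁻¹ ∈ T := by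
        have hsub : zpowers ρ ≤ (
          { carrier := {a | a ∈ normalizer (T : Set G) ∧ x⁻¹ * a * x * a⁻¹ ∈ T}
            mul_mem' := fun {a c} ha hc => by
              refine ⟨mul_mem ha.1 hc.1, ?_⟩
              have h3 := (mem_normalizer_iff.mp ha.1 _).mp hc.2
              have h4 := mul_mem ha.2 h3
              have e : x⁻¹ * a * x * a⁻¹ * (a * (x⁻¹ * c * x * c⁻¹) * a⁻¹) =
                x⁻¹ * (a * c) * x * (a * c)⁻¹ := by group
              rwa [e] at h4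
            one_mem' := ⟨one_mem _, by
              have e : x⁻¹ * 1 * x * 1⁻¹ = (1 : G) := by group
              rw [e]; exact one_mem _⟩
            inv_mem' := fun {a} ha => by
              refine ⟨inv_mem ha.1, ?_⟩
              have h3 := (mem_normalizer_iff.mp (inv_mem ha.1) _).mp (inv_mem ha.2)
              have e : a⁻¹ * (x⁻¹ * a * x * a⁻¹)⁻¹ * a⁻¹⁻¹ = x⁻¹ * a⁻¹ * x * a⁻¹⁻¹ := by group
              rwa [e] at h3 } : Subgroup G) := by
          rw [zpowers_le]; exact ⟨hρT, h1⟩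
        exact fun a ha => (hsub ha).2
      obtain ⟨n, hn, hnc⟩ := H23.exists_mem_coset_centralizer hA hcop (Or.inl inferInstance) h2
      have h3 : x * n = 1 := by
        refine hCP _ (mul_mem hx hn.1) ?_
        exact mem_centralizer_iff.mp hnc ρ (mem_zpowers ρ)
      have h4 : x = n⁻¹ := eq_inv_of_mul_eq_one_left h3
      have h5 : x ∈ cstab ψ := by rw [h4]; exact inv_mem hn.2
      exact h5
    -- an element of the orbit different from `ψ`
    obtain ⟨x, hx, hxne⟩ : ∃ x ∈ P, cwt x ψ ≠ ψ := by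
      by_contra hcon
      push Not at hcon
      exact hPst ψ hψ1 fun x hx => hcon x hx
    have hmv : cwt ρ (cwt x ψ) ≠ cwt x ψ := fun h => hxne (huniq x hx h)
    have hρO : ∀ (j : ℕ), ∀ x ∈ P, ∃ y ∈ P, cwt (ρ ^ j) (cwt x ψ) = cwt y ψ := by
      intro j x hx
      refine ⟨ρ ^ j * x * (ρ ^ j)⁻¹, (mem_normalizer_iff.mp (pow_mem hρP j) x).mp hx, ?_⟩
      have h1 : cwt (ρ ^ j)⁻¹ ψ = ψ := inv_mem (pow_mem (show ρ ∈ cstab ψ from hψ) j)
      rw [cwt_mul, cwt_mul, h1]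
    have hset : ({l | ∃ x ∈ P, l = cwt x ψ} : Set (D →* Fˣ)) =
        insert ψ (Set.range fun j : Fin r => cwt (ρ ^ (j : ℕ)) (cwt x ψ)) := by
      ext l
      simp only [Set.mem_setOf_eq, Set.mem_insert_iff, Set.mem_range]
      constructor
      · rintro ⟨y, hy, rfl⟩
        by_cases h1 : cwt y ψ = ψ
        · exact Or.inl h1
        · right
          have h2 : cwt ρ (cwt y ψ) ≠ cwt y ψ := fun h => h1 (huniq y hy h)
          obtain ⟨j, hj, hje⟩ := wt_orbit hDF hr hρr hline (χ := cwt y ψ) (ψ := cwt x ψ) h2 hmv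
            (wt_map hm y) (rep_ne_zero hm0 y) (wt_map hm x) (rep_ne_zero hm0 x)
          exact ⟨⟨j, hj⟩, hje⟩
      · rintro (rfl | ⟨j, rfl⟩)
        · exact ⟨1, one_mem _, (cwt_one _).symm⟩
        · exact hρO j x hx
    have hnotmem : ψ ∉ Set.range fun j : Fin r => cwt (ρ ^ (j : ℕ)) (cwt x ψ) := by
      rintro ⟨j, hj⟩
      apply hxne
      have h1 : cwt (ρ ^ (j : ℕ))⁻¹ ψ = ψ := inv_mem (pow_mem (show ρ ∈ cstab ψ from hψ) j)
      have h2 := congrArg (cwt (ρ ^ (j : ℕ))⁻¹) hj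
      simp only at h2
      rw [← cwt_mul, inv_mul_cancel, cwt_one, h1] at h2
      exact h2
    have hcard : (cstab ψ).relIndex P = r + 1 := by
      rw [← ncard_orbit, hset, Set.ncard_insert_of_notMem hnotmem (Set.toFinite _)]
      congr 1
      rw [← Set.image_univ, Set.ncard_image_of_injective _ (cwt_pow_ne hr hρr hmv), Set.ncard_univ,
        Nat.card_fin]
    obtain ⟨k, hk⟩ := hPorb ψ
    rw [hcard] at hk
    have h1 : Odd r := hr.odd_of_ne_two hr2
    have h2 : Odd (p ^ k) := (hp.odd_of_ne_two hp2).pow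
    rw [← hk] at h2
    exact (Nat.not_even_iff_odd.mpr h2) h1.add_one
  · push Not at hex
    set χ := μ i with hχ
    have hm := hbw i
    have hm0 : b i ≠ 0 := b.ne_zero i
    have hmv : cwt ρ χ ≠ χ := hex χ (b i) hm hm0 hi
    -- orbit of `P ⊔ ⟨ρ⟩`
    set Y : Subgroup G := P ⊔ zpowers ρ with hY
    have hset : ({l | ∃ x ∈ Y, l = cwt x χ} : Set (D →* Fˣ)) =
        Set.range fun j : Fin r => cwt (ρ ^ (j : ℕ)) χ := by
      ext l
      simp only [Set.mem_setOf_eq, Set.mem_range]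
      constructor
      · rintro ⟨y, hy, rfl⟩
        obtain ⟨j, hj, hje⟩ := wt_orbit hDF hr hρr hline (χ := cwt y χ) (ψ := χ)
          (hex _ _ (wt_map hm y) (rep_ne_zero hm0 y) (cwt_ne_one hi y)) hmv
          (wt_map hm y) (rep_ne_zero hm0 y) hm hm0
        exact ⟨⟨j, hj⟩, hje⟩
      · rintro ⟨j, rfl⟩
        exact ⟨ρ ^ (j : ℕ), mem_sup_right (pow_mem (mem_zpowers ρ) _), rfl⟩
    have hcardY : (cstab χ).relIndex Y = r := by
      rw [← ncard_orbit, hset, ← Set.image_univ,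
        Set.ncard_image_of_injective _ (cwt_pow_ne hr hρr hmv), Set.ncard_univ, Nat.card_fin]
    have hdvd : (cstab χ).relIndex P ∣ r := by
      rw [← hcardY]
      have hPY : (P.subgroupOf Y).Normal := by
        rw [normal_subgroupOf_iff_le_normalizer le_sup_left]
        exact sup_le le_normalizer (by rw [zpowers_le]; exact hρP)
      have h1 := relIndex_dvd_index_of_normal_right ((cstab χ).subgroupOf Y) (P.subgroupOf Y)
      have h2 : ((cstab χ).subgroupOf Y).relIndex (P.subgroupOf Y) = (cstab χ).relIndex P :=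
        relIndex_subgroupOf le_sup_left
      rw [h2] at h1
      exact h1
    obtain ⟨k, hk⟩ := hPorb χ
    rw [hk] at hdvd
    have h1 : p ^ k = 1 := by
      rcases (Nat.dvd_prime hr).mp hdvd with h | h
      · exact h
      · exfalso
        have h2 : k ≠ 0 := by rintro rfl; rw [pow_zero] at h; exact hr.one_lt.ne h
        have h3 : p ∣ r := by rw [← h]; exact dvd_pow_self p h2
        exact hrp ((Nat.prime_dvd_prime_iff_eq hp hr).mp h3).symm
    rw [h1, relIndex_eq_one] at hk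
    exact hPst χ hi hk

theorem core_z [Finite G] [IsAlgClosed F] [FiniteDimensional F M] (π : Representation F G M)
    {Z D : Subgroup G} [hZn : Z.Normal] {ρ : G} {r : ℕ} (hr : r.Prime) (hρr : ρ ^ r = 1)
    (hZD : Z ≤ D) (hZF : (Nat.card Z : F) ≠ 0)
    (hcomm : ∀ z ∈ Z, ∀ d ∈ D, π z * π d = π d * π z) (hline : FixLine π ρ)
    (h1 : ∀ m, (∀ x ∈ ⁅D, D⁆, π x m = m) → ∀ x ∈ D, π x m = m) : ∀ z ∈ Z, π ⁅z, ρ⁆ = 1 := by
  obtain ⟨ι, _, b, μ, hb⟩ := exists_eigenbasis_of_comm hZF (π.comp Z.subtype)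
    (fun x y => hcomm x x.2 y (hZD y.2))
  have hbw : ∀ i, b i ∈ wt π Z (μ i) := fun i n => hb n i
  have hfix : ∀ i, cwt ρ (μ i) = μ i := by
    intro i
    by_contra hmv
    have hsc : ∀ d ∈ D, ∃ c : F, π d (b i) = c • b i := by
      intro d hd
      have h2 : π d (b i) ∈ wt π Z (μ i) := by
        intro z
        have h3 := LinearMap.congr_fun (hcomm z z.2 d hd) (b i)
        rw [Module.End.mul_apply, Module.End.mul_apply, hbw i z, map_smul] at h3
        exact h3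
      exact wt_line hZF hr hρr hline hmv h2 (hbw i) (b.ne_zero i)
    have h2 := h1 (b i) (fun x hx => commutator_le_vstab hsc hx)
    have h3 : μ i = 1 := by
      ext z
      have h4 := hbw i z
      rw [h2 z (hZD z.2)] at h4
      have h5 : ((μ i z : F) - 1) • b i = 0 := by rw [sub_smul, one_smul, ← h4, sub_self]
      rcases smul_eq_zero.mp h5 with h | h
      · rw [sub_eq_zero.mp h]; rfl
      · exact absurd h (b.ne_zero i)
    apply hmv
    rw [h3]
    ext z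
    rw [cwt_apply]; rfl
  intro z hz
  apply b.ext
  intro i
  have hz' : ρ * z⁻¹ * ρ⁻¹ ∈ Z := hZn.conj_mem _ (inv_mem hz) ρ
  have e : ⁅z, ρ⁆ = z * (ρ * z⁻¹ * ρ⁻¹) := by rw [commutatorElement_def]; group
  rw [e, map_mul, Module.End.mul_apply, hbw i ⟨_, hz'⟩, map_smul, hbw i ⟨z, hz⟩, smul_smul,
    Module.End.one_apply]
  have h2 : cwt ρ⁻¹ (μ i) = μ i := inv_mem (show ρ ∈ cstab (μ i) from hfix i)
  have h3 := DFunLike.congr_fun h2 (⟨z⁻¹, inv_mem hz⟩ : Z)
  rw [cwt_apply] at h3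
  have h4 : μ i ⟨ρ * z⁻¹ * ρ⁻¹, hz'⟩ = μ i ⟨z⁻¹, inv_mem hz⟩ := by
    rw [← h3]
    congr 1
    apply Subtype.ext
    show ρ * z⁻¹ * ρ⁻¹ = ρ⁻¹⁻¹ * z⁻¹ * ρ⁻¹
    rw [inv_inv]
  rw [h4, ← Units.val_mul, ← map_mul]
  have h5 : (⟨z⁻¹, inv_mem hz⟩ : Z) * ⟨z, hz⟩ = 1 := Subtype.ext (inv_mul_cancel z)
  rw [h5, map_one, Units.val_one, one_smul]

end Lin

end Cfsg.Agent.H1
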