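import Cfsg.Agent.H1.BG36E
import Cfsg.Agent.H23.Coprime5

/-!
# Bender–Glauberman Theorem 3.6: the core configuration (helper1)
-/

set_option autoImplicit false

namespace Cfsg.Agent.H1

open Subgroup
open scoped commutatorElement Pointwise

universe u v w

variable {X : Type u} [Group X] [Finite X]

structure Cfg36 (p r : ℕ) (V D P : Subgroup X) (ρ : X) : Prop where
  vea : Cfsg.IsElementaryAbelian p V
  pgrp : IsPGroup p P
  hpD : ¬ p ∣ Nat.card D
  hrD : ¬ r ∣ Nat.card D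
  hoddD : Odd (Nat.card D)
  solv : Group.IsSolvable D
  PD : P ≤ normalizer (D : Set X)
  PV : P ≤ normalizer (V : Set X)
  DV : D ≤ normalizer (V : Set X)
  ρV : ρ ∈ normalizer (V : Set X)
  ρD : ρ ∈ normalizer (D : Set X)
  ρP : ρ ∈ normalizer (P : Set X)
  DP : ⁅D, P⁆ = D
  CP : ∀ x ∈ P, Commute ρ x → x = 1
  CV : Nat.card (V ⊓ centralizer ({ρ} : Set X) : Subgroup X) ≤ p
  ZD : IsZGroup (D ⊓ centralizer ({ρ} : Set X) : Subgroup X)

theorem mem_normalizer_commutator {A B : Subgroup X} {ρ : X} (hA : ρ ∈ normalizer (A : Set X))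
    (hB : ρ ∈ normalizer (B : Set X)) : ρ ∈ normalizer ((⁅A, B⁆ : Subgroup X) : Set X) := by
  rw [mem_normalizer_iff_conj_smul, H23.conj_smul_commutator, mem_normalizer_iff_conj_smul.mp hA,
    mem_normalizer_iff_conj_smul.mp hB]

theorem isZGroup_of_le {A B : Subgroup X} (h : A ≤ B) (hB : IsZGroup B) : IsZGroup A :=
  IsZGroup.of_injective (f := Subgroup.inclusion h) (Subgroup.inclusion_injective h)

theorem isCyclic_of_isZGroup' {q : ℕ} [Fact q.Prime] {A : Subgroup X} (hA : IsPGroup q A)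
    (hZ : IsZGroup A) : IsCyclic A := by
  have h1 : IsCyclic (⊤ : Subgroup A) := IsPGroup.isCyclic_of_isZGroup (p := q) (hA.to_subgroup ⊤)
  exact isCyclic_of_surjective (topEquiv (G := A)) (topEquiv (G := A)).surjective

namespace Cfg36

variable {p r : ℕ} {V D P : Subgroup X} {ρ : X}

theorem comm [hp : Fact p.Prime] (h : Cfg36 p r V D P ρ) {D₀ : Subgroup X} (h0 : D₀ ≤ D)
    (hP0 : P ≤ normalizer (D₀ : Set X)) (hρ0 : ρ ∈ normalizer (D₀ : Set X)) :
    Cfg36 p r V ⁅D₀, P⁆ P ρ := by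
  have h1 : ⁅D₀, P⁆ ≤ D₀ := H23.commutator_le_of_le_normalizer hP0
  have hdvd : Nat.card (⁅D₀, P⁆ : Subgroup X) ∣ Nat.card D := card_dvd_of_le (h1.trans h0)
  have hcop : (Nat.card P).Coprime (Nat.card D₀) := by
    obtain ⟨n, hn⟩ := IsPGroup.iff_card.mp h.pgrp
    rw [hn]
    apply Nat.Coprime.pow_left
    rw [hp.out.coprime_iff_not_dvd]
    exact fun h2 => h.hpD (h2.trans (card_dvd_of_le h0))
  exact
  { vea := h.vea
    pgrp := h.pgrp
    hpD := fun h2 => h.hpD (h2.trans hdvd)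
    hrD := fun h2 => h.hrD (h2.trans hdvd)
    hoddD := Odd.of_dvd_nat h.hoddD hdvd
    solv := isSolvable_of_le (h1.trans h0) h.solv
    PD := normalizer_commutator_ge_right _ _
    PV := h.PV
    DV := (h1.trans h0).trans h.DV
    ρV := h.ρV
    ρD := mem_normalizer_commutator hρ0 h.ρP
    ρP := h.ρP
    DP := H23.commutator_commutator_eq hP0 hcop
    CP := h.CP
    CV := h.CV
    ZD := isZGroup_of_le (inf_le_inf_right _ (h1.trans h0)) h.ZD }

theorem mono {V₁ : Subgroup X} (h : Cfg36 p r V D P ρ) (h1 : V₁ ≤ V)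
    (hD1 : D ≤ normalizer (V₁ : Set X)) (hP1 : P ≤ normalizer (V₁ : Set X))
    (hρ1 : ρ ∈ normalizer (V₁ : Set X)) : Cfg36 p r V₁ D P ρ :=
  { vea := OOT.isEA_mono h1 h.vea
    pgrp := h.pgrp
    hpD := h.hpD
    hrD := h.hrD
    hoddD := h.hoddD
    solv := h.solv
    PD := h.PD
    PV := hP1
    DV := hD1
    ρV := hρ1
    ρD := h.ρD
    ρP := h.ρP
    DP := h.DP
    CP := h.CP
    CV := (card_le_of_le (inf_le_inf_right _ h1)).trans h.CV
    ZD := h.ZD }

/-- `D` is a `q`-group, or we are done -/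
theorem q_group [hp : Fact p.Prime] (hr : r.Prime) (hρr : ρ ^ r = 1) (h : Cfg36 p r V D P ρ)
    (ih : ∀ D' : Subgroup X, D' < D → Cfg36 p r V D' P ρ → D' ≤ centralizer (V : Set X)) :
    D ≤ centralizer (V : Set X) ∨ ∃ q, q.Prime ∧ IsPGroup q D := by
  by_cases hq : ∃ q, q.Prime ∧ IsPGroup q D
  · exact Or.inr hq
  left
  have hcopP : (Nat.card P).Coprime (Nat.card D) := by
    obtain ⟨n, hn⟩ := IsPGroup.iff_card.mp h.pgrp
    rw [hn]
    apply Nat.Coprime.pow_left
    rw [hp.out.coprime_iff_not_dvd]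
    exact h.hpD
  have hcopρ : (Nat.card (zpowers ρ)).Coprime (Nat.card D) := by
    rw [Nat.card_zpowers]
    refine Nat.Coprime.coprime_dvd_left (orderOf_dvd_of_pow_eq_one hρr) ?_
    rw [hr.coprime_iff_not_dvd]
    exact h.hrD
  have hρP : zpowers ρ ≤ normalizer (P : Set X) := by rw [zpowers_le]; exact h.ρP
  have hcop : (Nat.card (P ⊔ zpowers ρ : Subgroup X)).Coprime (Nat.card D) := by
    have h1 := card_sup_mul_card_inf_of_le_normalizer hρP
    exact Nat.Coprime.coprime_dvd_left (Dvd.intro _ h1) (Nat.Coprime.mul_left hcopP hcopρ)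
  have hn : P ⊔ zpowers ρ ≤ normalizer (D : Set X) :=
    sup_le h.PD (by rw [zpowers_le]; exact h.ρD)
  rw [← h.DP]
  apply H23.commutator_le_of_forall_sylow h.PD hcopP (Or.inr h.solv)
  intro q hqf Q hQ hPQ
  rw [h.DP] at hQ
  obtain ⟨S, hS, hSn⟩ := H23.exists_invariant_sylow hn hcop (Or.inr h.solv) q
  obtain ⟨c, hc, rfl⟩ := H23.invariant_sylow_conj h.PD hcopP (Or.inr h.solv) hS hQ
    (le_sup_left.trans hSn) hPQ
  have hSlt : S < D := by
    refine lt_of_le_of_ne hS.le ?_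
    rintro rfl
    exact hq ⟨q, hqf.out, hS.isPGroup⟩
  have hPS : P ≤ normalizer (S : Set X) := le_sup_left.trans hSn
  have hρS : ρ ∈ normalizer (S : Set X) := hSn (mem_sup_right (mem_zpowers ρ))
  have h1 := ih ⁅S, P⁆ (lt_of_le_of_lt (H23.commutator_le_of_le_normalizer hPS) hSlt)
    (h.comm hS.le hPS hρS)
  have h2 : MulAut.conj c • P = P := H23.conj_smul_eq_of_mem_centralizer (mem_inf.mp hc).2
  rw [← h2, ← H23.conj_smul_commutator]
  have h3 : MulAut.conj c • V = V := mem_normalizer_iff_conj_smul.mp (h.DV (mem_inf.mp hc).1)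
  intro y hy
  rw [mem_conj_smul] at hy
  have h4 := h1 hy
  rw [mem_centralizer_iff] at h4 ⊢
  intro v hv
  have h5 := h4 (c⁻¹ * v * c) (by
    rw [SetLike.mem_coe, ← mem_conj_smul, h3]; exact hv)
  have h6 : c⁻¹ * v * c * (c⁻¹ * y * c) = c⁻¹ * (v * y) * c := by group
  have h7 : c⁻¹ * y * c * (c⁻¹ * v * c) = c⁻¹ * (y * v) * c := by group
  rw [h6, h7] at h5
  exact mul_left_cancel (mul_right_cancel h5)

end Cfg36

theorem commutator_subgroupOf' {A B Y : Subgroup X} (hA : A ≤ Y) (hB : B ≤ Y) :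
    ⁅A.subgroupOf Y, B.subgroupOf Y⁆ = (⁅A, B⁆ : Subgroup X).subgroupOf Y := by
  apply map_injective Y.subtype_injective
  rw [map_commutator, subgroupOf_map_subtype, subgroupOf_map_subtype, subgroupOf_map_subtype,
    inf_of_le_left hA, inf_of_le_left hB, inf_of_le_left]
  rw [commutator_le]
  intro a ha b hb
  rw [commutatorElement_def]
  exact mul_mem (mul_mem (mul_mem (hA ha) (hB hb)) (inv_mem (hA ha))) (inv_mem (hB hb))

theorem mem_normalizer_subgroupOf' {P Y : Subgroup X} {ρ : X} (hρ : ρ ∈ Y)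
    (h : ρ ∈ normalizer (P : Set X)) :
    (⟨ρ, hρ⟩ : Y) ∈ normalizer ((P.subgroupOf Y : Subgroup Y) : Set Y) := by
  rw [mem_normalizer_iff]
  intro g
  rw [mem_subgroupOf, mem_subgroupOf]
  exact mem_normalizer_iff.mp h g

theorem normal_subgroupOf' {D Y : Subgroup X} (h : Y ≤ normalizer (D : Set X)) :
    (D.subgroupOf Y).Normal := by
  constructor
  intro n hn g
  rw [mem_subgroupOf] at hn ⊢
  exact (mem_normalizer_iff.mp (h g.2) n).mp hn

namespace Cfg36

variable {p r : ℕ} {V D P : Subgroup X} {ρ : X}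

theorem case_i [hp : Fact p.Prime] (hp2 : p ≠ 2) (hr : r.Prime) (hr2 : r ≠ 2) (hrp : r ≠ p)
    (hρr : ρ ^ r = 1) (h : Cfg36 p r V D P ρ) (hDD : ⁅D, D⁆ ≤ centralizer (V : Set X)) :
    D ≤ centralizer (V : Set X) := by
  obtain ⟨F, _, _, _, M, _, _, _, ⟨R⟩⟩ := exists_repOf h.vea
  have hrF : (r : F) ≠ 0 := cast_ne_zero_of_not_dvd (ℓ := p) fun h0 =>
    hrp ((Nat.prime_dvd_prime_iff_eq hp.out hr).mp h0).symm
  set Y : Subgroup X := normalizer (V : Set X) ⊓ normalizer (D : Set X) with hY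
  have hYV : Y ≤ normalizer (V : Set X) := inf_le_left
  let π : Representation F Y M := R.rep.comp (Subgroup.inclusion hYV)
  have hDY : D ≤ Y := le_inf h.DV le_normalizer
  have hPY : P ≤ Y := le_inf h.PV h.PD
  have hρY : ρ ∈ Y := mem_inf.mpr ⟨h.ρV, h.ρD⟩
  haveI : (D.subgroupOf Y).Normal := normal_subgroupOf' inf_le_right
  have hline : FixLine R.rep (⟨ρ, h.ρV⟩ : normalizer (V : Set X)) :=
    fixLine_of_card_le (ℓ := p) R (Subtype.ext hρr) hrF h.CV (OOT.isEA_isPGroup h.vea)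
  have key := core_i π (D := D.subgroupOf Y) (P := P.subgroupOf Y) (ρ := ⟨ρ, hρY⟩) hr hr2 hp.out
    hp2 hrp (Subtype.ext hρr) (h.pgrp.of_equiv (subgroupOfEquivOfLe hPY).symm)
    (mem_normalizer_subgroupOf' hρY h.ρP)
    (by rw [card_subgroupOf hDY]; exact cast_ne_zero_of_not_dvd (ℓ := p) h.hpD)
    (by
      intro a ha b hb
      have h1 : π ⁅a, b⁆ = 1 := by
        apply R.rep_eq_one_of_mem_centralizer
        exact hDD (commutator_mem_commutator (g₁ := (a : X)) (g₂ := (b : X)) ha hb)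
      have h2 : a * b = ⁅a, b⁆ * (b * a) := by rw [commutatorElement_def]; group
      rw [← map_mul, h2, map_mul, h1, one_mul, map_mul])
    (by rw [commutator_subgroupOf' hDY hPY, h.DP])
    (fun x hx hc => Subtype.ext (h.CP x hx (congrArg Subtype.val hc))) hline
  intro x hx
  exact R.mem_centralizer_of_rep_eq_one (g := ⟨x, hYV (hDY hx)⟩) (key ⟨x, hDY hx⟩ hx)

theorem case_ii [hp : Fact p.Prime] (hr : r.Prime) (hrp : r ≠ p)
    (hρr : ρ ^ r = 1) (h : Cfg36 p r V D P ρ) {q : ℕ} (hq : q.Prime) (hD : IsPGroup q D)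
    (hD0 : ∀ D₀ : Subgroup X, D₀ < D → P ≤ normalizer (D₀ : Set X) →
      ρ ∈ normalizer (D₀ : Set X) → ⁅D₀, P⁆ ≤ centralizer (V : Set X))
    (hV1 : ∀ V₁ : Subgroup X, V₁ < V → D ≤ normalizer (V₁ : Set X) →
      P ≤ normalizer (V₁ : Set X) → ρ ∈ normalizer (V₁ : Set X) →
      D ≤ centralizer (V₁ : Set X)) : ⁅D, D⁆ ≤ centralizer (V : Set X) := by
  by_contra hDD
  haveI : Fact q.Prime := ⟨hq⟩
  obtain ⟨F, _, _, _, M, _, _, _, ⟨R⟩⟩ := exists_repOf h.vea
  have hrF : (r : F) ≠ 0 := cast_ne_zero_of_not_dvd (ℓ := p) fun h0 =>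
    hrp ((Nat.prime_dvd_prime_iff_eq hp.out hr).mp h0).symm
  set Y : Subgroup X := normalizer (V : Set X) ⊓ normalizer (D : Set X) with hY
  have hYV : Y ≤ normalizer (V : Set X) := inf_le_left
  let π : Representation F Y M := R.rep.comp (Subgroup.inclusion hYV)
  have hπ : ∀ y : Y, π y = 1 ↔ (y : X) ∈ centralizer (V : Set X) := fun y =>
    ⟨fun h1 => R.mem_centralizer_of_rep_eq_one (g := ⟨y, hYV y.2⟩) h1,
      fun h1 => R.rep_eq_one_of_mem_centralizer (g := ⟨y, hYV y.2⟩) h1⟩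
  have hDY : D ≤ Y := le_inf h.DV le_normalizer
  have hPY : P ≤ Y := le_inf h.PV h.PD
  have hρY : ρ ∈ Y := mem_inf.mpr ⟨h.ρV, h.ρD⟩
  haveI hDn : (D.subgroupOf Y).Normal := normal_subgroupOf' inf_le_right
  have hline : FixLine R.rep (⟨ρ, h.ρV⟩ : normalizer (V : Set X)) :=
    fixLine_of_card_le (ℓ := p) R (Subtype.ext hρr) hrF h.CV (OOT.isEA_isPGroup h.vea)
  -- `D` is nontrivial, `q ≠ 2, p, r`
  have hDne : D ≠ ⊥ := by
    rintro rfl
    apply hDD
    rw [commutator_bot_left]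
    exact bot_le
  have hqD : q ∣ Nat.card D := by
    obtain ⟨n, hn⟩ := IsPGroup.iff_card.mp hD
    rcases Nat.eq_zero_or_pos n with h0 | h0
    · rw [h0, pow_zero] at hn
      exact absurd (card_eq_one.mp hn) hDne
    · rw [hn]; exact dvd_pow_self q h0.ne'
  have hq2 : q ≠ 2 := by
    rintro rfl
    exact (Nat.not_even_iff_odd.mpr h.hoddD) (even_iff_two_dvd.mpr hqD)
  have hpq : p ≠ q := by rintro rfl; exact h.hpD hqD
  have hrq : r ≠ q := by rintro rfl; exact h.hrD hqD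
  -- the quotient by `C_D(V)`
  set C : Subgroup X := D ⊓ centralizer (V : Set X) with hC
  have hYC : Y ≤ normalizer (C : Set X) := by
    intro y hy
    rw [mem_normalizer_iff]
    intro g
    rw [hC, mem_inf, mem_inf, mem_normalizer_iff.mp (mem_inf.mp hy).2 g]
    have h1 : y ∈ normalizer ((centralizer (V : Set X) : Subgroup X) : Set X) :=
      OOT.normalizer_le_normalizer_centralizer V (mem_inf.mp hy).1
    rw [mem_normalizer_iff.mp h1 g]
  haveI hCn : (C.subgroupOf Y).Normal := normal_subgroupOf' hYC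
  set D' := D.subgroupOf Y with hD'
  set P' := P.subgroupOf Y with hP'
  set C' := C.subgroupOf Y with hC'
  set κ := QuotientGroup.mk' C' with hκ
  have hκs : Function.Surjective κ := QuotientGroup.mk'_surjective C'
  have hκ1 : ∀ y : Y, κ y = 1 ↔ (y : X) ∈ C := fun y => by
    rw [hκ]; exact (QuotientGroup.eq_one_iff y)
  have hDmap : ∀ y : Y, κ y ∈ D'.map κ → y ∈ D' := by
    rintro y ⟨d, hd, hdy⟩
    have h1 : κ (d⁻¹ * y) = 1 := by rw [map_mul, map_inv, hdy, inv_mul_cancel]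
    rw [hκ1] at h1
    have h2 := mul_mem hd (show d⁻¹ * y ∈ D' from (mem_inf.mp h1).1)
    rwa [mul_inv_cancel_left] at h2
  have hmin : ∀ D₀ : Subgroup (Y ⧸ C'), D₀ < D'.map κ →
      P'.map κ ≤ normalizer (D₀ : Set (Y ⧸ C')) →
      κ ⟨ρ, hρY⟩ ∈ normalizer (D₀ : Set (Y ⧸ C')) → ⁅D₀, P'.map κ⁆ = ⊥ := by
    intro D₀ hlt hPD₀ hρD₀
    set E : Subgroup X := (D₀.comap κ).map Y.subtype with hE
    have hEmem : ∀ y : Y, (y : X) ∈ E ↔ κ y ∈ D₀ := by
      intro y
      constructor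
      · rintro ⟨z, hz, hzy⟩
        have : z = y := Subtype.ext hzy
        rw [← this]; exact hz
      · intro hy
        exact ⟨y, hy, rfl⟩
    have hEY : E ≤ Y := map_subtype_le _
    have hED : E ≤ D := by
      intro x hx
      have h1 : κ ⟨x, hEY hx⟩ ∈ D₀ := (hEmem ⟨x, hEY hx⟩).mp hx
      exact hDmap ⟨x, hEY hx⟩ (hlt.le h1)
    have hEne : E ≠ D := by
      intro he
      apply hlt.ne
      apply le_antisymm hlt.le
      rintro _ ⟨y, hy, rfl⟩
      rw [← hEmem, he]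
      exact hy
    have hnorm : ∀ x : X, ∀ hx : x ∈ Y, κ ⟨x, hx⟩ ∈ normalizer (D₀ : Set (Y ⧸ C')) →
        x ∈ normalizer (E : Set X) := by
      intro x hx hn
      rw [mem_normalizer_iff]
      intro g
      by_cases hg : g ∈ Y
      · have h1 := mem_normalizer_iff.mp hn (κ ⟨g, hg⟩)
        rw [← map_mul, ← map_inv, ← map_mul, ← hEmem, ← hEmem] at h1
        exact h1
      · constructor
        · intro h1; exact absurd (hEY h1) hg
        · intro h1
          apply absurd _ hg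
          have h2 := mul_mem (mul_mem (inv_mem hx) (hEY h1)) hx
          have e : x⁻¹ * (x * g * x⁻¹) * x = g := by group
          rwa [e] at h2
    have h1 := hD0 E (lt_of_le_of_ne hED hEne)
      (fun x hx => hnorm x (hPY hx) (hPD₀ ⟨⟨x, hPY hx⟩, hx, rfl⟩)) (hnorm ρ hρY hρD₀)
    rw [commutator_eq_bot_iff_le_centralizer]
    intro a ha
    obtain ⟨y, rfl⟩ := hκs a
    rw [mem_centralizer_iff]
    rintro _ ⟨x, hx, rfl⟩
    have h2 : κ ⁅y, x⁆ = 1 := by
      rw [hκ1]
      refine mem_inf.mpr ⟨?_, ?_⟩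
      · rw [← h.DP]
        exact commutator_mem_commutator (hED ((hEmem y).mpr ha)) hx
      · exact h1 (commutator_mem_commutator ((hEmem y).mpr ha) hx)
    rw [map_commutatorElement, commutatorElement_eq_one_iff_mul_comm] at h2
    exact h2.symm
  haveI hDn' : (D'.map κ).Normal := hDn.map κ hκs
  have hDpg : IsPGroup q (D'.map κ) := (hD.of_equiv (subgroupOfEquivOfLe hDY).symm).map κ
  have hDPκ : ⁅D'.map κ, P'.map κ⁆ = D'.map κ := by
    rw [← map_commutator, commutator_subgroupOf' hDY hPY, h.DP]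
  have hDDY : ⁅D, D⁆ ≤ D := H23.commutator_le_of_le_normalizer le_normalizer
  have hDne' : D'.map κ ≠ ⊥ := by
    intro h0
    apply hDD
    intro x hx
    have h1 : κ ⟨x, hDY (hDDY hx)⟩ ∈ D'.map κ := ⟨_, hDDY hx, rfl⟩
    rw [h0, mem_bot, hκ1] at h1
    exact (mem_inf.mp h1).2
  -- the centre modulo `C`
  set Z' : Subgroup Y := D' ⊓ (centralizer ((D'.map κ : Subgroup (Y ⧸ C')) : Set (Y ⧸ C'))).comap κ
    with hZ'
  haveI : Z'.Normal := by rw [hZ']; infer_instance
  have hV₁ : D ≤ centralizer ((V ⊓ centralizer ((⁅D, D⁆ : Subgroup X) : Set X) : Subgroup X) :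
      Set X) := by
    apply hV1
    · refine lt_of_le_of_ne inf_le_left fun h0 => hDD ?_
      have h1 := h0.ge.trans inf_le_right
      rw [le_centralizer_iff] at h1
      exact h1
    all_goals
      have hgen : ∀ y : X, y ∈ normalizer (V : Set X) → y ∈ normalizer (D : Set X) →
          y ∈ normalizer ((V ⊓ centralizer ((⁅D, D⁆ : Subgroup X) : Set X) : Subgroup X) :
            Set X) := by
        intro y hy1 hy2
        have h1 : y ∈ normalizer ((centralizer ((⁅D, D⁆ : Subgroup X) : Set X) : Subgroup X) :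
            Set X) := OOT.normalizer_le_normalizer_centralizer _ (mem_normalizer_commutator hy2 hy2)
        rw [mem_normalizer_iff]
        intro g
        rw [mem_inf, mem_inf, mem_normalizer_iff.mp hy1 g, mem_normalizer_iff.mp h1 g]
    · exact fun y hy => hgen y (h.DV hy) (le_normalizer hy)
    · exact fun y hy => hgen y (h.PV hy) (h.PD hy)
    · exact hgen ρ h.ρV h.ρD
  have hz := core_z π (Z := Z') (D := D') (ρ := ⟨ρ, hρY⟩) hr (Subtype.ext hρr) inf_le_left
    (by
      apply cast_ne_zero_of_not_dvd (ℓ := p)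
      intro h1
      apply h.hpD
      rw [← card_subgroupOf hDY]
      exact h1.trans (card_dvd_of_le inf_le_left))
    (by
      intro z hz d hd
      have h1 : π ⁅z, d⁆ = 1 := by
        rw [hπ]
        have h2 : κ ⁅z, d⁆ = 1 := by
          rw [map_commutatorElement, commutatorElement_eq_one_iff_mul_comm]
          exact (mem_centralizer_iff.mp (mem_inf.mp hz).2 (κ d) ⟨d, hd, rfl⟩).symm
        rw [hκ1] at h2
        exact (mem_inf.mp h2).2
      have h2 : z * d = ⁅z, d⁆ * (d * z) := by rw [commutatorElement_def]; group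
      rw [← map_mul, h2, map_mul, h1, one_mul, map_mul])
    hline
    (by
      intro m hm x hx
      have hS : (Nat.card ((⁅D, D⁆ : Subgroup X).subgroupOf (normalizer (V : Set X))) : F) ≠ 0 := by
        apply cast_ne_zero_of_not_dvd (ℓ := p)
        intro h1
        apply h.hpD
        rw [card_subgroupOf (hDDY.trans h.DV)] at h1
        exact h1.trans (card_dvd_of_le hDDY)
      have h1 := R.mem_span_fixed ((⁅D, D⁆ : Subgroup X).subgroupOf (normalizer (V : Set X))) hS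
        (m := m) (by
          intro s hs
          have h2 : (s : X) ∈ ⁅D, D⁆ := hs
          have h3 : (⟨s, hDY (hDDY h2)⟩ : Y) ∈ ⁅D', D'⁆ := by
            rw [hD', commutator_subgroupOf' hDY hDY]
            exact h2
          exact hm _ h3)
      clear hm
      induction h1 using Submodule.span_induction with
      | mem y hy =>
        obtain ⟨v, hv, rfl⟩ := hy
        show R.rep _ (R.ι v) = R.ι v
        rw [R.rep_ι]
        congr 1
        apply Subtype.ext
        rw [RepOf.coe_hom]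
        have h2 : (v : X) ∈ V ⊓ centralizer ((⁅D, D⁆ : Subgroup X) : Set X) := by
          refine mem_inf.mpr ⟨v.2, ?_⟩
          rw [mem_centralizer_iff]
          intro s hs
          have h3 := hv ⟨s, h.DV (hDDY hs)⟩ hs
          exact mul_inv_eq_iff_eq_mul.mp h3
        have h3 := mem_centralizer_iff.mp (hV₁ (show (x : X) ∈ D from hx)) v h2
        show (x : X) * v * (x : X)⁻¹ = v
        rw [← h3, mul_inv_cancel_right]
      | zero => rw [map_zero]
      | add a b _ _ ha hb => rw [map_add, ha, hb]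
      | smul c a _ ha => rw [map_smul, ha])
  -- apply the purely group-theoretic part
  have hfin := core_ii (p := p) (q := q) (r := r) (D := D'.map κ) (P := P'.map κ)
    (ρ := κ ⟨ρ, hρY⟩) hq2 hr hpq hrp hrq
    (by rw [← map_pow]; rw [show (⟨ρ, hρY⟩ : Y) ^ r = 1 from Subtype.ext hρr, map_one]) hDpg
    ((h.pgrp.of_equiv (subgroupOfEquivOfLe hPY).symm).map κ)
    (by
      rw [mem_normalizer_iff_conj_smul]
      have h1 := mem_normalizer_subgroupOf' hρY h.ρP
      apply le_antisymm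
      · rintro _ ⟨_, ⟨x, hx, rfl⟩, rfl⟩
        exact ⟨⟨ρ, hρY⟩ * x * ⟨ρ, hρY⟩⁻¹, (mem_normalizer_iff.mp h1 x).mp hx, by simp⟩
      · rintro _ ⟨x, hx, rfl⟩
        refine ⟨κ (⟨ρ, hρY⟩⁻¹ * x * ⟨ρ, hρY⟩), ⟨_, ?_, rfl⟩, by simp [mul_assoc]⟩
        have := (mem_normalizer_iff.mp (inv_mem h1) x).mp hx
        rwa [inv_inv] at this) hDPκ
    (by
      rintro _ ⟨x, hx, rfl⟩ hc
      have h1 : κ (x⁻¹ * ⟨ρ, hρY⟩ * x * ⟨ρ, hρY⟩⁻¹) = 1 := by
        simp only [map_mul, map_inv]
        have : κ ⟨ρ, hρY⟩ * κ x = κ x * κ ⟨ρ, hρY⟩ := hc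
        rw [mul_assoc ((κ x)⁻¹), this]
        group
      rw [hκ1] at h1
      have h2 : ((x⁻¹ * ⟨ρ, hρY⟩ * x * ⟨ρ, hρY⟩⁻¹ : Y) : X) ∈ P := by
        have := mul_mem (inv_mem (show (x : X) ∈ P from hx))
          ((mem_normalizer_iff.mp h.ρP x).mp hx)
        have e : (x : X)⁻¹ * (ρ * x * ρ⁻¹) = ((x⁻¹ * ⟨ρ, hρY⟩ * x * ⟨ρ, hρY⟩⁻¹ : Y) : X) := by
          simp [mul_assoc]
        rwa [e] at this
      have h3 : P ⊓ D = ⊥ := by
        apply inf_eq_bot_of_card_coprime
        obtain ⟨k, hk⟩ := IsPGroup.iff_card.mp h.pgrp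
        obtain ⟨j, hj⟩ := IsPGroup.iff_card.mp hD
        rw [hk, hj]
        exact Nat.Coprime.pow _ _ ((Nat.coprime_primes hp.out hq).mpr hpq)
      have h4 := mem_inf.mpr ⟨h2, (mem_inf.mp h1).1⟩
      rw [h3, mem_bot] at h4
      have h5 : x = 1 := by
        apply Subtype.ext
        apply h.CP x hx
        have h4' : (x : X)⁻¹ * ρ * x * ρ⁻¹ = 1 := h4
        have h6 := mul_inv_eq_one.mp h4'
        show ρ * x = x * ρ
        rw [mul_assoc, inv_mul_eq_iff_eq_mul] at h6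
        exact h6
      rw [h5, map_one]) hmin
    (by
      intro z hzD hzc
      obtain ⟨y, rfl⟩ := hκs z
      have h1 := hz y (mem_inf.mpr ⟨hDmap y hzD, hzc⟩)
      rw [hπ] at h1
      have h2 : κ ⁅y, ⟨ρ, hρY⟩⁆ = 1 := by
        rw [hκ1]
        refine mem_inf.mpr ⟨?_, h1⟩
        have h3 : (y : X) ∈ D := hDmap y hzD
        have h4 := (mem_normalizer_iff.mp h.ρD _).mp (inv_mem h3)
        have h5 := mul_mem h3 h4
        have e : (y : X) * (ρ * (y : X)⁻¹ * ρ⁻¹) = ((⁅y, ⟨ρ, hρY⟩⁆ : Y) : X) := by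
          rw [commutatorElement_def]; simp [mul_assoc]
        rwa [e] at h5
      rw [map_commutatorElement, commutatorElement_eq_one_iff_mul_comm] at h2
      exact h2.symm)
    (by
      -- `C_D(ρ)` is cyclic
      have hcy := isCyclic_of_isZGroup' (hD.to_le inf_le_left) h.ZD
      obtain ⟨g, hg⟩ := hcy.exists_generator
      have hgD : (g : X) ∈ D := (mem_inf.mp g.2).1
      have hgρ : (g : X) * ρ = ρ * g := by
        have := (mem_inf.mp g.2).2
        rw [mem_centralizer_singleton_iff] at this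
        exact this
      have hgt : κ ⟨g, hDY hgD⟩ ∈ (D'.map κ ⊓ centralizer ({κ ⟨ρ, hρY⟩} : Set (Y ⧸ C')) :
          Subgroup (Y ⧸ C')) := by
        refine mem_inf.mpr ⟨⟨_, hgD, rfl⟩, ?_⟩
        rw [mem_centralizer_singleton_iff, ← map_mul, ← map_mul]
        congr 1
        exact Subtype.ext hgρ
      refine ⟨⟨_, hgt⟩, ?_⟩
      rintro ⟨z, hz'⟩
      obtain ⟨⟨y, hy, rfl⟩, hzc⟩ := mem_inf.mp hz'
      rw [mem_centralizer_singleton_iff] at hzc
      have h1 : κ (y⁻¹ * ⟨ρ, hρY⟩ * y * ⟨ρ, hρY⟩⁻¹) = 1 := by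
        simp only [map_mul, map_inv]
        rw [mul_assoc ((κ y)⁻¹), ← hzc]
        group
      rw [hκ1] at h1
      have hcopC : r.Coprime (Nat.card C) := by
        obtain ⟨k, hk⟩ := IsPGroup.iff_card.mp (hD.to_le (inf_le_left : C ≤ D))
        rw [hk]
        exact Nat.Coprime.pow_right k ((Nat.coprime_primes hr hq).mpr hrq)
      obtain ⟨n, hn, hcn⟩ := exists_mem_centralizer_of_comm hρr (hYC hρY) hcopC (x := (y : X)) h1
      have h2 : (y : X) * n ∈ D ⊓ centralizer ({ρ} : Set X) := by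
        refine mem_inf.mpr ⟨mul_mem hy (mem_inf.mp hn).1, ?_⟩
        rw [mem_centralizer_singleton_iff]
        exact hcn.symm
      obtain ⟨k, hk⟩ := mem_zpowers_iff.mp (hg ⟨_, h2⟩)
      refine ⟨k, ?_⟩
      apply Subtype.ext
      have hnY : n ∈ Y := hDY (mem_inf.mp hn).1
      have h3 : κ ⟨n, hnY⟩ = 1 := by rw [hκ1]; exact hn
      have h4 : (⟨g, hDY hgD⟩ : Y) ^ k = y * ⟨n, hnY⟩ := by
        apply Subtype.ext
        have := congrArg Subtype.val hk
        simpa using this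
      show (κ ⟨g, hDY hgD⟩) ^ k = κ y
      rw [← map_zpow, h4, map_mul, h3, mul_one])
  apply hDD
  intro x hx
  have h1 : κ ⟨x, hDY (hDDY hx)⟩ = 1 := by
    have h2 : (⟨x, hDY (hDDY hx)⟩ : Y) ∈ ⁅D', D'⁆ := by
      rw [hD', commutator_subgroupOf' hDY hDY]; exact hx
    have h3 : κ ⟨x, hDY (hDDY hx)⟩ ∈ ⁅D'.map κ, D'.map κ⁆ := by
      rw [← map_commutator]; exact ⟨_, h2, rfl⟩
    rw [commutator_eq_bot_iff_le_centralizer.mpr hfin, mem_bot] at h3
    exact h3
  rw [hκ1] at h1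
  exact (mem_inf.mp h1).2

/-- the core configuration of BG 3.6 is impossible -/
theorem main [hp : Fact p.Prime] (hp2 : p ≠ 2) (hr : r.Prime) (hr2 : r ≠ 2) (hrp : r ≠ p)
    (hρr : ρ ^ r = 1) (h : Cfg36 p r V D P ρ) : D ≤ centralizer (V : Set X) := by
  induction hn : Nat.card V + Nat.card D using Nat.strong_induction_on generalizing V D with
  | _ n ih =>
    have ihD : ∀ D' : Subgroup X, D' < D → Cfg36 p r V D' P ρ → D' ≤ centralizer (V : Set X) := by
      intro D' hlt hc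
      refine ih _ ?_ hc rfl
      have := card_lt_of_lt' hlt
      omega
    rcases h.q_group hr hρr ihD with h1 | ⟨q, hq, hDq⟩
    · exact h1
    · apply h.case_i hp2 hr hr2 hrp hρr
      refine h.case_ii hr hrp hρr hq hDq ?_ ?_
      · intro D₀ hlt hP0 hρ0
        exact ihD _ (lt_of_le_of_lt (H23.commutator_le_of_le_normalizer hP0) hlt)
          (h.comm hlt.le hP0 hρ0)
      · intro V₁ hlt hD1 hP1 hρ1
        refine ih _ ?_ (h.mono hlt.le hD1 hP1 hρ1) rfl
        have := card_lt_of_lt' hlt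
        omega

end Cfg36

end Cfsg.Agent.H1
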