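import Cfsg.Agent.H1.BG36A

/-!
# Bender–Glauberman Theorem 3.6: a group-theoretic lemma (helper1)
-/

set_option autoImplicit false

namespace Cfsg.Agent.H1

open Subgroup
open scoped commutatorElement Pointwise

universe u v w

section Grp

variable {X : Type u} [Group X] [Finite X]

/-- group version of `frob_lin`: a Frobenius group `K⟨ρ⟩` acting on an elementary abelian group
`V` with `C_V(ρ) = 1`: `K` acts trivially. -/
theorem frob_grp {ℓ : ℕ} [hℓ : Fact ℓ.Prime] {V K : Subgroup X} {ρ : X} {r : ℕ} (hr : r.Prime)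
    (hV : Cfsg.IsElementaryAbelian ℓ V) (hKV : K ≤ normalizer (V : Set X))
    (hρV : ρ ∈ normalizer (V : Set X)) (hρK : ρ ∈ normalizer (K : Set X)) (hρr : ρ ^ r = 1)
    (hrℓ : r ≠ ℓ) (hKℓ : ¬ ℓ ∣ Nat.card K) (hfixK : ∀ x ∈ K, Commute ρ x → x = 1)
    (hfix : ∀ v ∈ V, ρ * v = v * ρ → v = 1) : K ≤ centralizer (V : Set X) := by
  obtain ⟨F, _, _, _, M, _, _, _, ⟨R⟩⟩ := exists_repOf hV
  have hrF : (r : F) ≠ 0 := cast_ne_zero_of_not_dvd (ℓ := ℓ) fun h =>
    hrℓ ((Nat.prime_dvd_prime_iff_eq hℓ.out hr).mp h).symm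
  set N := normalizer (V : Set X) with hN
  have hρr' : (⟨ρ, hρV⟩ : N) ^ r = 1 := Subtype.ext hρr
  intro x hx
  have hc : Nat.card (K.subgroupOf N) = Nat.card K := card_subgroupOf hKV
  have key := frob_lin R.rep (K := K.subgroupOf N) (ρ := (⟨ρ, hρV⟩ : N)) (by
      rw [mem_normalizer_iff]
      intro g
      rw [mem_subgroupOf, mem_subgroupOf]
      exact mem_normalizer_iff.mp hρK g) hr hρr'
    (fun x hx hcm => Subtype.ext (hfixK x hx (congrArg Subtype.val hcm)))
    (by rw [hc]; exact cast_ne_zero_of_not_dvd (ℓ := ℓ) hKℓ)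
    (R.sum_eq_zero hρr' hrF hfix) ⟨x, hKV hx⟩ hx
  exact R.mem_centralizer_of_rep_eq_one key

/-- coprime action of a cyclic group of prime order on a section -/
theorem exists_mem_centralizer_of_comm {r : ℕ} {ρ : X} (hρr : ρ ^ r = 1) {Z : Subgroup X}
    (hρZ : ρ ∈ normalizer (Z : Set X)) (hcop : r.Coprime (Nat.card Z)) {x : X}
    (hx : x⁻¹ * ρ * x * ρ⁻¹ ∈ Z) : ∃ n ∈ Z, Commute ρ (x * n) := by
  have hA : zpowers ρ ≤ normalizer (Z : Set X) := by rw [zpowers_le]; exact hρZ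
  have hcopA : (Nat.card (zpowers ρ)).Coprime (Nat.card Z) := by
    have h1 : Nat.card (zpowers ρ) ∣ r := by
      rw [Nat.card_zpowers]; exact orderOf_dvd_of_pow_eq_one hρr
    exact Nat.Coprime.coprime_dvd_left h1 hcop
  have h2 : ∀ a ∈ zpowers ρ, x⁻¹ * a * x * a⁻¹ ∈ Z := by
    have hsub : zpowers ρ ≤ (
      { carrier := {a | a ∈ normalizer (Z : Set X) ∧ x⁻¹ * a * x * a⁻¹ ∈ Z}
        mul_mem' := fun {a c} ha hc => by
          refine ⟨mul_mem ha.1 hc.1, ?_⟩
          have h3 := (mem_normalizer_iff.mp ha.1 _).mp hc.2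
          have h4 := mul_mem ha.2 h3
          have e : x⁻¹ * a * x * a⁻¹ * (a * (x⁻¹ * c * x * c⁻¹) * a⁻¹) =
            x⁻¹ * (a * c) * x * (a * c)⁻¹ := by group
          rwa [e] at h4
        one_mem' := ⟨one_mem _, by
          have e : x⁻¹ * 1 * x * 1⁻¹ = (1 : X) := by group
          rw [e]; exact one_mem _⟩
        inv_mem' := fun {a} ha => by
          refine ⟨inv_mem ha.1, ?_⟩
          have h3 := (mem_normalizer_iff.mp (inv_mem ha.1) _).mp (inv_mem ha.2)
          have e : a⁻¹ * (x⁻¹ * a * x * a⁻¹)⁻¹ * a⁻¹⁻¹ = x⁻¹ * a⁻¹ * x * a⁻¹⁻¹ := by group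
          rwa [e] at h3 } : Subgroup X) := by
      rw [zpowers_le]; exact ⟨hρZ, hx⟩
    exact fun a ha => (hsub ha).2
  obtain ⟨n, hn, hnc⟩ := H23.exists_mem_coset_centralizer hA hcopA (Or.inl inferInstance) h2
  exact ⟨n, hn, mem_centralizer_iff.mp hnc ρ (mem_zpowers ρ)⟩

/-- the purely group-theoretic part of the nonabelian case of BG 3.6 -/
theorem core_ii {p q r : ℕ} [hp : Fact p.Prime] [hq : Fact q.Prime] (hq2 : q ≠ 2) (hr : r.Prime)
    (hpq : p ≠ q) (hrp : r ≠ p) (hrq : r ≠ q) {D P : Subgroup X} {ρ : X} (hρr : ρ ^ r = 1)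
    [hDn : D.Normal] (hD : IsPGroup q D) (hP : IsPGroup p P) (hρP : ρ ∈ normalizer (P : Set X))
    (hDP : ⁅D, P⁆ = D) (hCP : ∀ x ∈ P, Commute ρ x → x = 1)
    (hmin : ∀ D₀ : Subgroup X, D₀ < D → P ≤ normalizer (D₀ : Set X) →
      ρ ∈ normalizer (D₀ : Set X) → ⁅D₀, P⁆ = ⊥)
    (hZ : ∀ z ∈ D, z ∈ centralizer (D : Set X) → Commute ρ z)
    (hcyc : IsCyclic (D ⊓ centralizer ({ρ} : Set X) : Subgroup X)) :
    D ≤ centralizer (D : Set X) := by
  by_contra hnab
  have hDsol : Group.IsSolvable D := H23.isSolvable_of_isPGroup hD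
  have hPD : P ≤ normalizer (D : Set X) := by rw [normalizer_eq_top]; exact le_top
  have hDne : D ≠ ⊥ := by rintro rfl; exact hnab bot_le
  -- proper invariant normal subgroups are central
  have hcentral : ∀ N : Subgroup X, N < D → N.Normal → N ≤ centralizer (D : Set X) := by
    intro N hN hNn
    have h1 : ⁅N, P⁆ = ⊥ := hmin N hN (by rw [normalizer_eq_top]; exact le_top)
      (by rw [normalizer_eq_top]; trivial)
    have h2 : ⁅⁅N, P⁆, D⁆ = ⊥ := by rw [h1, commutator_bot_left]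
    have h3 : ⁅⁅D, N⁆, P⁆ = ⊥ := by
      rw [eq_bot_iff, ← h1]
      exact commutator_mono (commutator_le_right _ _) le_rfl
    have h5 : ⁅⁅P, D⁆, N⁆ = ⊥ := commutator_commutator_eq_bot_of_rotate h3 h2
    rw [commutator_comm P D, hDP, commutator_comm, commutator_eq_bot_iff_le_centralizer] at h5
    exact h5
  set Z : Subgroup X := D ⊓ centralizer (D : Set X) with hZdef
  haveI hZn : Z.Normal := by rw [hZdef]; infer_instance
  have hZlt : Z < D := lt_of_le_of_ne inf_le_left fun h => hnab (by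
    have := h.ge.trans (inf_le_right : Z ≤ centralizer (D : Set X)); exact this)
  -- derived group and Frattini subgroup
  have hD'lt : ⁅D, D⁆ < D := H23.commutator_lt_of_isPGroup hD hD le_normalizer hDne
  have hD' : ⁅D, D⁆ ≤ centralizer (D : Set X) := hcentral _ hD'lt inferInstance
  have hΦ : (frattini D).map D.subtype ≤ centralizer (D : Set X) := by
    apply hcentral
    · refine lt_of_le_of_ne (map_subtype_le _) fun h => ?_
      have h1 : (⊤ : Subgroup D) ≤ frattini D := by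
        intro x _
        have : (x : X) ∈ (frattini D).map D.subtype := h.ge x.2
        obtain ⟨y, hy, hyx⟩ := this
        have : y = x := Subtype.ext hyx
        rwa [← this]
      have h2 : (⊥ : Subgroup D) = ⊤ := frattini_nongenerating (by rw [bot_sup_eq]; exact top_le_iff.mp h1)
      apply hDne
      rw [eq_bot_iff]
      intro x hx
      have : (⟨x, hx⟩ : D) ∈ (⊥ : Subgroup D) := h2 ▸ mem_top _
      rw [mem_bot] at this ⊢
      exact congrArg Subtype.val this
    · infer_instance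
  have hpow : ∀ x ∈ D, x ^ q ∈ centralizer (D : Set X) := by
    intro x hx
    apply hΦ
    exact ⟨(⟨x, hx⟩ : D) ^ q, H2.pow_mem_frattini hD ⟨x, hx⟩, rfl⟩
  -- commutators have order dividing `q`
  have hcent : ∀ x ∈ D, ∀ y ∈ D, ∀ z ∈ D, Commute ⁅y, x⁆ z := by
    intro x hx y hy z hz
    exact (mem_centralizer_iff.mp (hD' (commutator_mem_commutator hy hx)) z hz).symm
  have hcq : ∀ x ∈ D, ∀ y ∈ D, ⁅y, x⁆ ^ q = 1 := by
    intro x hx y hy
    have h1 := H23.commutator_pow_left_of_central (⟨x, hx⟩ : D) ⟨y, hy⟩ (fun z =>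
      Subtype.ext (hcent x hx y hy z z.2)) q
    have h2 := congrArg Subtype.val h1
    have h3 : ⁅y ^ q, x⁆ = 1 := by
      rw [commutatorElement_eq_one_iff_mul_comm]
      exact (mem_centralizer_iff.mp (hpow y hy) x hx).symm
    have h4 : ((⁅(⟨y, hy⟩ : D) ^ q, (⟨x, hx⟩ : D)⁆ : D) : X) = ⁅y ^ q, x⁆ := rfl
    rw [h4, h3] at h2
    exact h2.symm
  have hmulpow : ∀ x ∈ D, ∀ y ∈ D, (x * y) ^ q = x ^ q * y ^ q := by
    intro x hx y hy
    have h1 := H23.mul_pow_of_class_two (⟨x, hx⟩ : D) ⟨y, hy⟩ (fun z =>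
      Subtype.ext (hcent x hx y hy z z.2)) q
    have h2 : (x * y) ^ q = x ^ q * y ^ q * ⁅y, x⁆ ^ (q * (q - 1) / 2) := congrArg Subtype.val h1
    have h3 : q ∣ q * (q - 1) / 2 := by
      have hodd := hq.out.odd_of_ne_two hq2
      obtain ⟨k, hk⟩ := hodd
      refine ⟨k, ?_⟩
      have : q - 1 = 2 * k := by omega
      rw [this, mul_left_comm, Nat.mul_div_cancel_left _ (by norm_num)]
    obtain ⟨k, hk⟩ := h3
    rw [h2, hk, pow_mul, hcq x hx y hy, one_pow, mul_one]
  -- `D` has exponent `q`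
  have hexp : ∀ x ∈ D, x ^ q = 1 := by
    let Om : Subgroup X :=
      { carrier := {x | x ∈ D ∧ x ^ q = 1}
        mul_mem' := fun {a b} ha hb => ⟨mul_mem ha.1 hb.1, by
          rw [hmulpow a ha.1 b hb.1, ha.2, hb.2, one_mul]⟩
        one_mem' := ⟨one_mem _, one_pow q⟩
        inv_mem' := fun {a} ha => ⟨inv_mem ha.1, by rw [inv_pow, ha.2, inv_one]⟩ }
    have hle : ⁅D, P⁆ ≤ Om := by
      rw [commutator_le]
      intro x hx y hy
      have h1 : y * x⁻¹ * y⁻¹ ∈ D := hDn.conj_mem _ (inv_mem hx) y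
      have e : ⁅x, y⁆ = x * (y * x⁻¹ * y⁻¹) := by rw [commutatorElement_def]; group
      refine ⟨by rw [e]; exact mul_mem hx h1, ?_⟩
      -- `x ^ q` is centralized by `P`
      have h2 : ⁅Z, P⁆ = ⊥ := hmin Z hZlt (by rw [normalizer_eq_top]; exact le_top)
        (by rw [normalizer_eq_top]; trivial)
      have h3 : x ^ q ∈ Z := mem_inf.mpr ⟨pow_mem hx q, hpow x hx⟩
      have h4 := mem_centralizer_iff.mp ((commutator_eq_bot_iff_le_centralizer.mp h2) h3) y hy
      rw [e, hmulpow x hx _ h1, conj_pow, inv_pow]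
      have h5 : y * (x ^ q)⁻¹ * y⁻¹ = (x ^ q)⁻¹ := by
        have h6 : (y * x ^ q * y⁻¹)⁻¹ = (x ^ q)⁻¹ := by rw [h4, mul_inv_cancel_right]
        calc y * (x ^ q)⁻¹ * y⁻¹ = (y * x ^ q * y⁻¹)⁻¹ := by group
          _ = (x ^ q)⁻¹ := h6
      rw [h5, mul_inv_cancel]
    intro x hx
    rw [← hDP] at hx
    exact (hle hx).2
  -- `C_D(ρ) = Z(D)`
  have hCle : D ⊓ centralizer ({ρ} : Set X) ≤ Z := by
    have hZC : Z ≤ D ⊓ centralizer ({ρ} : Set X) := by
      intro z hz
      refine mem_inf.mpr ⟨(mem_inf.mp hz).1, ?_⟩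
      rw [mem_centralizer_singleton_iff]
      exact (hZ z (mem_inf.mp hz).1 (mem_inf.mp hz).2).symm
    have hZne : Z ≠ ⊥ := by
      intro h
      have h1 := H23.commutator_lt_of_isPGroup hD hD le_normalizer hDne
      have h2 : ⁅D, D⁆ ≤ Z := le_inf hD'lt.le hD'
      rw [h, le_bot_iff, commutator_eq_bot_iff_le_centralizer] at h2
      exact hnab h2
    have hcard : Nat.card (D ⊓ centralizer ({ρ} : Set X) : Subgroup X) ∣ q := by
      obtain ⟨g, hg⟩ := hcyc.exists_generator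
      have h1 : orderOf g ∣ q := by
        apply orderOf_dvd_of_pow_eq_one
        exact Subtype.ext (hexp g (mem_inf.mp g.2).1)
      rw [orderOf_eq_card_of_forall_mem_zpowers hg] at h1
      exact h1
    have hle2 := card_dvd_of_le hZC
    rcases (Nat.dvd_prime hq.out).mp hcard with h | h
    · rw [h] at hle2
      exact absurd ((card_eq_one).mp (Nat.dvd_one.mp hle2)) hZne
    · have h3 : Nat.card Z = q := by
        rw [h] at hle2
        rcases (Nat.dvd_prime hq.out).mp hle2 with h4 | h4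
        · exact absurd ((card_eq_one).mp h4) hZne
        · exact h4
      exact (eq_of_le_of_card_ge hZC (by rw [h, h3])).ge
  -- pass to the quotient by `Z`
  set κ := QuotientGroup.mk' Z with hκ
  have hκs : Function.Surjective κ := QuotientGroup.mk'_surjective Z
  have hZ1 : ∀ x : X, κ x = 1 ↔ x ∈ Z := fun x => QuotientGroup.eq_one_iff x
  have hVe : Cfsg.IsElementaryAbelian q (D.map κ) := by
    refine ⟨⟨⟨?_⟩⟩, ?_⟩
    · rintro ⟨_, x, hx, rfl⟩ ⟨_, y, hy, rfl⟩
      apply Subtype.ext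
      show κ x * κ y = κ y * κ x
      rw [← commutatorElement_eq_one_iff_mul_comm, ← map_commutatorElement, hZ1]
      have := commutator_mem_commutator hx hy
      exact mem_inf.mpr ⟨hD'lt.le this, hD' this⟩
    · rintro _ ⟨x, hx, rfl⟩
      rw [← map_pow, hexp x hx, map_one]
  haveI hDnq : (D.map κ).Normal := hDn.map κ hκs
  have hcopZ : r.Coprime (Nat.card Z) := by
    obtain ⟨k, hk⟩ := IsPGroup.iff_card.mp (hD.to_le (inf_le_left : Z ≤ D))
    rw [hk]
    exact Nat.Coprime.pow_right k ((Nat.coprime_primes hr hq.out).mpr hrq)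
  have key := frob_grp (ℓ := q) (V := D.map κ) (K := P.map κ) (ρ := κ ρ) hr hVe
    (by rw [normalizer_eq_top]; exact le_top) (by rw [normalizer_eq_top]; trivial)
    (by
      rw [mem_normalizer_iff_conj_smul]
      have h1 := mem_normalizer_iff_conj_smul.mp hρP
      apply le_antisymm
      · rintro _ ⟨_, ⟨x, hx, rfl⟩, rfl⟩
        exact ⟨ρ * x * ρ⁻¹, (mem_normalizer_iff.mp hρP x).mp hx, by simp⟩
      · rintro _ ⟨x, hx, rfl⟩
        refine ⟨κ (ρ⁻¹ * x * ρ), ⟨_, ?_, rfl⟩, by simp [mul_assoc]⟩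
        have := (mem_normalizer_iff.mp (inv_mem hρP) x).mp hx
        rwa [inv_inv] at this)
    (by rw [← map_pow, hρr, map_one]) hrq
    (by
      intro h1
      obtain ⟨k, hk⟩ := IsPGroup.iff_card.mp (hP.map κ)
      rw [hk] at h1
      exact hpq ((Nat.prime_dvd_prime_iff_eq hq.out hp.out).mp (hq.out.dvd_of_dvd_pow h1)).symm)
    (by
      rintro _ ⟨x, hx, rfl⟩ hc
      -- `[x, ρ] ∈ Z ∩ P = 1`
      have h1 : x⁻¹ * ρ * x * ρ⁻¹ ∈ Z := by
        rw [← hZ1]
        simp only [map_mul, map_inv]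
        have : κ ρ * κ x = κ x * κ ρ := hc
        rw [mul_assoc ((κ x)⁻¹), this]
        group
      have h2 : x⁻¹ * ρ * x * ρ⁻¹ ∈ P := by
        have := mul_mem (inv_mem hx) ((mem_normalizer_iff.mp hρP x).mp hx)
        have e : x⁻¹ * (ρ * x * ρ⁻¹) = x⁻¹ * ρ * x * ρ⁻¹ := by group
        rwa [e] at this
      have h3 : P ⊓ Z = ⊥ := by
        apply inf_eq_bot_of_card_coprime
        obtain ⟨k, hk⟩ := IsPGroup.iff_card.mp hP
        obtain ⟨j, hj⟩ := IsPGroup.iff_card.mp (hD.to_le (inf_le_left : Z ≤ D))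
        rw [hk, hj]
        exact Nat.Coprime.pow _ _ ((Nat.coprime_primes hp.out hq.out).mpr hpq)
      have h4 : x⁻¹ * ρ * x * ρ⁻¹ ∈ P ⊓ Z := mem_inf.mpr ⟨h2, h1⟩
      rw [h3, mem_bot] at h4
      have h5 : x = 1 := by
        apply hCP x hx
        have h6 := mul_inv_eq_one.mp h4
        show ρ * x = x * ρ
        rw [mul_assoc, inv_mul_eq_iff_eq_mul] at h6
        exact h6
      rw [h5, map_one])
    (by
      rintro _ ⟨x, hx, rfl⟩ hc
      rw [hZ1]
      have h1 : x⁻¹ * ρ * x * ρ⁻¹ ∈ Z := by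
        rw [← hZ1]
        simp only [map_mul, map_inv]
        rw [mul_assoc ((κ x)⁻¹), hc]
        group
      obtain ⟨n, hn, hcn⟩ := exists_mem_centralizer_of_comm hρr
        (by rw [normalizer_eq_top]; trivial : ρ ∈ normalizer (Z : Set X)) hcopZ h1
      have h2 : x * n ∈ Z := by
        apply hCle
        refine mem_inf.mpr ⟨mul_mem hx (mem_inf.mp hn).1, ?_⟩
        rw [mem_centralizer_singleton_iff]
        exact hcn.symm
      have := mul_mem h2 (inv_mem hn)
      rwa [mul_inv_cancel_right] at this)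
  -- `P` acts trivially on `D / Z`
  have h1 : ⁅D, P⁆ ≤ Z := by
    rw [commutator_le]
    intro x hx y hy
    rw [← hZ1, map_commutatorElement, commutatorElement_eq_one_iff_mul_comm]
    exact mem_centralizer_iff.mp (key ⟨y, hy, rfl⟩) (κ x) ⟨x, hx, rfl⟩
  rw [hDP] at h1
  exact absurd h1 (not_le_of_gt hZlt)

end Grp

end Cfsg.Agent.H1
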