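import Cfsg.Agent.H1.BG36B
import Cfsg.Agent.OOT.PLen1
import Cfsg.Agent.H2.Frat

/-!
# Bender–Glauberman Theorem 3.6: the reduction (helper1)
-/

set_option autoImplicit false

namespace Cfsg.Agent.H1

open Subgroup Cfsg
open scoped commutatorElement Pointwise

universe u v w

section Gen

variable {G : Type u} [Group G] [Finite G] {p : ℕ} [hp : Fact p.Prime]

theorem centralizer_pPrimeCore_le (hs : Group.IsSolvable G) (h : pCore p G = ⊥) :
    centralizer (pPrimeCore p G : Set G) ≤ pPrimeCore p G := by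
  have h1 : fittingSubgroup G ≤ pPrimeCore p G := by
    rw [fitting_eq_iSup_pCore]
    have := iSup_pCore_eq_sup (G := G) p
    rwa [h, bot_sup_eq] at this
  exact (centralizer_le h1).trans ((centralizer_fitting_le hs).trans h1)

/-- the structure of a solvable normal subgroup with `O_{p'} = 1` -/
theorem struct36 {H : Subgroup G} [hH : H.Normal] (hs : Group.IsSolvable H)
    (hO : pPrimeCore p H = ⊥) :
    ∃ V K : Subgroup G, V.Normal ∧ K.Normal ∧ V ≤ K ∧ K ≤ H ∧ IsPGroup p V ∧
      (V.relIndex K).Coprime p ∧ (∀ x ∈ H, x ∈ centralizer (V : Set G) → x ∈ V) ∧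
      (∀ x ∈ H, (∀ k ∈ K, ⁅x, k⁆ ∈ V) → x ∈ K) ∧
      (∀ T : Subgroup G, T ≤ H → H ≤ normalizer (T : Set G) → IsPGroup p T → T ≤ V) ∧
      V = (pCore p H).map H.subtype := by
  set V' := pCore p H with hV'
  set κ := QuotientGroup.mk' V' with hκ
  have hκs : Function.Surjective κ := QuotientGroup.mk'_surjective V'
  have hκ1 : ∀ y : H, κ y = 1 ↔ y ∈ V' := fun y => QuotientGroup.eq_one_iff y
  set K' := (pPrimeCore p (H ⧸ V')).comap κ with hK'
  have hVK' : V' ≤ K' := le_comap_mk' V' _
  have hs' : Group.IsSolvable (H ⧸ V') := inferInstance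
  haveI hK'c : K'.Characteristic := by
    rw [characteristic_iff_map_le]
    intro φ
    rw [map_le_iff_le_comap]
    -- the induced automorphism of the quotient
    have hφ : ∀ x : H, φ x ∈ V' ↔ x ∈ V' := by
      intro x
      have h1 := characteristic_iff_comap_eq.mp (inferInstance : V'.Characteristic) φ
      conv_rhs => rw [← h1]
      rfl
    intro x hx
    rw [mem_comap]
    have hmap : (K'.map φ.toMonoidHom).map κ ≤ pPrimeCore p (H ⧸ V') := by
      have hK'n : K'.Normal := by rw [hK']; infer_instance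
      have hn1 : (K'.map φ.toMonoidHom).Normal := hK'n.map _ φ.surjective
      apply le_pPrimeCore (hn1.map κ hκs)
      have hle : V' ≤ K'.map φ.toMonoidHom := by
        intro y hy
        exact ⟨φ.symm y, hVK' ((hφ _).mp (by rw [MulEquiv.apply_symm_apply]; exact hy)),
          φ.apply_symm_apply y⟩
      have h1 := card_map_mk'_mul V' (K'.map φ.toMonoidHom)
      have h2 := card_map_mk'_mul V' K'
      rw [inf_of_le_right hle] at h1
      rw [inf_of_le_right hVK'] at h2
      have h3 : Nat.card (K'.map φ.toMonoidHom) = Nat.card K' :=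
        card_map_of_injective φ.injective
      have h4 : Nat.card ((K'.map φ.toMonoidHom).map κ) = Nat.card (K'.map κ) := by
        have h5 : Nat.card V' * Nat.card ((K'.map φ.toMonoidHom).map κ) =
          Nat.card V' * Nat.card (K'.map κ) := by rw [hκ, h1, h2, h3]
        exact Nat.eq_of_mul_eq_mul_left Nat.card_pos h5
      rw [h4, hK', map_comap_eq_self_of_surjective hκs]
      exact pPrimeCore_coprime p _
    exact hmap ⟨_, ⟨x, hx, rfl⟩, rfl⟩
  refine ⟨V'.map H.subtype, K'.map H.subtype, inferInstance, inferInstance, map_mono hVK',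
    map_subtype_le _, (pCore_isPGroup p H).map _, ?_, ?_, ?_, ?_, rfl⟩
  · rw [relIndex_map_map_of_injective _ _ H.subtype_injective, hK', H2.relIndex_comap_mk']
    exact pPrimeCore_coprime p _
  · intro x hx hc
    have h1 : (⟨x, hx⟩ : H) ∈ centralizer (V' : Set H) := by
      rw [mem_centralizer_iff]
      intro v hv
      exact Subtype.ext (mem_centralizer_iff.mp hc v ⟨v, hv, rfl⟩)
    exact ⟨_, centralizer_pCore_le hs p hO h1, rfl⟩
  · intro x hx hc
    have h1 : κ ⟨x, hx⟩ ∈ centralizer (pPrimeCore p (H ⧸ V') : Set (H ⧸ V')) := by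
      rw [mem_centralizer_iff]
      intro k hk
      obtain ⟨k, rfl⟩ := hκs k
      obtain ⟨v, hv, hvk⟩ := hc k ⟨k, hk, rfl⟩
      have h2 : v = ⁅(⟨x, hx⟩ : H), k⁆ := Subtype.ext hvk
      have h3 : κ ⁅(⟨x, hx⟩ : H), k⁆ = 1 := by rw [hκ1, ← h2]; exact hv
      rw [map_commutatorElement, commutatorElement_eq_one_iff_mul_comm] at h3
      exact h3.symm
    have h2 := centralizer_pPrimeCore_le hs' (pCore_quotient_eq_bot p) h1
    exact ⟨⟨x, hx⟩, h2, rfl⟩
  · intro T hT hTn hTp x hx
    have h1 : (T.subgroupOf H).Normal := normal_subgroupOf' hTn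
    have h2 := le_pCore h1 (hTp.of_equiv (subgroupOfEquivOfLe hT).symm)
    exact ⟨⟨x, hT hx⟩, h2 hx, rfl⟩

/-- an invariant complement, with the Frattini argument -/
theorem compl36 {V K R : Subgroup G} [hV : V.Normal] [hK : K.Normal] (hVK : V ≤ K)
    (hVp : IsPGroup p V) (hi : (V.relIndex K).Coprime p) (hcop : (Nat.card R).Coprime (Nat.card K)) :
    ∃ D : Subgroup G, D ≤ K ∧ V ⊓ D = ⊥ ∧ V ⊔ D = K ∧ (Nat.card D).Coprime p ∧
      R ≤ normalizer (D : Set G) ∧ ∀ x : G, ∃ v ∈ V, v * x ∈ normalizer (D : Set G) := by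
  have hVs : Group.IsSolvable V := H23.isSolvable_of_isPGroup hVp
  obtain ⟨n, hn⟩ := IsPGroup.iff_card.mp hVp
  obtain ⟨D', hD'⟩ := exists_right_complement'_of_coprime (N := V.subgroupOf K) (by
    rw [card_subgroupOf hVK, hn]
    exact Nat.Coprime.pow_left n hi.symm)
  have hD'c : Nat.card D' = V.relIndex K := by
    have h1 := hD'.card_mul
    rw [card_subgroupOf hVK, ← card_mul_relIndex hVK] at h1
    exact Nat.eq_of_mul_eq_mul_left Nat.card_pos h1
  set D₀ : Subgroup G := D'.map K.subtype with hD₀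
  have hD₀K : D₀ ≤ K := map_subtype_le _
  have hD₀c : Nat.card D₀ = V.relIndex K := by rw [hD₀, card_map_subtype, hD'c]
  have hD₀sup : V ⊔ D₀ = K := by
    apply le_antisymm (sup_le hVK hD₀K)
    intro x hx
    have h1 : (⟨x, hx⟩ : K) ∈ V.subgroupOf K ⊔ D' := by rw [hD'.sup_eq_top]; trivial
    obtain ⟨v, hv, d, hd, h2⟩ := mem_sup_of_normal_left.mp h1
    have h3 := congrArg Subtype.val h2
    have h4 : (v : G) * d = x := h3
    rw [← h4]
    exact mul_mem (mem_sup_left hv) (mem_sup_right ⟨d, hd, rfl⟩)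
  have hcopVD : (Nat.card D₀).Coprime (Nat.card V) := by
    rw [hD₀c, hn]; exact Nat.Coprime.pow_right n hi
  have hconj : ∀ B : Subgroup G, B ≤ K → Nat.card B = V.relIndex K →
      ∃ g ∈ V, MulAut.conj g • B = D₀ := by
    intro B hB hBc
    exact H23.sz_conj_ambient (A := D₀) (G := V) (by rw [normalizer_eq_top]; exact le_top) hcopVD
      (Or.inr hVs) (by rw [hD₀sup]; exact hB) (by rw [hBc, hD₀c])
  have hKc : ∀ g : G, ∀ B : Subgroup G, B ≤ K → MulAut.conj g • B ≤ K := by
    intro g B hB x hx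
    rw [mem_conj_smul] at hx
    have := hK.conj_mem _ (hB hx) g
    have e : g * (g⁻¹ * x * g) * g⁻¹ = x := by group
    rwa [e] at this
  obtain ⟨g, hg, hgR⟩ := H23.exists_conj_invariant (A := R) (G := V)
    (by rw [normalizer_eq_top]; exact le_top)
    (Nat.Coprime.coprime_dvd_right (card_dvd_of_le hVK) hcop) (Or.inr hVs) D₀ (by
      intro a ha
      obtain ⟨g, hg, h1⟩ := hconj (MulAut.conj a • D₀) (hKc a D₀ hD₀K) (by
        rw [card_conj_smul, hD₀c])
      refine ⟨g⁻¹, inv_mem hg, ?_⟩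
      calc MulAut.conj a • D₀ = MulAut.conj (g⁻¹ * g) • MulAut.conj a • D₀ := by
            rw [inv_mul_cancel, conj_one_smul]
        _ = MulAut.conj g⁻¹ • D₀ := by rw [← conj_smul_smul g⁻¹ g, h1])
  refine ⟨MulAut.conj g • D₀, hKc g D₀ hD₀K, ?_, ?_, ?_, hgR, ?_⟩
  · apply inf_eq_bot_of_card_coprime
    rw [card_conj_smul]
    exact hcopVD.symm
  · have h1 : MulAut.conj g • K = K := mem_normalizer_iff_conj_smul.mp (by
      rw [normalizer_eq_top]; trivial)
    have h2 : MulAut.conj g • V = V := mem_normalizer_iff_conj_smul.mp (by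
      rw [normalizer_eq_top]; trivial)
    conv_rhs => rw [← h1, ← hD₀sup]
    rw [smul_sup, h2]
  · rw [card_conj_smul, hD₀c]; exact hi
  · intro x
    obtain ⟨w, hw, h1⟩ := hconj (MulAut.conj x • MulAut.conj g • D₀)
      (hKc x _ (hKc g D₀ hD₀K)) (by rw [card_conj_smul, card_conj_smul, hD₀c])
    refine ⟨g * w, mul_mem hg hw, ?_⟩
    rw [mem_normalizer_iff_conj_smul, ← conj_smul_smul (g * w) x, ← conj_smul_smul g w, h1]

theorem plen_of_surjective {Q : Type*} [Group Q] [Finite Q] (f : G →* Q)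
    (hf : Function.Surjective f) (hk : (Nat.card f.ker).Coprime p) (h : PLengthLE p 1 Q) :
    PLengthLE p 1 G := by
  rw [OOT.plength_one_iff] at h
  haveI := H10.pPrimePCore_normal p Q
  haveI := pPrimeCore_normal p Q
  refine OOT.plength_one_of (N₁ := (pPrimeCore p Q).comap f) (N₂ := (pPrimePCore p Q).comap f)
    inferInstance inferInstance ?_ ?_ ?_
  · have h1 : Nat.card ((pPrimeCore p Q).comap f) = Nat.card f.ker * Nat.card (pPrimeCore p Q) := by
      have h2 := card_mul_relIndex (ker_le_comap f (pPrimeCore p Q))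
      rw [relIndex_ker, map_comap_eq_self_of_surjective hf] at h2
      exact h2.symm
    rw [h1]
    exact Nat.Coprime.mul_left hk (pPrimeCore_coprime p Q)
  · obtain ⟨m, hm⟩ := OOT.relIndex_pPrimeCore_pPrimePCore p Q
    refine ⟨m, ?_⟩
    rw [relIndex_comap, map_comap_eq_self_of_surjective hf, hm]
  · rw [index_comap_of_surjective _ hf]
    exact h

end Gen

end Cfsg.Agent.H1
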