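import Cfsg.Agent.H1.BG36N
import Cfsg.Agent.OOT.Base

/-!
# Bender–Glauberman Theorem 3.8 (helper1)
-/

set_option autoImplicit false

namespace Cfsg.Agent.H1

open Subgroup Cfsg
open scoped commutatorElement Pointwise

universe u v w

variable {X : Type u} [Group X] [Finite X]

/-- BG 3.4 for `p`-groups -/
theorem bg34_pgroup {ℓ : ℕ} [hℓ : Fact ℓ.Prime] {V K : Subgroup X} [hVn : V.Normal] {ρ : X} {r : ℕ}
    (hr : r.Prime) (hr2 : r ≠ 2) (hV : IsPGroup ℓ V) (hρK : ρ ∈ normalizer (K : Set X))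
    (hρr : ρ ^ r = 1) (hrℓ : r ≠ ℓ) (hrK : ¬ r ∣ Nat.card K) (hodd : Odd (Nat.card K))
    (hs : Group.IsSolvable K) (hKℓ : ¬ ℓ ∣ Nat.card K)
    (hfix : ∀ v ∈ V, Commute ρ v → v = 1) : ∀ x ∈ K, ⁅x, ρ⁆ ∈ centralizer (V : Set X) := by
  set W : Subgroup X := (frattini V).map V.subtype with hW
  have hWV : W ≤ V := map_subtype_le _
  haveI : W.Normal := inferInstance
  set κ := QuotientGroup.mk' W with hκ
  have hκs : Function.Surjective κ := QuotientGroup.mk'_surjective W
  have hκ1 : ∀ y : X, κ y = 1 ↔ y ∈ W := fun y => QuotientGroup.eq_one_iff y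
  haveI : (V.map κ).Normal := hVn.map κ hκs
  have hcopW : r.Coprime (Nat.card W) := by
    obtain ⟨k, hk⟩ := IsPGroup.iff_card.mp (hV.to_le hWV)
    rw [hk]
    exact Nat.Coprime.pow_right k ((Nat.coprime_primes hr hℓ.out).mpr hrℓ)
  have hVea : Cfsg.IsElementaryAbelian ℓ (V.map κ) := by
    refine ⟨⟨⟨?_⟩⟩, ?_⟩
    · rintro ⟨_, x, hx, rfl⟩ ⟨_, y, hy, rfl⟩
      apply Subtype.ext
      show κ x * κ y = κ y * κ x
      rw [← commutatorElement_eq_one_iff_mul_comm, ← map_commutatorElement, hκ1]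
      exact ⟨⁅(⟨x, hx⟩ : V), ⟨y, hy⟩⁆, H2.commutator_le_frattini hV
        (commutator_mem_commutator (mem_top _) (mem_top _)), rfl⟩
    · rintro _ ⟨x, hx, rfl⟩
      rw [← map_pow, hκ1]
      exact ⟨(⟨x, hx⟩ : V) ^ ℓ, H2.pow_mem_frattini hV _, rfl⟩
  have hρK' : κ ρ ∈ normalizer ((K.map κ : Subgroup (X ⧸ W)) : Set (X ⧸ W)) := by
    rw [mem_normalizer_iff_conj_smul]
    apply le_antisymm
    · rintro _ ⟨_, ⟨x, hx, rfl⟩, rfl⟩
      exact ⟨ρ * x * ρ⁻¹, (mem_normalizer_iff.mp hρK x).mp hx, by simp⟩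
    · rintro _ ⟨x, hx, rfl⟩
      refine ⟨κ (ρ⁻¹ * x * ρ), ⟨_, ?_, rfl⟩, by simp [mul_assoc]⟩
      have := (mem_normalizer_iff.mp (inv_mem hρK) x).mp hx
      rwa [inv_inv] at this
  have hdvd : Nat.card (K.map κ) ∣ Nat.card K := card_map_dvd _ _
  have key := bg34 (V := V.map κ) (K := K.map κ) (ρ := κ ρ) hr hr2 hVea
    (by rw [normalizer_eq_top]; exact le_top) (by rw [normalizer_eq_top]; trivial) hρK'
    (by rw [← map_pow, hρr, map_one]) hrℓ
    ((hr.coprime_iff_not_dvd.mpr fun h => hrK (h.trans hdvd)).symm) (Odd.of_dvd_nat hodd hdvd)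
    (isSolvable_map _ hs) (fun h => hKℓ (h.trans hdvd)) (by
      rintro _ ⟨v, hv, rfl⟩ hc
      have h1 : v⁻¹ * ρ * v * ρ⁻¹ ∈ W := by
        rw [← hκ1]
        simp only [map_mul, map_inv]
        rw [mul_assoc ((κ v)⁻¹), hc]
        group
      obtain ⟨n, hn, hcn⟩ := exists_mem_centralizer_of_comm hρr
        (by rw [normalizer_eq_top]; trivial : ρ ∈ normalizer (W : Set X)) hcopW h1
      have h2 := hfix (v * n) (mul_mem hv (hWV hn)) hcn
      rw [hκ1]
      rw [mul_eq_one_iff_eq_inv] at h2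
      rw [h2]; exact inv_mem hn)
  intro x hx
  have h1 : ⁅x, ρ⁆ ∈ K := by
    have h3 := mul_mem hx ((mem_normalizer_iff.mp hρK _).mp (inv_mem hx))
    have e : x * (ρ * x⁻¹ * ρ⁻¹) = ⁅x, ρ⁆ := by rw [commutatorElement_def]; group
    rwa [e] at h3
  set y := ⁅x, ρ⁆ with hy
  have h2 : κ y ∈ centralizer ((V.map κ : Subgroup (X ⧸ W)) : Set (X ⧸ W)) := by
    rw [hy, map_commutatorElement]
    exact key (κ x) ⟨x, hx, rfl⟩
  have h3 : ⁅V, zpowers y⁆ ≤ W := by
    rw [commutator_le]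
    intro v hv z hz
    obtain ⟨k, rfl⟩ := mem_zpowers_iff.mp hz
    rw [← hκ1, map_commutatorElement, commutatorElement_eq_one_iff_mul_comm]
    have h5 : κ (y ^ k) ∈ centralizer ((V.map κ : Subgroup (X ⧸ W)) : Set (X ⧸ W)) := by
      rw [map_zpow]; exact zpow_mem h2 k
    exact mem_centralizer_iff.mp h5 (κ v) ⟨v, hv, rfl⟩
  have hcop : (Nat.card (zpowers y)).Coprime (Nat.card V) := by
    obtain ⟨k, hk⟩ := IsPGroup.iff_card.mp hV
    rw [hk]
    apply Nat.Coprime.pow_right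
    refine Nat.Coprime.coprime_dvd_left (card_dvd_of_le (by rw [zpowers_le]; exact h1)) ?_
    exact (hℓ.out.coprime_iff_not_dvd.mpr hKℓ).symm
  have h4 := H23.le_centralizer_of_commutator_le_frattini (A := zpowers y) (G := V)
    (by rw [normalizer_eq_top]; exact le_top) hcop (Or.inr (H23.isSolvable_of_isPGroup hV)) h3
  exact le_centralizer_iff.mp h4 (mem_zpowers y)

/-- BG 3.4 for nilpotent groups -/
theorem bg34_nilp {W K : Subgroup X} [hWn : W.Normal] {ρ : X} {r : ℕ}
    (hr : r.Prime) (hr2 : r ≠ 2) (hW : Group.IsNilpotent W) (hρK : ρ ∈ normalizer (K : Set X))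
    (hρr : ρ ^ r = 1) (hrW : ¬ r ∣ Nat.card W) (hrK : ¬ r ∣ Nat.card K) (hodd : Odd (Nat.card K))
    (hs : Group.IsSolvable K) (hcop : (Nat.card K).Coprime (Nat.card W))
    (hfix : ∀ v ∈ W, Commute ρ v → v = 1) : ∀ x ∈ K, ⁅x, ρ⁆ ∈ centralizer (W : Set X) := by
  intro x hx
  have key : W ≤ centralizer ({⁅x, ρ⁆} : Set X) := by
    apply H23.le_of_forall_isSylowOf_le
    intro p hp
    obtain ⟨S⟩ : Nonempty (Sylow p W) := inferInstance
    have hSn := isNilpotent_iff_sylow_normal.mp hW p hp S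
    haveI := Sylow.characteristic_of_normal S hSn
    refine ⟨(S : Subgroup W).map W.subtype, ⟨S, rfl⟩, ?_⟩
    set P : Subgroup X := (S : Subgroup W).map W.subtype with hP
    have hPW : P ≤ W := map_subtype_le _
    have hPp : IsPGroup p P := S.isPGroup'.map _
    by_cases hne : P = ⊥
    · rw [hne]; exact bot_le
    have hpP : p ∣ Nat.card P := by
      obtain ⟨n, hn⟩ := IsPGroup.iff_card.mp hPp
      rcases Nat.eq_zero_or_pos n with h0 | h0
      · rw [h0, pow_zero] at hn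
        exact absurd (card_eq_one.mp hn) hne
      · rw [hn]; exact dvd_pow_self p h0.ne'
    have hpW : p ∣ Nat.card W := hpP.trans (card_dvd_of_le hPW)
    haveI : P.Normal := inferInstance
    have h1 := bg34_pgroup (V := P) hr hr2 hPp hρK hρr (by rintro rfl; exact hrW hpW) hrK hodd hs
      (fun h => by
        have h2 := Nat.dvd_gcd h hpW
        rw [hcop.gcd_eq_one] at h2
        exact hp.out.one_lt.ne' (Nat.dvd_one.mp h2))
      (fun v hv hc => hfix v (hPW hv) hc) x hx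
    intro z hz
    rw [mem_centralizer_singleton_iff]
    exact mem_centralizer_iff.mp h1 z hz
  rw [mem_centralizer_iff]
  intro z hz
  have := key hz
  rw [mem_centralizer_singleton_iff] at this
  exact this

/-- in a nilpotent group `O_{q'}` has `q`-power index -/
theorem index_pPrimeCore_of_nilpotent {F : Type*} [Group F] [Finite F] (hF : Group.IsNilpotent F)
    {q : ℕ} [hq : Fact q.Prime] : ∃ m, (pPrimeCore q F).index = q ^ m := by
  have h1 : pCore q F ⊔ pPrimeCore q F = ⊤ := by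
    rw [eq_top_iff]
    have h2 : fittingSubgroup F = ⊤ := by
      rw [eq_top_iff]
      exact le_fitting inferInstance (Group.nilpotent_of_mulEquiv (topEquiv (G := F)).symm)
    rw [← h2, fitting_eq_iSup_pCore]
    exact iSup_pCore_eq_sup q
  have h2 : (pPrimeCore q F).index ∣ Nat.card (pCore q F) := by
    haveI := pPrimeCore_normal q F
    rw [← relIndex_top_right, ← h1, relIndex_sup_right]
    exact relIndex_dvd_card _ _
  obtain ⟨n, hn⟩ := IsPGroup.iff_card.mp (pCore_isPGroup q F)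
  rw [hn] at h2
  obtain ⟨m, -, hm⟩ := (Nat.dvd_prime_pow hq.out).mp h2
  exact ⟨m, hm⟩

theorem bg38_aux {K : Subgroup X} [hKn : K.Normal] {ρ : X} {r : ℕ} (hr : r.Prime) (hr2 : r ≠ 2)
    (hs : Group.IsSolvable K) (hodd : Odd (Nat.card K)) (hρr : ρ ^ r = 1) (hrK : ¬ r ∣ Nat.card K)
    (hfix : ∀ v ∈ fittingOf K, Commute ρ v → v = 1) {q : ℕ} [hq : Fact q.Prime] {L : Subgroup X}
    [hLn : L.Normal] (hFL : fittingOf K ≤ L) (hLK : L ≤ K)
    (hm : ∃ m, (fittingOf K).relIndex L = q ^ m) : ∀ x ∈ L, ⁅x, ρ⁆ ∈ fittingOf K := by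
  set F := fittingOf K with hF
  have hFK : F ≤ K := OOT.fittingOf_le K
  haveI hFn : F.Normal := by
    rw [← normalizer_eq_top_iff, eq_top_iff, ← normalizer_eq_top_iff.mpr hKn]
    exact OOT.normalizer_le_normalizer_fittingOf K
  have hFnil : Group.IsNilpotent F := OOT.fittingOf_nilpotent K
  set W : Subgroup X := (pPrimeCore q F).map F.subtype with hW
  have hWF : W ≤ F := map_subtype_le _
  haveI hWn : W.Normal := inferInstance
  have hWq : (Nat.card W).Coprime q := by rw [hW, card_map_subtype]; exact pPrimeCore_coprime q F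
  have hWi : ∃ m, W.relIndex F = q ^ m := by
    obtain ⟨m, hm⟩ := index_pPrimeCore_of_nilpotent (q := q) hFnil
    refine ⟨m, ?_⟩
    rw [← hm, relIndex, hW, subgroupOf, comap_map_eq_self_of_injective F.subtype_injective]
  have hWL : ∃ m, W.relIndex L = q ^ m := by
    obtain ⟨a, ha⟩ := hWi
    obtain ⟨b, hb⟩ := hm
    refine ⟨a + b, ?_⟩
    rw [← relIndex_mul_relIndex W F L hWF hFL, ha, hb, pow_add]
  have hWnil : Group.IsNilpotent W := isNilpotent_of_le hWF hFnil
  have hLs : Group.IsSolvable L := isSolvable_of_le hLK hs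
  have hzL : zpowers ρ ≤ normalizer (L : Set X) := by rw [normalizer_eq_top]; exact le_top
  have hcopz : (Nat.card (zpowers ρ)).Coprime (Nat.card L) := by
    rw [Nat.card_zpowers]
    refine Nat.Coprime.coprime_dvd_left (orderOf_dvd_of_pow_eq_one hρr) ?_
    rw [hr.coprime_iff_not_dvd]
    exact fun h => hrK (h.trans (card_dvd_of_le hLK))
  obtain ⟨Q, hQ, hQρ⟩ := H23.exists_invariant_sylow hzL hcopz (Or.inr hLs) q
  have hρQ : ρ ∈ normalizer (Q : Set X) := hQρ (mem_zpowers ρ)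
  have hQL := hQ.le
  have hQodd : Odd (Nat.card Q) := Odd.of_dvd_nat hodd (card_dvd_of_le (hQL.trans hLK))
  have hcQ := bg34_nilp (W := W) (K := Q) hr hr2 hWnil hρQ hρr
    (fun h => hrK (h.trans (card_dvd_of_le (hWF.trans hFK))))
    (fun h => hrK (h.trans (card_dvd_of_le (hQL.trans hLK)))) hQodd
    (H23.isSolvable_of_isPGroup hQ.isPGroup)
    (by
      obtain ⟨n, hn⟩ := IsPGroup.iff_card.mp hQ.isPGroup
      rw [hn]
      exact Nat.Coprime.pow_left n hWq.symm)
    (fun v hv hc => hfix v (hWF hv) hc)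
  -- `C_L(W)` is nilpotent
  set C : Subgroup X := L ⊓ centralizer (W : Set X) with hC
  haveI : C.Normal := by rw [hC]; infer_instance
  have hCnil : Group.IsNilpotent C := by
    set f := (QuotientGroup.mk' W).comp C.subtype with hf
    have hfr : IsPGroup q f.range := by
      rw [IsPGroup.iff_card]
      have h1 : Nat.card f.range = W.relIndex C := by
        rw [← index_ker f]
        have : f.ker = W.subgroupOf C := by
          ext x
          rw [MonoidHom.mem_ker, mem_subgroupOf]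
          exact QuotientGroup.eq_one_iff (x : X)
        rw [this]; rfl
      obtain ⟨m, hm⟩ := hWL
      have h2 : W.relIndex C ∣ q ^ m := by
        have h3 := relIndex_mul_relIndex W (C ⊔ W) L le_sup_right
          (sup_le inf_le_left (hWF.trans hFL))
        rw [relIndex_sup_right, hm] at h3
        exact Dvd.intro _ h3
      obtain ⟨k, -, hk⟩ := (Nat.dvd_prime_pow hq.out).mp h2
      exact ⟨k, by rw [h1, hk]⟩
    haveI := hfr.isNilpotent
    refine _root_.Subgroup.isNilpotent_of_ker_le_center f.rangeRestrict ?_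
    intro x hx
    rw [MonoidHom.ker_rangeRestrict, MonoidHom.mem_ker] at hx
    have hxW : (x : X) ∈ W := (QuotientGroup.eq_one_iff (x : X)).mp hx
    rw [mem_center_iff]
    intro y
    apply Subtype.ext
    exact (mem_centralizer_iff.mp (mem_inf.mp y.2).2 x hxW).symm
  have hCF : C ≤ F := OOT.le_fittingOf (inf_le_left.trans hLK)
    (by rw [normalizer_eq_top]; exact le_top) hCnil
  have hcommQ : ∀ x ∈ Q, ⁅x, ρ⁆ ∈ F := by
    intro x hx
    apply hCF
    refine mem_inf.mpr ⟨?_, hcQ x hx⟩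
    have h3 := mul_mem (hQL hx) (hLn.conj_mem _ (inv_mem (hQL hx)) ρ)
    have e : x * (ρ * x⁻¹ * ρ⁻¹) = ⁅x, ρ⁆ := by rw [commutatorElement_def]; group
    rwa [e] at h3
  -- `L = F Q`
  have hLFQ : L ≤ F ⊔ Q := by
    rw [← relIndex_eq_one]
    obtain ⟨m, hm⟩ := hm
    have h1 : (F ⊔ Q).relIndex L ∣ q ^ m := by
      have := relIndex_mul_relIndex F (F ⊔ Q) L le_sup_left (sup_le hFL hQL)
      rw [hm] at this
      exact Dvd.intro_left _ this
    have h2 : (F ⊔ Q).relIndex L ∣ Q.relIndex L := relIndex_dvd_of_le_left _ le_sup_right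
    have h3 : (Q.relIndex L).Coprime q := by
      rw [Nat.coprime_comm, hq.out.coprime_iff_not_dvd]; exact hQ.not_dvd
    exact Nat.Coprime.eq_one_of_dvd (Nat.Coprime.coprime_dvd_left h2 (Nat.Coprime.pow_right m h3)) h1
  intro x hx
  obtain ⟨f, hf, y, hy, rfl⟩ := mem_sup_of_normal_left.mp (hLFQ hx)
  have h1 : ⁅f * y, ρ⁆ = f * ⁅y, ρ⁆ * f⁻¹ * (f * (ρ * f⁻¹ * ρ⁻¹)) := by
    rw [commutatorElement_def, commutatorElement_def]; group
  rw [h1]
  exact mul_mem (hFn.conj_mem _ (hcommQ y hy) f)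
    (mul_mem hf (hFn.conj_mem _ (inv_mem hf) ρ))

theorem bg38_prime {K : Subgroup X} [hKn : K.Normal] {ρ : X} {r : ℕ} (hr : r.Prime) (hr2 : r ≠ 2)
    (hs : Group.IsSolvable K) (hodd : Odd (Nat.card K)) (hρr : ρ ^ r = 1) (hrK : ¬ r ∣ Nat.card K)
    (hfix : ∀ v ∈ fittingOf K, Commute ρ v → v = 1) : ⁅K, zpowers ρ⁆ ≤ fittingOf K := by
  set F := fittingOf K with hF
  have hFK : F ≤ K := OOT.fittingOf_le K
  haveI hFn : F.Normal := by
    rw [← normalizer_eq_top_iff, eq_top_iff, ← normalizer_eq_top_iff.mpr hKn]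
    exact OOT.normalizer_le_normalizer_fittingOf K
  set κ := QuotientGroup.mk' F with hκ
  have hκs : Function.Surjective κ := QuotientGroup.mk'_surjective F
  have hκ1 : ∀ y : X, κ y = 1 ↔ y ∈ F := fun y => QuotientGroup.eq_one_iff y
  set K' := K.map κ with hK'
  haveI hK'n : K'.Normal := hKn.map κ hκs
  have hK's : Group.IsSolvable K' := isSolvable_map _ hs
  have hKcomap : K'.comap κ = K := by
    rw [hK', comap_map_eq, hκ, QuotientGroup.ker_mk', sup_eq_left]
    exact hFK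
  set E := fittingOf K' with hE
  have hE1 : E ≤ centralizer ({κ ρ} : Set (X ⧸ F)) := by
    rw [hE, fittingOf, fitting_eq_iSup_pCore, Subgroup.map_iSup]
    refine iSup_le fun q => ?_
    haveI : Fact (q : ℕ).Prime := ⟨q.2⟩
    set Eq : Subgroup (X ⧸ F) := (pCore (q : ℕ) K').map K'.subtype with hEq
    haveI : Eq.Normal := inferInstance
    have hEqK : Eq ≤ K' := map_subtype_le _
    have h1 := bg38_aux (K := K) hr hr2 hs hodd hρr hrK hfix (q := q) (L := Eq.comap κ)
      (le_comap_mk' F Eq) (by rw [← hKcomap]; exact comap_mono hEqK) (by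
        rw [← hF, H2.relIndex_comap_mk']
        exact IsPGroup.iff_card.mp ((pCore_isPGroup (q : ℕ) K').map _))
    intro y hy
    obtain ⟨x, rfl⟩ := hκs y
    have h2 := h1 x hy
    rw [← hF, ← hκ1, map_commutatorElement, commutatorElement_eq_one_iff_mul_comm] at h2
    rw [mem_centralizer_singleton_iff]
    exact h2
  have hEn : K' ≤ normalizer (E : Set (X ⧸ F)) := OOT.le_normalizer_fittingOf K'
  have hE2 : E ≤ centralizer ((zpowers (κ ρ) : Subgroup (X ⧸ F)) : Set (X ⧸ F)) := by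
    rw [zpowers_eq_closure, centralizer_closure]
    exact hE1
  have hzK : zpowers (κ ρ) ≤ normalizer (K' : Set (X ⧸ F)) := by
    rw [normalizer_eq_top]; exact le_top
  have h1 : ⁅K', zpowers (κ ρ)⁆ ≤ K' := H23.commutator_le_of_le_normalizer hzK
  have h2 : ⁅⁅K', zpowers (κ ρ)⁆, E⁆ = ⊥ := by
    apply commutator_commutator_eq_bot_of_rotate
    · rw [commutator_comm (zpowers (κ ρ)) E, commutator_eq_bot_iff_le_centralizer.mpr hE2,
        commutator_bot_left]
    · rw [eq_bot_iff]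
      refine (commutator_mono (H23.commutator_le_of_le_normalizer hEn) le_rfl).trans ?_
      rw [commutator_eq_bot_iff_le_centralizer.mpr hE2]
  rw [commutator_eq_bot_iff_le_centralizer] at h2
  have h3 : ⁅K', zpowers (κ ρ)⁆ ≤ E := fun x hx =>
    OOT.centralizer_fittingOf_le hK's (mem_inf.mpr ⟨h1 hx, h2 hx⟩)
  have h4 : K' ≤ centralizer ((zpowers (κ ρ) : Subgroup (X ⧸ F)) : Set (X ⧸ F)) := by
    refine H23.le_centralizer_of_commutator_le hzK ?_ h3 hE2
    rw [Nat.card_zpowers]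
    refine Nat.Coprime.coprime_dvd_left (orderOf_dvd_of_pow_eq_one
      (by rw [← map_pow, hρr, map_one] : (κ ρ) ^ r = 1)) ?_
    rw [hr.coprime_iff_not_dvd]
    exact fun h => hrK (h.trans (card_map_dvd _ _))
  rw [commutator_le]
  intro x hx y hy
  rw [← hκ1, map_commutatorElement, commutatorElement_eq_one_iff_mul_comm]
  obtain ⟨k, rfl⟩ := mem_zpowers_iff.mp hy
  exact (mem_centralizer_iff.mp (h4 ⟨x, hx, rfl⟩) (κ (ρ ^ k)) (by
    rw [map_zpow]; exact zpow_mem (mem_zpowers _) k)).symm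

end Cfsg.Agent.H1
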