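import Cfsg.Agent.H3.Core1
import Cfsg.Agent.H13.Burnside
import Mathlib

/-!
# Bender–Glauberman section 3, linear algebra part (helper1)

`ext_core`: a group `K⟨ρ⟩` acting irreducibly, `K` of class two with `C_K(ρ) = Z(K)`; if the
element `ρ` of prime order `r` has no fixed vectors, then `r = D + 1` with `D ^ 2 = |K : Z(K)|`.
-/

set_option autoImplicit false

namespace Cfsg.Agent.H1

open Subgroup
open scoped commutatorElement

universe u v

section Linear

variable {F : Type*} [Field F] {G : Type u} [Group G] {V : Type v} [AddCommGroup V] [Module F V]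

theorem schur_scalar_alg [IsAlgClosed F] [FiniteDimensional F V] (π : Representation F G V)
    [π.IsIrreducible] (T : V →ₗ[F] V)
    (hT : ∀ g, T * π g = π g * T) : ∃ c : F, T = c • (1 : V →ₗ[F] V) := by
  let T' : Representation.IntertwiningMap π π := ⟨T, fun g => hT g⟩
  obtain ⟨c, hc⟩ := (Representation.IsIrreducible.algebraMap_intertwiningMap_bijective_of_isAlgClosed
    (ρ := π)).2 T'
  refine ⟨c, ?_⟩
  have := congrArg (fun x : Representation.IntertwiningMap π π => x.toLinearMap) hc
  rw [Representation.IntertwiningMap.algebraMap_apply] at this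
  exact this.symm

/-- averaging over a subgroup -/
noncomputable def avg (π : Representation F G V) (K : Subgroup G) [Fintype K] :
    (V →ₗ[F] V) →ₗ[F] (V →ₗ[F] V) where
  toFun := fun T => ∑ d : K, π d * T * π (d : G)⁻¹
  map_add' := fun S T => by
      simp only [mul_add, add_mul, Finset.sum_add_distrib]
  map_smul' := fun c T => by
      simp only [mul_smul_comm, smul_mul_assoc, Finset.smul_sum, RingHom.id_apply]

theorem avg_apply (π : Representation F G V) (K : Subgroup G) [Fintype K]
    (T : V →ₗ[F] V) : avg π K T = ∑ d : K, π d * T * π (d : G)⁻¹ := rfl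

theorem pi_mul_inv (π : Representation F G V) (g : G) : π g * π g⁻¹ = 1 := by
  rw [← map_mul, mul_inv_cancel, map_one]

theorem pi_inv_mul (π : Representation F G V) (g : G) : π g⁻¹ * π g = 1 := by
  rw [← map_mul, inv_mul_cancel, map_one]

theorem avg_conj (π : Representation F G V) (K : Subgroup G) [Fintype K] {k : G} (hk : k ∈ K)
    (T : V →ₗ[F] V) : avg π K (π k * T * π k⁻¹) = avg π K T := by
  rw [avg_apply, avg_apply]
  refine Fintype.sum_equiv (Equiv.mulRight (⟨k, hk⟩ : K)) _ _ fun d => ?_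
  show π d * (π k * T * π k⁻¹) * π (d : G)⁻¹ = π ((d : G) * k) * T * π ((d : G) * k)⁻¹
  rw [mul_inv_rev, map_mul, map_mul]
  simp only [mul_assoc]

theorem avg_comm (π : Representation F G V) (K : Subgroup G) [Fintype K] {k : G} (hk : k ∈ K)
    (T : V →ₗ[F] V) : π k * avg π K T * π k⁻¹ = avg π K T := by
  rw [avg_apply, Finset.mul_sum, Finset.sum_mul]
  refine Fintype.sum_equiv (Equiv.mulLeft (⟨k, hk⟩ : K)) _ _ fun d => ?_
  show π k * (π d * T * π (d : G)⁻¹) * π k⁻¹ = π (k * (d : G)) * T * π (k * (d : G))⁻¹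
  rw [mul_inv_rev, map_mul, map_mul]
  simp only [mul_assoc]

theorem avg_comm' (π : Representation F G V) (K : Subgroup G) [Fintype K] {k : G} (hk : k ∈ K)
    (T : V →ₗ[F] V) : avg π K T * π k = π k * avg π K T := by
  have h := avg_comm π K hk T
  calc avg π K T * π k = π k * avg π K T * π k⁻¹ * π k := by rw [h]
    _ = π k * avg π K T := by rw [mul_assoc, pi_inv_mul, mul_one]

theorem avg_norm (π : Representation F G V) (K : Subgroup G) [hK : K.Normal] [Fintype K] (g : G)
    (T : V →ₗ[F] V) : avg π K (π g * T * π g⁻¹) = π g * avg π K T * π g⁻¹ := by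
  rw [avg_apply, avg_apply, Finset.mul_sum, Finset.sum_mul]
  refine Fintype.sum_equiv (MulAut.conjNormal g⁻¹ : K ≃* K).toEquiv _ _ fun d => ?_
  show π d * (π g * T * π g⁻¹) * π (d : G)⁻¹ =
    π g * (π ((MulAut.conjNormal g⁻¹ d : K) : G) * T * π ((MulAut.conjNormal g⁻¹ d : K) : G)⁻¹)
      * π g⁻¹
  rw [MulAut.conjNormal_apply]
  have e1 : π (g⁻¹ * (d : G) * g⁻¹⁻¹) = π g⁻¹ * π d * π g := by
    rw [map_mul, map_mul, inv_inv]
  have e2 : π (g⁻¹ * (d : G) * g⁻¹⁻¹)⁻¹ = π g⁻¹ * π (d : G)⁻¹ * π g := by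
    rw [mul_inv_rev, mul_inv_rev, inv_inv, inv_inv, map_mul, map_mul, mul_assoc]
  rw [e1, e2]
  calc π d * (π g * T * π g⁻¹) * π (d : G)⁻¹
      = 1 * π d * π g * T * π g⁻¹ * π (d : G)⁻¹ * 1 := by simp only [mul_assoc, one_mul, mul_one]
    _ = (π g * π g⁻¹) * π d * π g * T * π g⁻¹ * π (d : G)⁻¹ * (π g * π g⁻¹) := by
        rw [pi_mul_inv]
    _ = _ := by simp only [mul_assoc]

/-- the average of `π x` for `x` moved by a nontrivial scalar -/
theorem avg_eq_zero (π : Representation F G V) (K : Subgroup G) [Fintype K] {x d : G} (hd : d ∈ K)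
    {c : F} (hc : c ≠ 1) (h : π (d * x * d⁻¹) = c • π x) : avg π K (π x) = 0 := by
  have h1 := avg_conj π K hd (π x)
  rw [← map_mul, ← map_mul, h, map_smul] at h1
  have h2 : (c - 1) • avg π K (π x) = 0 := by rw [sub_smul, one_smul, h1, sub_self]
  rcases smul_eq_zero.mp h2 with h | h
  · exact absurd (sub_eq_zero.mp h) hc
  · exact h

theorem avg_central (π : Representation F G V) (K : Subgroup G) [Fintype K] {x : G}
    (h : ∀ d ∈ K, d * x = x * d) : avg π K (π x) = (Nat.card K : F) • π x := by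
  rw [avg_apply]
  have : ∀ d : K, π d * π x * π (d : G)⁻¹ = π x := by
    intro d
    rw [← map_mul, ← map_mul, h d d.2, mul_inv_cancel_right]
  rw [Finset.sum_congr rfl (fun d _ => this d), Finset.sum_const, Finset.card_univ,
    ← Nat.card_eq_fintype_card]
  exact (Nat.cast_smul_eq_nsmul F _ _).symm

/-- the subgroup of elements commuting with `T` -/
def commSub (π : Representation F G V) (T : V →ₗ[F] V) : Subgroup G where
  carrier := {g | T * π g = π g * T}
  mul_mem' := fun {a b} ha hb => by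
    show T * π (a * b) = π (a * b) * T
    rw [map_mul, ← mul_assoc, show T * π a = π a * T from ha, mul_assoc,
      show T * π b = π b * T from hb, mul_assoc]
  one_mem' := by show T * π 1 = π 1 * T; rw [map_one, mul_one, one_mul]
  inv_mem' := fun {a} ha => by
    show T * π a⁻¹ = π a⁻¹ * T
    have ha' : T * π a = π a * T := ha
    calc T * π a⁻¹ = (π a⁻¹ * π a) * T * π a⁻¹ := by rw [pi_inv_mul, one_mul]
      _ = π a⁻¹ * (π a * T) * π a⁻¹ := by simp only [mul_assoc]
      _ = π a⁻¹ * (T * π a) * π a⁻¹ := by rw [ha']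
      _ = π a⁻¹ * T * (π a * π a⁻¹) := by simp only [mul_assoc]
      _ = π a⁻¹ * T := by rw [pi_mul_inv, mul_one]

theorem mem_commSub {π : Representation F G V} {T : V →ₗ[F] V} {g : G} :
    g ∈ commSub π T ↔ T * π g = π g * T := Iff.rfl

/-- hypotheses of the extraspecial configuration -/
structure ExtCfg (π : Representation F G V) (K : Subgroup G) (ρ : G) (r : ℕ) : Prop where
  normal : K.Normal
  irr : π.IsIrreducible
  prime : r.Prime
  pow : ρ ^ r = 1
  gen : K ⊔ zpowers ρ = ⊤
  inj : ∀ x ∈ K, π x = 1 → x = 1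
  cardK : (Nat.card K : F) ≠ 0
  cardr : (r : F) ≠ 0
  cent : ∀ x ∈ K, x ∈ centralizer (K : Set G) → ρ * x = x * ρ
  fix : ∀ x ∈ K, ⁅x, ρ⁆ ∈ centralizer (K : Set G) → x ∈ centralizer (K : Set G)
  class2 : ⁅K, K⁆ ≤ centralizer (K : Set G)

namespace ExtCfg

variable [Finite G] [IsAlgClosed F] [FiniteDimensional F V]
variable {π : Representation F G V} {K : Subgroup G} {ρ : G} {r : ℕ}

theorem scalar (h : ExtCfg π K ρ r) {T : V →ₗ[F] V} (hK : K ≤ commSub π T)
    (hρ : ρ ∈ commSub π T) : ∃ c : F, T = c • (1 : V →ₗ[F] V) := by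
  haveI := h.irr
  have : commSub π T = ⊤ := by
    rw [← top_le_iff, ← h.gen]
    exact sup_le hK (by rw [zpowers_le]; exact hρ)
  exact schur_scalar_alg π T fun g => (this ▸ mem_top g : g ∈ commSub π T)

theorem nontriv (h : ExtCfg π K ρ r) : Nontrivial V := by
  haveI := h.irr
  by_contra hV
  rw [not_nontrivial_iff_subsingleton] at hV
  have hbt : (⊥ : Subrepresentation π) = ⊤ := by
    apply Subrepresentation.toSubmodule_injective
    exact Subsingleton.elim _ _
  exact bot_ne_top hbt

theorem comm_of_cent (h : ExtCfg π K ρ r) {z : G} (hz : z ∈ K) (hzc : z ∈ centralizer (K : Set G)) :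
    ∀ g : G, z * g = g * z := by
  intro g
  have : centralizer ({z} : Set G) = ⊤ := by
    rw [← top_le_iff, ← h.gen]
    refine sup_le ?_ ?_
    · intro k hk
      rw [mem_centralizer_singleton_iff]
      exact (mem_centralizer_iff.mp hzc k hk)
    · rw [zpowers_le, mem_centralizer_singleton_iff]
      exact h.cent z hz hzc
  have h2 : g ∈ centralizer ({z} : Set G) := this ▸ mem_top g
  rw [mem_centralizer_singleton_iff] at h2
  exact h2.symm

theorem scalar_of_cent (h : ExtCfg π K ρ r) {z : G} (hz : z ∈ K)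
    (hzc : z ∈ centralizer (K : Set G)) : ∃ c : F, π z = c • (1 : V →ₗ[F] V) := by
  have h1 := h.comm_of_cent hz hzc
  apply h.scalar
  · intro k _
    rw [mem_commSub, ← map_mul, ← map_mul, h1]
  · rw [mem_commSub, ← map_mul, ← map_mul, h1]

theorem one_ne_zero' (h : ExtCfg π K ρ r) : (1 : V →ₗ[F] V) ≠ 0 := by
  haveI := h.nontriv
  obtain ⟨v, hv⟩ := exists_ne (0 : V)
  intro h0
  have := LinearMap.congr_fun h0 v
  exact hv this

theorem avg_zero (h : ExtCfg π K ρ r) [Fintype K] {x : G} (hx : x ∈ K)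
    (hxc : x ∉ centralizer (K : Set G)) : avg π K (π x) = 0 := by
  rw [mem_centralizer_iff] at hxc
  push Not at hxc
  obtain ⟨d, hd, hdx⟩ := hxc
  have hdx1 : ⁅d, x⁆ ≠ 1 := by
    rw [ne_eq, commutatorElement_eq_one_iff_mul_comm]; exact hdx
  have hmem : ⁅d, x⁆ ∈ ⁅K, K⁆ := commutator_mem_commutator hd hx
  have hK : ⁅d, x⁆ ∈ K := commutator_le_self K hmem
  obtain ⟨c, hc⟩ := h.scalar_of_cent hK (h.class2 hmem)
  refine avg_eq_zero π K hd (c := c) ?_ ?_
  · rintro rfl
    rw [one_smul] at hc
    exact hdx1 (h.inj _ hK hc)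
  · have : d * x * d⁻¹ = ⁅d, x⁆ * x := by rw [commutatorElement_def]; group
    rw [this, map_mul, hc, smul_mul_assoc, one_mul]

theorem avg_self (h : ExtCfg π K ρ r) [Fintype K] {x : G}
    (hxc : x ∈ centralizer (K : Set G)) : avg π K (π x) = (Nat.card K : F) • π x :=
  avg_central π K fun d hd => mem_centralizer_iff.mp hxc d hd

/-- elements of `End V` commuting with `K` are scalars -/
theorem scalar' (h : ExtCfg π K ρ r) {T : V →ₗ[F] V} (hK : K ≤ commSub π T) :
    ∃ c : F, T = c • (1 : V →ₗ[F] V) := by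
  classical
  haveI := h.normal
  haveI : Fintype K := Fintype.ofFinite K
  obtain ⟨l, hl⟩ := h.scalar (T := avg π K (π ρ)) (fun k hk => avg_comm' π K hk _) (by
    have h1 := avg_norm π K ρ (π ρ)
    rw [← map_mul, ← map_mul, mul_inv_cancel_right] at h1
    rw [mem_commSub]
    conv_lhs => rw [h1]
    rw [mul_assoc, pi_inv_mul, mul_one])
  have hmul : avg π K (π ρ) * π ρ⁻¹ = ∑ d : K, π ⁅(d : G), ρ⁆ := by
    rw [avg_apply, Finset.sum_mul]
    refine Finset.sum_congr rfl fun d _ => ?_
    rw [← map_mul, ← map_mul, ← map_mul, commutatorElement_def]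
  have hcK : ∀ d : K, ⁅(d : G), ρ⁆ ∈ K := by
    intro d
    have : ⁅(d : G), ρ⁆ = (d : G) * (ρ * (d : G)⁻¹ * ρ⁻¹) := by rw [commutatorElement_def]; group
    rw [this]
    exact mul_mem d.2 (h.normal.conj_mem _ (inv_mem d.2) ρ)
  have hl0 : l ≠ 0 := by
    rintro rfl
    rw [zero_smul] at hl
    rw [hl, zero_mul] at hmul
    have h2 := congrArg (avg π K) hmul
    rw [map_zero, map_sum] at h2
    have h3 : ∀ d : K, avg π K (π ⁅(d : G), ρ⁆) =
        if (d : G) ∈ centralizer (K : Set G) then (Nat.card K : F) • (1 : V →ₗ[F] V) else 0 := by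
      intro d
      split_ifs with hd
      · have : ⁅(d : G), ρ⁆ = 1 := by
          rw [commutatorElement_eq_one_iff_mul_comm]
          exact (h.cent d d.2 hd).symm
        rw [this, map_one, ← map_one π, h.avg_self (one_mem _)]
      · exact h.avg_zero (hcK d) fun hc => hd (h.fix d d.2 hc)
    rw [Finset.sum_congr rfl fun d _ => h3 d, ← Finset.sum_filter, Finset.sum_const] at h2
    have h4 : ((Finset.univ.filter fun d : K => (d : G) ∈ centralizer (K : Set G)).card : F) ≠ 0 := by
      have h5 : (Finset.univ.filter fun d : K => (d : G) ∈ centralizer (K : Set G)).card =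
          Nat.card ((centralizer (K : Set G)).subgroupOf K) := by
        rw [Nat.card_eq_fintype_card, Fintype.card_subtype]
        congr 1
      rw [h5]
      intro h6
      apply h.cardK
      obtain ⟨m, hm⟩ := Subgroup.card_subgroup_dvd_card ((centralizer (K : Set G)).subgroupOf K)
      rw [hm, Nat.cast_mul, h6, zero_mul]
    rw [← Nat.cast_smul_eq_nsmul F, smul_smul] at h2
    rcases smul_eq_zero.mp h2.symm with h6 | h6
    · exact (mul_ne_zero h4 h.cardK) h6
    · exact h.one_ne_zero' h6
  have hρinv : π ρ⁻¹ = l⁻¹ • ∑ d : K, π ⁅(d : G), ρ⁆ := by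
    rw [← hmul, hl, smul_mul_assoc, one_mul, smul_smul, inv_mul_cancel₀ hl0, one_smul]
  refine h.scalar hK ?_
  have : ρ⁻¹ ∈ commSub π T := by
    rw [mem_commSub, hρinv, mul_smul_comm, smul_mul_assoc, Finset.mul_sum, Finset.sum_mul]
    congr 1
    refine Finset.sum_congr rfl fun d _ => ?_
    exact hK (hcK d)
  simpa using inv_mem this

/-- a functional extracting the scalar of a scalar endomorphism -/
theorem exists_eps (h : ExtCfg π K ρ r) :
    ∃ ε : (V →ₗ[F] V) →ₗ[F] F, ε (1 : V →ₗ[F] V) = 1 := by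
  haveI := h.nontriv
  obtain ⟨v, hv⟩ := exists_ne (0 : V)
  obtain ⟨f, hf⟩ := Module.Projective.exists_dual_eq_one F hv
  exact ⟨f ∘ₗ LinearMap.applyₗ v, by simpa using hf⟩

/-- the coordinate functionals -/
noncomputable def tau (π : Representation F G V) (K : Subgroup G) [Fintype K]
    (ε : (V →ₗ[F] V) →ₗ[F] F) (c : G) : (V →ₗ[F] V) →ₗ[F] F where
  toFun := fun T => ε (avg π K (T * π c))
  map_add' := fun S T => by rw [add_mul, map_add, map_add]
  map_smul' := fun a T => by rw [smul_mul_assoc, map_smul, map_smul, RingHom.id_apply]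

theorem tau_spec (h : ExtCfg π K ρ r) [Fintype K] {ε : (V →ₗ[F] V) →ₗ[F] F}
    (hε : ε (1 : V →ₗ[F] V) = 1) (c : G) (T : V →ₗ[F] V) :
    avg π K (T * π c) = tau π K ε c T • (1 : V →ₗ[F] V) := by
  obtain ⟨a, ha⟩ := h.scalar' (T := avg π K (T * π c)) (fun k hk => avg_comm' π K hk _)
  have : tau π K ε c T = a := by
    show ε (avg π K (T * π c)) = a
    rw [ha, map_smul, hε, smul_eq_mul, mul_one]
  rw [this, ha]

theorem reconstruct (h : ExtCfg π K ρ r) [Fintype K] {ε : (V →ₗ[F] V) →ₗ[F] F}
    (hε : ε (1 : V →ₗ[F] V) = 1) (T : V →ₗ[F] V) :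
    ∑ c : K, tau π K ε c T • π (c : G)⁻¹ =
      ((Nat.card K : F) * (Nat.card (K ⊓ centralizer (K : Set G) : Subgroup G) : F)) • T := by
  classical
  have h1 : ∀ c : K, tau π K ε c T • π (c : G)⁻¹ =
      ∑ d : K, π d * T * π ((c : G) * (d : G)⁻¹ * (c : G)⁻¹) := by
    intro c
    have h2 : tau π K ε c T • π (c : G)⁻¹ = avg π K (T * π c) * π (c : G)⁻¹ := by
      rw [h.tau_spec hε, smul_mul_assoc, one_mul]
    rw [h2, avg_apply, Finset.sum_mul]
    refine Finset.sum_congr rfl fun d _ => ?_
    rw [map_mul, map_mul]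
    simp only [mul_assoc]
  rw [Finset.sum_congr rfl fun c _ => h1 c, Finset.sum_comm]
  have h3 : ∀ d : K, ∑ c : K, π d * T * π ((c : G) * (d : G)⁻¹ * (c : G)⁻¹) =
      if (d : G) ∈ centralizer (K : Set G) then (Nat.card K : F) • T else 0 := by
    intro d
    rw [← Finset.mul_sum]
    have h4 : ∑ c : K, π ((c : G) * (d : G)⁻¹ * (c : G)⁻¹) = avg π K (π (d : G)⁻¹) := by
      rw [avg_apply]
      refine Finset.sum_congr rfl fun c _ => ?_
      rw [map_mul, map_mul]
    rw [h4]
    split_ifs with hd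
    · rw [h.avg_self (inv_mem hd), mul_smul_comm]
      congr 1
      obtain ⟨a, ha⟩ := h.scalar_of_cent d.2 hd
      have h5 : a • T = T * π (d : G) := by rw [ha, mul_smul_comm, mul_one]
      rw [ha, smul_mul_assoc, one_mul, h5, mul_assoc, pi_mul_inv, mul_one]
    · rw [h.avg_zero (inv_mem d.2) fun hc => hd (by simpa using inv_mem hc), mul_zero]
  rw [Finset.sum_congr rfl fun d _ => h3 d, ← Finset.sum_filter, Finset.sum_const]
  have h5 : (Finset.univ.filter fun d : K => (d : G) ∈ centralizer (K : Set G)).card =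
      Nat.card (K ⊓ centralizer (K : Set G) : Subgroup G) := by
    rw [← Fintype.card_subtype, ← Nat.card_eq_fintype_card]
    refine Nat.card_congr ⟨fun x => ⟨x.1.1, mem_inf.mpr ⟨x.1.2, x.2⟩⟩,
      fun x => ⟨⟨x.1, (mem_inf.mp x.2).1⟩, (mem_inf.mp x.2).2⟩, fun x => rfl, fun x => rfl⟩
  rw [h5, ← Nat.cast_smul_eq_nsmul F, smul_smul, mul_comm]

theorem cardZ_ne_zero (h : ExtCfg π K ρ r) :
    (Nat.card (K ⊓ centralizer (K : Set G) : Subgroup G) : F) ≠ 0 := by
  intro h6
  apply h.cardK
  obtain ⟨m, hm⟩ := Subgroup.card_dvd_of_le (inf_le_left : K ⊓ centralizer (K : Set G) ≤ K)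
  rw [hm, Nat.cast_mul, h6, zero_mul]

theorem eq_zero_of_tau (h : ExtCfg π K ρ r) [Fintype K] {ε : (V →ₗ[F] V) →ₗ[F] F}
    (hε : ε (1 : V →ₗ[F] V) = 1) {T : V →ₗ[F] V} (hT : ∀ c ∈ K, tau π K ε c T = 0) : T = 0 := by
  have h1 := h.reconstruct hε T
  rw [Finset.sum_congr rfl fun (c : K) _ => by rw [hT c c.2, zero_smul], Finset.sum_const_zero] at h1
  rcases smul_eq_zero.mp h1.symm with h2 | h2
  · exact absurd h2 (mul_ne_zero h.cardK h.cardZ_ne_zero)
  · exact h2

/-- `tau` vanishes on whole cosets of the centre -/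
theorem tau_coset (h : ExtCfg π K ρ r) [Fintype K] {ε : (V →ₗ[F] V) →ₗ[F] F}
    {T : V →ₗ[F] V} {c c' : G} (hz : c⁻¹ * c' ∈ K ⊓ centralizer (K : Set G))
    (hc : tau π K ε c T = 0) : tau π K ε c' T = 0 := by
  obtain ⟨a, ha⟩ := h.scalar_of_cent (mem_inf.mp hz).1 (mem_inf.mp hz).2
  have h1 : π c' = a • π c := by
    have : c' = c * (c⁻¹ * c') := by group
    rw [this, map_mul, ha, mul_smul_comm, mul_one]
  show ε (avg π K (T * π c')) = 0
  rw [h1, mul_smul_comm, map_smul, map_smul]
  have h2 : ε (avg π K (T * π c)) = 0 := hc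
  rw [h2, smul_zero]

/-- `tau` is invariant under conjugation by `ρ` for `T` commuting with `ρ` -/
theorem tau_conj (h : ExtCfg π K ρ r) [Fintype K] {ε : (V →ₗ[F] V) →ₗ[F] F}
    (hε : ε (1 : V →ₗ[F] V) = 1)
    {T : V →ₗ[F] V} (hT : T * π ρ = π ρ * T) (c : G) :
    tau π K ε (ρ * c * ρ⁻¹) T = tau π K ε c T := by
  haveI := h.normal
  have h1 : T * π (ρ * c * ρ⁻¹) = π ρ * (T * π c) * π ρ⁻¹ := by
    rw [map_mul, map_mul, ← mul_assoc, ← mul_assoc, hT]
    simp only [mul_assoc]
  show ε (avg π K (T * π (ρ * c * ρ⁻¹))) = ε (avg π K (T * π c))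
  rw [h1, avg_norm, h.tau_spec hε, mul_smul_comm, mul_one, smul_mul_assoc, pi_mul_inv]

end ExtCfg

theorem orbit_count {X : Type*} [Finite X] (φ : Equiv.Perm X) {r : ℕ} (hr : r.Prime)
    (hφ : φ ^ r = 1) (x₀ : X) (hfix : ∀ x, φ x = x ↔ x = x₀) (hX : 1 < Nat.card X) :
    r * Nat.card (MulAction.orbitRel.Quotient (zpowers φ) X) = Nat.card X + (r - 1) := by
  classical
  haveI : Nontrivial X := Finite.one_lt_card_iff_nontrivial.mp hX
  have hφ1 : φ ≠ 1 := by
    rintro rfl
    obtain ⟨x, hx⟩ := exists_ne x₀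
    exact hx ((hfix x).mp rfl)
  have ho : orderOf φ = r := by
    rcases (Nat.dvd_prime hr).mp (orderOf_dvd_of_pow_eq_one hφ) with h | h
    · exact absurd (orderOf_eq_one_iff.mp h) hφ1
    · exact h
  have hc : Nat.card (zpowers φ) = r := by rw [Nat.card_zpowers, ho]
  haveI : Fintype (zpowers φ) := Fintype.ofFinite _
  have h1 := H13.sum_card_fixedBy (G := zpowers φ) (Ω := X)
  rw [hc, mul_comm] at h1
  rw [← h1]
  have h2 : ∀ g : zpowers φ, Nat.card (MulAction.fixedBy X g) =
      if g = 1 then Nat.card X else 1 := by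
    intro g
    split_ifs with hg
    · rw [hg]
      refine Nat.card_congr (Equiv.subtypeUnivEquiv fun x => ?_)
      rw [MulAction.mem_fixedBy, one_smul]
    · have hz : φ ∈ zpowers (g : Equiv.Perm X) := by
        have hle : zpowers (g : Equiv.Perm X) ≤ zpowers φ := by
          rw [zpowers_le]; exact g.2
        have hog : orderOf (g : Equiv.Perm X) = r := by
          have : orderOf (g : Equiv.Perm X) ∣ r := by
            rw [← hc, ← Nat.card_zpowers]
            exact card_dvd_of_le hle
          rcases (Nat.dvd_prime hr).mp this with h | h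
          · exact absurd (Subtype.ext (orderOf_eq_one_iff.mp h)) hg
          · exact h
        have : zpowers (g : Equiv.Perm X) = zpowers φ := by
          apply eq_of_le_of_card_ge hle
          rw [Nat.card_zpowers, Nat.card_zpowers, ho, hog]
        rw [this]; exact mem_zpowers φ
      have : MulAction.fixedBy X g = {x₀} := by
        ext x
        rw [MulAction.mem_fixedBy, Set.mem_singleton_iff, ← hfix]
        constructor
        · intro h3
          have h4 : (g : Equiv.Perm X) ∈ MulAction.stabilizer (Equiv.Perm X) x := h3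
          have h5 : zpowers (g : Equiv.Perm X) ≤ MulAction.stabilizer (Equiv.Perm X) x := by
            rw [zpowers_le]; exact h4
          exact h5 hz
        · intro h3
          have h4 : φ ∈ MulAction.stabilizer (Equiv.Perm X) x := h3
          have h5 : zpowers φ ≤ MulAction.stabilizer (Equiv.Perm X) x := by
            rw [zpowers_le]; exact h4
          exact h5 g.2
      rw [this]
      simp
  rw [Finset.sum_congr rfl fun g _ => h2 g, Finset.sum_ite, Finset.sum_const, Finset.sum_const]
  have h3 : (Finset.univ.filter fun g : zpowers φ => g = 1).card = 1 := by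
    rw [Finset.card_eq_one]
    exact ⟨1, by ext; simp⟩
  have h4 : (Finset.univ.filter fun g : zpowers φ => ¬ g = 1).card = r - 1 := by
    have := Finset.card_filter_add_card_filter_not (s := (Finset.univ : Finset (zpowers φ)))
      (fun g => g = 1)
    rw [h3, Finset.card_univ, ← Nat.card_eq_fintype_card, hc] at this
    omega
  rw [h3, h4]; simp

open Classical in
theorem pairs_lower {F : Type*} [Field F] {ι : Type*} [Fintype ι] (ω : ι → F) {r : ℕ}
    (hr : 0 < r) (h1 : ∀ i, ω i ^ r = 1) (h2 : ∀ i, ω i ≠ 1) :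
    Fintype.card ι ^ 2 ≤ (r - 1) * Nat.card {p : ι × ι // ω p.1 = ω p.2} := by
  set S : Finset F := Finset.univ.image ω with hS
  have hSc : S.card ≤ r - 1 := by
    have hsub : S ⊆ (Polynomial.nthRootsFinset r (1 : F)).erase 1 := by
      intro w hw
      obtain ⟨i, _, rfl⟩ := Finset.mem_image.mp hw
      rw [Finset.mem_erase, Polynomial.mem_nthRootsFinset hr]
      exact ⟨h2 i, h1 i⟩
    have h3 := Finset.card_le_card hsub
    rw [Finset.card_erase_of_mem (by rw [Polynomial.mem_nthRootsFinset hr]; exact one_pow r)] at h3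
    have h4 : (Polynomial.nthRootsFinset r (1 : F)).card ≤ r := by
      rw [Polynomial.nthRootsFinset_def]
      exact (Multiset.toFinset_card_le _).trans (Polynomial.card_nthRoots r 1)
    omega
  have e1 : Fintype.card ι = ∑ w ∈ S, (Finset.univ.filter fun i => ω i = w).card := by
    rw [← Finset.card_univ]
    exact Finset.card_eq_sum_card_fiberwise (fun i _ => Finset.mem_image_of_mem ω (Finset.mem_univ i))
  have e2 : Nat.card {p : ι × ι // ω p.1 = ω p.2} =
      ∑ w ∈ S, (Finset.univ.filter fun i => ω i = w).card ^ 2 := by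
    rw [Nat.card_eq_fintype_card, Fintype.card_subtype]
    rw [Finset.card_eq_sum_card_fiberwise (f := fun p : ι × ι => ω p.1) (t := S)
      (fun p _ => Finset.mem_image_of_mem ω (Finset.mem_univ p.1))]
    refine Finset.sum_congr rfl fun w _ => ?_
    rw [pow_two, ← Finset.card_product]
    congr 1
    ext ⟨a, b⟩
    simp only [Finset.mem_filter, Finset.mem_univ, true_and, Finset.mem_product]
    constructor
    · rintro ⟨h, h'⟩; exact ⟨h', h ▸ h'⟩
    · rintro ⟨h, h'⟩; exact ⟨h.trans h'.symm, h⟩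
  rw [e1, e2]
  have key := sq_sum_le_card_mul_sum_sq (s := S)
    (f := fun w => ((Finset.univ.filter fun i => ω i = w).card : ℤ))
  have key2 : (∑ w ∈ S, (Finset.univ.filter fun i => ω i = w).card) ^ 2 ≤
      S.card * ∑ w ∈ S, (Finset.univ.filter fun i => ω i = w).card ^ 2 := by
    exact_mod_cast key
  exact key2.trans (Nat.mul_le_mul_right _ hSc)

namespace ExtCfg

variable [Finite G] [IsAlgClosed F] [FiniteDimensional F V]
variable {π : Representation F G V} {K : Subgroup G} {ρ : G} {r : ℕ}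

theorem finrank_sq (h : ExtCfg π K ρ r) :
    Module.finrank F V ^ 2 = Nat.card (K ⧸ center K) := by
  classical
  haveI : Fintype K := Fintype.ofFinite K
  haveI : Fintype (K ⧸ center K) := Fintype.ofFinite _
  obtain ⟨ε, hε⟩ := h.exists_eps
  have hcenter : ∀ x : K, x ∈ center K ↔ (x : G) ∈ centralizer (K : Set G) := by
    intro x
    rw [mem_center_iff, mem_centralizer_iff]
    constructor
    · intro hx k hk
      exact congrArg Subtype.val (hx ⟨k, hk⟩)
    · intro hx k
      exact Subtype.ext (hx k k.2)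
  let Φ : (V →ₗ[F] V) →ₗ[F] (K ⧸ center K → F) :=
    LinearMap.pi (fun x => tau π K ε ((x.out : K) : G))
  have hinj : Function.Injective Φ := by
    rw [← LinearMap.ker_eq_bot, LinearMap.ker_eq_bot']
    intro T hT
    refine h.eq_zero_of_tau hε fun c hc => ?_
    have h1 : tau π K ε ((((⟨c, hc⟩ : K) : K ⧸ center K).out : K) : G) T = 0 :=
      congrFun hT ((⟨c, hc⟩ : K) : K ⧸ center K)
    refine h.tau_coset ?_ h1
    have h2 : ((((⟨c, hc⟩ : K) : K ⧸ center K).out : K) : K ⧸ center K) =
        ((⟨c, hc⟩ : K) : K ⧸ center K) := Quotient.out_eq' _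
    rw [QuotientGroup.eq, hcenter] at h2
    exact mem_inf.mpr ⟨mul_mem (inv_mem (SetLike.coe_mem _)) hc, h2⟩
  have hsurj : Function.Surjective Φ := by
    intro f
    refine ⟨∑ x : K ⧸ center K, (f x * (Nat.card K : F)⁻¹) • π ((x.out : K) : G)⁻¹, ?_⟩
    ext y
    show tau π K ε ((y.out : K) : G) _ = f y
    rw [map_sum]
    have h1 : ∀ x : K ⧸ center K, tau π K ε ((y.out : K) : G)
        ((f x * (Nat.card K : F)⁻¹) • π ((x.out : K) : G)⁻¹) = if x = y then f y else 0 := by
      intro x
      rw [map_smul]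
      have h2 : tau π K ε ((y.out : K) : G) (π ((x.out : K) : G)⁻¹) =
          ε (avg π K (π (((x.out : K) : G)⁻¹ * ((y.out : K) : G)))) := by
        rw [map_mul]; rfl
      rw [h2]
      split_ifs with hxy
      · rw [hxy, inv_mul_cancel, h.avg_self (one_mem _), map_one, map_smul, hε, smul_eq_mul,
          smul_eq_mul, mul_one, mul_assoc, inv_mul_cancel₀ h.cardK, mul_one]
      · rw [h.avg_zero, map_zero, smul_zero]
        · exact mul_mem (inv_mem (SetLike.coe_mem _)) (SetLike.coe_mem _)
        · intro hc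
          apply hxy
          have h3 : (x.out)⁻¹ * y.out ∈ center K := (hcenter _).mpr hc
          rw [← QuotientGroup.eq] at h3
          have h4 : ((x.out : K) : K ⧸ center K) = x := Quotient.out_eq' _
          have h5 : ((y.out : K) : K ⧸ center K) = y := Quotient.out_eq' _
          rwa [h4, h5] at h3
    rw [Finset.sum_congr rfl fun x _ => h1 x]
    simp
  have h1 := (LinearEquiv.ofBijective Φ ⟨hinj, hsurj⟩).finrank_eq
  rw [Module.finrank_linearMap, Module.finrank_fintype_fun_eq_card] at h1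
  rw [pow_two, h1, Nat.card_eq_fintype_card]

theorem card_pairs_le (h : ExtCfg π K ρ r) (hnab : ¬ K ≤ centralizer (K : Set G))
    {ι : Type} [Fintype ι] (b : Module.Basis ι F V) (ω : ι → F)
    (hb : ∀ i, π ρ (b i) = ω i • b i) :
    ∃ m, r * m = Nat.card (K ⧸ center K) + (r - 1) ∧
      Nat.card {p : ι × ι // ω p.1 = ω p.2} ≤ m := by
  classical
  haveI : Fintype K := Fintype.ofFinite K
  haveI : Fintype (K ⧸ center K) := Fintype.ofFinite _
  haveI := h.normal
  obtain ⟨ε, hε⟩ := h.exists_eps
  have hcenter : ∀ x : K, x ∈ center K ↔ (x : G) ∈ centralizer (K : Set G) := by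
    intro x
    rw [mem_center_iff, mem_centralizer_iff]
    constructor
    · intro hx k hk
      exact congrArg Subtype.val (hx ⟨k, hk⟩)
    · intro hx k
      exact Subtype.ext (hx k k.2)
  let κ : K ≃* K := MulAut.conjNormal ρ
  have hκ : ∀ k : K, ((κ k : K) : G) = ρ * k * ρ⁻¹ := fun k => rfl
  let ψ : (K ⧸ center K) ≃* (K ⧸ center K) := QuotientGroup.congr (center K) (center K) κ
    (characteristic_iff_map_eq.mp inferInstance κ)
  let φ : Equiv.Perm (K ⧸ center K) := ψ.toEquiv
  have hφ : ∀ k : K, φ (k : K ⧸ center K) = ((κ k : K) : K ⧸ center K) := fun k => rfl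
  have hφn : ∀ (n : ℕ) (k : K), (φ ^ n) (k : K ⧸ center K) = (((κ ^ n : MulAut K) k : K) : K ⧸ center K) := by
    intro n
    induction n with
    | zero => intro k; rfl
    | succ n ih =>
      intro k
      rw [pow_succ', Equiv.Perm.mul_apply, ih, hφ, pow_succ']
      rfl
  have hφr : φ ^ r = 1 := by
    ext x
    induction x using QuotientGroup.induction_on with
    | H k =>
      rw [hφn]
      have : (κ ^ r : MulAut K) = 1 := by
        show (MulAut.conjNormal ρ : MulAut K) ^ r = 1
        rw [← map_pow, h.pow, map_one]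
      rw [this]; rfl
  have hfix : ∀ x : K ⧸ center K, φ x = x ↔ x = 1 := by
    intro x
    constructor
    · induction x using QuotientGroup.induction_on with
      | H k =>
        intro hx
        rw [hφ] at hx
        have h1 := QuotientGroup.eq.mp hx.symm
        rw [hcenter] at h1
        have h2 : ((k⁻¹ * κ k : K) : G) = ⁅(k : G)⁻¹, ρ⁆ := by
          show (k : G)⁻¹ * (ρ * k * ρ⁻¹) = _
          rw [commutatorElement_def]; group
        rw [h2] at h1
        have h3 := h.fix _ (inv_mem k.2) h1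
        rw [QuotientGroup.eq_one_iff, hcenter]
        simpa using h3
    · rintro rfl
      exact map_one ψ
  have hX : 1 < Nat.card (K ⧸ center K) := by
    by_contra hle
    have h1 : (center K).index = 1 := le_antisymm (not_lt.mp hle) (Nat.pos_of_ne_zero (by
      exact index_ne_zero_of_finite))
    rw [index_eq_one] at h1
    apply hnab
    intro k hk
    have : (⟨k, hk⟩ : K) ∈ center K := h1 ▸ mem_top _
    exact (hcenter _).mp this
  have hcount := orbit_count φ h.prime hφr 1 hfix hX
  refine ⟨_, hcount, ?_⟩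
  -- injective linear map from functions on pairs to functions on orbits
  set O := MulAction.orbitRel.Quotient (zpowers φ) (K ⧸ center K) with hO
  haveI : Fintype O := Fintype.ofFinite _
  let P := {p : ι × ι // ω p.1 = ω p.2}
  let M : (P → F) →ₗ[F] Matrix ι ι F :=
    { toFun := fun f => Matrix.of fun i j => if hij : ω i = ω j then f ⟨(i, j), hij⟩ else 0
      map_add' := fun f g => by
        ext i j
        show (if hij : ω i = ω j then (f + g) ⟨(i, j), hij⟩ else 0) =
          (if hij : ω i = ω j then f ⟨(i, j), hij⟩ else 0) +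
          (if hij : ω i = ω j then g ⟨(i, j), hij⟩ else 0)
        by_cases hij : ω i = ω j
        · rw [dif_pos hij, dif_pos hij, dif_pos hij]; rfl
        · rw [dif_neg hij, dif_neg hij, dif_neg hij, add_zero]
      map_smul' := fun a f => by
        ext i j
        show (if hij : ω i = ω j then (a • f) ⟨(i, j), hij⟩ else 0) =
          a • (if hij : ω i = ω j then f ⟨(i, j), hij⟩ else 0)
        by_cases hij : ω i = ω j
        · rw [dif_pos hij, dif_pos hij]; rfl
        · rw [dif_neg hij, dif_neg hij, smul_zero] }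
  let Ψ : (P → F) →ₗ[F] (O → F) :=
    (LinearMap.pi (fun o : O => tau π K ε (((Quotient.out o).out : K) : G))) ∘ₗ
      (Matrix.toLin b b).toLinearMap ∘ₗ M
  have hinj : Function.Injective Ψ := by
    rw [← LinearMap.ker_eq_bot, LinearMap.ker_eq_bot']
    intro f hf
    set T : V →ₗ[F] V := Matrix.toLin b b (M f) with hT
    have hTρ : T * π ρ = π ρ * T := by
      apply b.ext
      intro j
      rw [Module.End.mul_apply, Module.End.mul_apply, hb, map_smul, hT, Matrix.toLin_self, map_sum,
        Finset.smul_sum]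
      refine Finset.sum_congr rfl fun i _ => ?_
      rw [map_smul, hb, smul_smul, smul_smul]
      congr 1
      show ω j * (if hij : ω i = ω j then f ⟨(i, j), hij⟩ else 0) =
        (if hij : ω i = ω j then f ⟨(i, j), hij⟩ else 0) * ω i
      split_ifs with hij
      · rw [hij]; ring
      · ring
    have hval : ∀ o : O, tau π K ε (((Quotient.out o).out : K) : G) T = 0 := fun o => congrFun hf o
    -- the predicate
    let Pr : (K ⧸ center K) → Prop := fun x => ∀ c : K, (c : K ⧸ center K) = x → tau π K ε (c : G) T = 0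
    have hPr : ∀ (x : K ⧸ center K) (c : K), (c : K ⧸ center K) = x → tau π K ε (c : G) T = 0 →
        Pr x := by
      rintro x c rfl hc c' hc'
      refine h.tau_coset ?_ hc
      have h2 := QuotientGroup.eq.mp hc'.symm
      rw [hcenter] at h2
      exact mem_inf.mpr ⟨mul_mem (inv_mem c.2) c'.2, h2⟩
    have hPrφ : ∀ x, Pr (φ x) ↔ Pr x := by
      intro x
      induction x using QuotientGroup.induction_on with
      | H k =>
        constructor
        · intro h1
          have h2 := h1 (κ k) (hφ k).symm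
          rw [hκ, h.tau_conj hε hTρ] at h2
          exact hPr _ k rfl h2
        · intro h1
          have h2 := h1 k rfl
          rw [← h.tau_conj hε hTρ, ← hκ] at h2
          exact hPr _ (κ k) (hφ k).symm h2
    let S : Subgroup (Equiv.Perm (K ⧸ center K)) :=
      { carrier := {g | ∀ x, Pr (g x) ↔ Pr x}
        mul_mem' := fun {a b} ha hb x => by
          rw [Equiv.Perm.mul_apply, ha, hb]
        one_mem' := fun x => Iff.rfl
        inv_mem' := fun {a} ha x => by
          rw [← ha (a⁻¹ x), show a (a⁻¹ x) = x by simp] }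
    have hS : zpowers φ ≤ S := by rw [zpowers_le]; exact hPrφ
    have hall : ∀ x, Pr x := by
      intro x
      have h1 : Pr (Quotient.out (Quotient.mk'' x : O)) :=
        hPr _ (Quotient.out (Quotient.mk'' x : O)).out (Quotient.out_eq' _) (hval _)
      have h2 : (Quotient.mk'' (Quotient.out (Quotient.mk'' x : O)) : O) = Quotient.mk'' x :=
        Quotient.out_eq' _
      have h3 := Quotient.exact h2
      obtain ⟨g, hg⟩ := h3
      have h4 : (g : Equiv.Perm _) x = Quotient.out (Quotient.mk'' x : O) := hg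
      rw [← h4] at h1
      exact (hS g.2 x).mp h1
    have hT0 : T = 0 := h.eq_zero_of_tau hε fun c hc => hall _ ⟨c, hc⟩ rfl
    have hM0 : M f = 0 := by
      rw [hT] at hT0
      exact (LinearEquiv.map_eq_zero_iff (Matrix.toLin b b)).mp hT0
    ext ⟨⟨i, j⟩, hij⟩
    have h1 := congrFun (congrFun hM0 i) j
    have h2 : M f i j = if hij : ω i = ω j then f ⟨(i, j), hij⟩ else 0 := rfl
    rw [h2, dif_pos hij] at h1
    exact h1
  have h1 := LinearMap.finrank_le_finrank_of_injective hinj
  rw [Module.finrank_fintype_fun_eq_card, Module.finrank_fintype_fun_eq_card,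
    ← Nat.card_eq_fintype_card, ← Nat.card_eq_fintype_card] at h1
  exact h1

theorem main (h : ExtCfg π K ρ r) (hnab : ¬ K ≤ centralizer (K : Set G))
    (hsum : ∑ j ∈ Finset.range r, π (ρ ^ j) = 0) :
    r = Module.finrank F V + 1 ∧ Module.finrank F V ^ 2 = Nat.card (K ⧸ center K) := by
  classical
  have hD := h.finrank_sq
  refine ⟨?_, hD⟩
  have hdvd : Nat.card (zpowers ρ) ∣ r := by
    rw [Nat.card_zpowers]; exact orderOf_dvd_of_pow_eq_one h.pow
  haveI : NeZero ((Nat.card (zpowers ρ) : ℕ) : F) := ⟨by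
    obtain ⟨m, hm⟩ := hdvd
    intro h0
    apply h.cardr
    rw [hm, Nat.cast_mul, h0, zero_mul]⟩
  obtain ⟨ι, _, b, μ, hbμ⟩ := H3.exists_simul_eigenbasis (A := zpowers ρ)
    (π.comp (zpowers ρ).subtype)
  let ω : ι → F := fun i => (μ i ⟨ρ, mem_zpowers ρ⟩ : F)
  have hb : ∀ i, π ρ (b i) = ω i • b i := fun i => hbμ ⟨ρ, mem_zpowers ρ⟩ i
  have hω : ∀ i, ω i ^ r = 1 := by
    intro i
    show ((μ i ⟨ρ, mem_zpowers ρ⟩ : Fˣ) : F) ^ r = 1
    rw [← Units.val_pow_eq_pow_val, ← map_pow]
    have : (⟨ρ, mem_zpowers ρ⟩ : zpowers ρ) ^ r = 1 := Subtype.ext h.pow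
    rw [this, map_one, Units.val_one]
  have hpow : ∀ (j : ℕ) (i : ι), π (ρ ^ j) (b i) = ω i ^ j • b i := by
    intro j i
    induction j with
    | zero => simp
    | succ j ih =>
      rw [pow_succ', map_mul, Module.End.mul_apply, ih, map_smul, hb, smul_smul, pow_succ]
  have hω1 : ∀ i, ω i ≠ 1 := by
    intro i hi
    have h1 := LinearMap.congr_fun hsum (b i)
    rw [LinearMap.sum_apply, Finset.sum_congr rfl fun j _ => by rw [hpow, hi, one_pow, one_smul],
      Finset.sum_const, Finset.card_range, LinearMap.zero_apply, ← Nat.cast_smul_eq_nsmul F] at h1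
    rcases smul_eq_zero.mp h1 with h2 | h2
    · exact h.cardr h2
    · exact b.ne_zero i h2
  have hlow := pairs_lower ω h.prime.pos hω hω1
  obtain ⟨m, hm, hPm⟩ := h.card_pairs_le hnab b ω hb
  have hup : r * Nat.card {p : ι × ι // ω p.1 = ω p.2} ≤ Nat.card (K ⧸ center K) + (r - 1) := by
    rw [← hm]; exact Nat.mul_le_mul_left _ hPm
  have hcard : Fintype.card ι = Module.finrank F V := (Module.finrank_eq_card_basis b).symm
  rw [hcard] at hlow
  rw [← hD] at hup
  have hD1 : 1 < Module.finrank F V := by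
    haveI := h.nontriv
    have hpos : 0 < Module.finrank F V := Module.finrank_pos
    by_contra hle
    have h1 : Module.finrank F V = 1 := by omega
    rw [h1, one_pow] at hD
    have h2 : (center K).index = 1 := hD.symm
    rw [index_eq_one] at h2
    apply hnab
    intro k hk
    have h3 : (⟨k, hk⟩ : K) ∈ center K := h2 ▸ mem_top _
    rw [mem_centralizer_iff]
    intro k' hk'
    exact congrArg Subtype.val (mem_center_iff.mp h3 ⟨k', hk'⟩)
  -- divisibility
  have hdiv : r ∣ Module.finrank F V ^ 2 + (r - 1) := by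
    rw [hD, ← hm]; exact Dvd.intro _ rfl
  set D := Module.finrank F V with hDdef
  set P := Nat.card {p : ι × ι // ω p.1 = ω p.2} with hP
  have hr2 := h.prime.two_le
  obtain ⟨r', rfl⟩ : ∃ r', r = r' + 1 := ⟨r - 1, by omega⟩
  simp only [Nat.add_sub_cancel] at hlow hup hdiv
  -- `D² ≤ r'²`
  have h1 : D ^ 2 ≤ r' ^ 2 := by nlinarith
  have h2 : D ≤ r' := by
    by_contra hlt
    push Not at hlt
    have : r' ^ 2 < D ^ 2 := Nat.pow_lt_pow_left hlt two_ne_zero
    omega
  have h3 : r' + 1 ∣ (D - 1) * (D + 1) := by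
    have h4 : D ^ 2 + r' = (D - 1) * (D + 1) + (r' + 1) := by
      obtain ⟨e, he⟩ : ∃ e, D = e + 1 := ⟨D - 1, by omega⟩
      rw [he]; simp only [Nat.add_sub_cancel]; ring
    rw [h4] at hdiv
    exact (Nat.dvd_add_left (dvd_refl _)).mp hdiv
  rcases (h.prime.dvd_mul).mp h3 with h4 | h4
  · have := Nat.le_of_dvd (by omega) h4
    omega
  · have := Nat.le_of_dvd (by omega) h4
    omega

end ExtCfg

end Linear

end Cfsg.Agent.H1
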