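import Mathlib
import Cfsg.Prelude.Def_FusionSystem
import Cfsg.Agent.H28.GroupSimple
import Cfsg.Agent.H28.FusFocal
import Cfsg.Agent.H28.FusNormal
import Cfsg.Agent.H28.FusGroup

set_option autoImplicit false

/-! A criterion for simplicity of the 2-fusion system of a group (helper1). -/

open Cfsg Cfsg.FusionSystem
open scoped commutatorElement

namespace Cfsg.Agent.H1.FusCrit

open Cfsg.Agent.H28

theorem mulAut_cyclic_two {Q : Type*} [Group Q] [Finite Q] [IsCyclic Q] (hQ : IsPGroup 2 Q) (σ : MulAut Q)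
    (hσ : Nat.Coprime (orderOf σ) 2) : σ = 1 := by
  haveI : Fact (Nat.Prime 2) := ⟨Nat.prime_two⟩
  have h1 := IsCyclic.card_mulAut Q
  obtain ⟨k, hk⟩ := IsPGroup.iff_card.1 hQ
  have h2 : Nat.card (MulAut Q) ∣ 2 ^ k := by
    rw [h1, hk]
    rcases Nat.eq_zero_or_pos k with h0 | h0
    · rw [h0]; simp
    · rw [Nat.totient_prime_pow Nat.prime_two h0]
      simp only [Nat.add_one_sub_one, mul_one]
      exact pow_dvd_pow 2 (Nat.sub_le k 1)
  have h3 : orderOf σ ∣ 2 ^ k := (orderOf_dvd_natCard σ).trans h2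
  have h4 : orderOf σ = 1 := Nat.Coprime.eq_one_of_dvd (Nat.Coprime.pow_right k hσ) h3
  exact orderOf_eq_one_iff.1 h4

variable {Ω : Type*} [Group Ω] {S T : Subgroup Ω} {F : FusionSystem S}

/-- odd automorphisms act trivially modulo a strongly closed subgroup with cyclic quotient -/
theorem odd_aut [Finite S] (hS : IsPGroup 2 S) (hT : F.StronglyClosed T) {s : Ω} (hs : s ∈ S)
    (hcyc : S ≤ T ⊔ Subgroup.zpowers s) {P : Subgroup Ω} (hP : P ≤ S) {γ : MulAut P} (hγ : γ ∈ F.autGroup P)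
    (ho : Nat.Coprime (orderOf γ) 2) : ∀ x ∈ P, x⁻¹ * autFun γ x ∈ T := by
  have hTS : T ≤ S := hT.1
  haveI : Finite P := finite_of_le hP
  have hTn : (T.subgroupOf S).Normal := by
    refine ⟨fun t ht g => ?_⟩
    rw [Subgroup.mem_subgroupOf] at ht ⊢
    exact sc_apply (f := fun x => (g : Ω) * x * (g : Ω)⁻¹) hT (mor_conj (P := S) le_rfl g.2) (hTS ht) ht
  have hMn : (T.subgroupOf P).Normal := by
    refine ⟨fun t ht g => ?_⟩
    rw [Subgroup.mem_subgroupOf] at ht ⊢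
    exact sc_apply (f := fun x => (g : Ω) * x * (g : Ω)⁻¹) hT (mor_conj (P := S) le_rfl (hP g.2)) (hTS ht) ht
  have hcyc' : IsCyclic (S ⧸ T.subgroupOf S) := by
    refine ⟨QuotientGroup.mk ⟨s, hs⟩, fun x => ?_⟩
    obtain ⟨⟨y, hy⟩, rfl⟩ := QuotientGroup.mk_surjective x
    have h1 : (⟨y, hy⟩ : S) ∈ T.subgroupOf S ⊔ Subgroup.zpowers (⟨s, hs⟩ : S) := by
      have h2 : (T.subgroupOf S ⊔ Subgroup.zpowers (⟨s, hs⟩ : S)).map S.subtype = T ⊔ Subgroup.zpowers s := by
        rw [Subgroup.map_sup, Subgroup.subgroupOf_map_subtype, inf_of_le_left hTS, MonoidHom.map_zpowers]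
        rfl
      have h3 : y ∈ (T.subgroupOf S ⊔ Subgroup.zpowers (⟨s, hs⟩ : S)).map S.subtype := by
        rw [h2]; exact hcyc hy
      obtain ⟨z, hz, hzy⟩ := h3
      have : z = ⟨y, hy⟩ := Subtype.ext hzy
      rw [← this]; exact hz
    rw [Subgroup.mem_sup_of_normal_left] at h1
    obtain ⟨t, ht, z, hz, h4⟩ := h1
    obtain ⟨n, rfl⟩ := Subgroup.mem_zpowers_iff.1 hz
    refine Subgroup.mem_zpowers_iff.2 ⟨n, ?_⟩
    rw [← h4, QuotientGroup.mk_mul, (QuotientGroup.eq_one_iff t).2 ht, one_mul, QuotientGroup.mk_zpow]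
  set ι : P ⧸ T.subgroupOf P →* S ⧸ T.subgroupOf S :=
    QuotientGroup.map (T.subgroupOf P) (T.subgroupOf S) (Subgroup.inclusion hP) (by
      intro x hx
      rw [Subgroup.mem_comap, Subgroup.mem_subgroupOf]
      exact hx) with hι
  have hιinj : Function.Injective ι := by
    rw [injective_iff_map_eq_one]
    intro x hx
    obtain ⟨y, rfl⟩ := QuotientGroup.mk_surjective x
    rw [hι, QuotientGroup.map_mk, QuotientGroup.eq_one_iff] at hx
    exact (QuotientGroup.eq_one_iff y).2 hx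
  haveI : IsCyclic (P ⧸ T.subgroupOf P) := isCyclic_of_injective ι hιinj
  have hQ : IsPGroup 2 (P ⧸ T.subgroupOf P) := (isPGroup_of_le hS hP).to_quotient _
  -- the induced automorphism
  have hinv : ∀ γ' : MulAut P, γ' ∈ F.autGroup P → (T.subgroupOf P).map (γ' : P →* P) ≤ T.subgroupOf P := by
    rintro γ' hγ' _ ⟨x, hx, rfl⟩
    rw [Subgroup.mem_subgroupOf]
    have h1 := sc_apply hT (mor_autFun hP hγ') x.2 hx
    rw [autFun_coe] at h1
    exact h1
  have hmapeq : (T.subgroupOf P).map (γ : P →* P) = T.subgroupOf P := by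
    apply le_antisymm (hinv γ hγ)
    have h1 := hinv γ⁻¹ (inv_mem hγ)
    intro x hx
    have h2 : γ⁻¹ x ∈ T.subgroupOf P := h1 ⟨x, hx, rfl⟩
    exact ⟨γ⁻¹ x, h2, by simp⟩
  set σ : MulAut (P ⧸ T.subgroupOf P) := QuotientGroup.congr _ _ γ hmapeq with hσ
  have hσapp : ∀ (n : ℕ) (x : P), (σ ^ n) (QuotientGroup.mk x) = QuotientGroup.mk ((γ ^ n) x) := by
    intro n
    induction n with
    | zero => intro x; rfl
    | succ n ih =>
      intro x
      rw [pow_succ, pow_succ]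
      show (σ ^ n) (σ (QuotientGroup.mk x)) = QuotientGroup.mk ((γ ^ n) (γ x))
      rw [← ih]; rfl
  have hσo : orderOf σ ∣ orderOf γ := by
    apply orderOf_dvd_of_pow_eq_one
    ext x
    obtain ⟨y, rfl⟩ := QuotientGroup.mk_surjective x
    rw [hσapp, pow_orderOf_eq_one]; rfl
  have hσ1 := mulAut_cyclic_two hQ σ (Nat.Coprime.coprime_dvd_left hσo ho)
  intro x hx
  have h1 := hσapp 1 ⟨x, hx⟩
  rw [hσ1, one_pow, pow_one] at h1
  have h2 : (QuotientGroup.mk (⟨x, hx⟩ : P) : P ⧸ T.subgroupOf P) = QuotientGroup.mk (γ ⟨x, hx⟩) := h1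
  rw [QuotientGroup.eq, Subgroup.mem_subgroupOf] at h2
  rw [autFun_apply _ hx]
  exact h2

theorem fus_trivial_mod [Finite S] (hS : IsPGroup 2 S) (hF : F.IsSaturated 2) (hT : F.StronglyClosed T) {s : Ω}
    (hs : s ∈ S) (hcyc : S ≤ T ⊔ Subgroup.zpowers s) {P : Subgroup Ω} {f : Ω → Ω} (hf : Mor F P f) {x : Ω}
    (hx : x ∈ P) : x⁻¹ * f x ∈ T := by
  haveI : Fact (Nat.Prime 2) := ⟨Nat.prime_two⟩
  have hTS : T ≤ S := hT.1
  have hTc : ∀ g ∈ S, ∀ t ∈ T, g * t * g⁻¹ ∈ T := by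
    intro g hg t ht
    exact sc_apply (f := fun x => g * x * g⁻¹) hT (mor_conj (P := S) le_rfl hg) (hTS ht) ht
  have hTn : (T.subgroupOf S).Normal := by
    refine ⟨fun t ht g => ?_⟩
    rw [Subgroup.mem_subgroupOf] at ht ⊢
    exact hTc g g.2 t ht
  have hmem : ∀ y ∈ S, ∃ t ∈ T, ∃ n : ℤ, t * s ^ n = y := by
    intro y hy
    have h1 : (⟨y, hy⟩ : S) ∈ T.subgroupOf S ⊔ Subgroup.zpowers (⟨s, hs⟩ : S) := by
      have h2 : (T.subgroupOf S ⊔ Subgroup.zpowers (⟨s, hs⟩ : S)).map S.subtype = T ⊔ Subgroup.zpowers s := by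
        rw [Subgroup.map_sup, Subgroup.subgroupOf_map_subtype, inf_of_le_left hTS, MonoidHom.map_zpowers]
        rfl
      have h3 : y ∈ (T.subgroupOf S ⊔ Subgroup.zpowers (⟨s, hs⟩ : S)).map S.subtype := by
        rw [h2]; exact hcyc hy
      obtain ⟨z, hz, hzy⟩ := h3
      have : z = ⟨y, hy⟩ := Subtype.ext hzy
      rw [← this]; exact hz
    rw [Subgroup.mem_sup_of_normal_left] at h1
    obtain ⟨t, ht, z, hz, h4⟩ := h1
    obtain ⟨n, rfl⟩ := Subgroup.mem_zpowers_iff.1 hz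
    exact ⟨t, ht, n, congrArg Subtype.val h4⟩
  have hcomm : ∀ g ∈ S, ∀ y ∈ S, y⁻¹ * (g * y * g⁻¹) ∈ T := by
    intro g hg y hy
    obtain ⟨t, ht, n, rfl⟩ := hmem y hy
    obtain ⟨u, hu, m, rfl⟩ := hmem g hg
    -- modulo T everything is a power of s
    have hsn : ∀ k : ℤ, s ^ k ∈ S := fun k => zpow_mem hs k
    have e : (t * s ^ n)⁻¹ * (u * s ^ m * (t * s ^ n) * (u * s ^ m)⁻¹) =
        (s ^ n)⁻¹ * (t⁻¹ * u * (s ^ m * t * (s ^ m)⁻¹) * (s ^ n * u⁻¹ * (s ^ n)⁻¹)) * s ^ n := by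
      have hc : s ^ m * s ^ n = s ^ n * s ^ m := by rw [← zpow_add, ← zpow_add, add_comm]
      calc (t * s ^ n)⁻¹ * (u * s ^ m * (t * s ^ n) * (u * s ^ m)⁻¹)
          = (s ^ n)⁻¹ * t⁻¹ * u * (s ^ m * t * (s ^ m)⁻¹) * (s ^ m * s ^ n) * (s ^ m)⁻¹ * u⁻¹ := by group
        _ = (s ^ n)⁻¹ * t⁻¹ * u * (s ^ m * t * (s ^ m)⁻¹) * (s ^ n * s ^ m) * (s ^ m)⁻¹ * u⁻¹ := by rw [hc]
        _ = _ := by group
    rw [e]
    have h1 : t⁻¹ * u * (s ^ m * t * (s ^ m)⁻¹) * (s ^ n * u⁻¹ * (s ^ n)⁻¹) ∈ T :=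
      mul_mem (mul_mem (mul_mem (inv_mem ht) hu) (hTc _ (hsn m) t ht)) (hTc _ (hsn n) _ (inv_mem hu))
    have h2 := hTc _ (inv_mem (hsn n)) _ h1
    rwa [inv_inv] at h2
  refine rel_of_essential (ρ := fun x y => x⁻¹ * y ∈ T) hS hF ?_ ?_ ?_ ?_ hf hx
  · intro x y z h1 h2
    have := mul_mem h1 h2
    have e : x⁻¹ * y * (y⁻¹ * z) = x⁻¹ * z := by group
    rwa [e] at this
  · intro x y h1
    have := inv_mem h1
    have e : (x⁻¹ * y)⁻¹ = y⁻¹ * x := by group
    rwa [e] at this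
  · intro g hg y hy
    exact hcomm g hg y hy
  · intro P hP α hα x hx
    have hfn := (fn_of_essential_or_top hP).1
    have hPS : P ≤ S := hfn.1
    obtain ⟨γ, hγ, g, hg, hg1, hg2⟩ := aut_decomp (FN.fa hS hF hfn) hα
    have key : ∀ γ : F.autGroup P, γ ∈ pResidual 2 (F.autGroup P) → ∀ x ∈ P, x⁻¹ * autFun (γ : MulAut P) x ∈ T := by
      intro γ hγ
      unfold pResidual at hγ
      induction hγ using Subgroup.closure_induction with
      | mem γ hγ =>
        have ho : Nat.Coprime (orderOf (γ : MulAut P)) 2 := by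
          rw [Subgroup.orderOf_coe]; exact hγ
        exact odd_aut hS hT hs hcyc hPS γ.2 ho
      | one =>
        intro x hx
        have : autFun ((1 : F.autGroup P) : MulAut P) x = x := autFun_one hx
        rw [this, inv_mul_cancel]; exact one_mem _
      | mul γ δ _ _ h1 h2 =>
        intro x hx
        have e : autFun ((γ * δ : F.autGroup P) : MulAut P) x = autFun (γ : MulAut P) (autFun (δ : MulAut P) x) :=
          autFun_mul _ _ hx
        rw [e]
        have h3 := mul_mem (h2 x hx) (h1 _ (autFun_mem (δ : MulAut P) hx))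
        have e2 : x⁻¹ * autFun (δ : MulAut P) x * ((autFun (δ : MulAut P) x)⁻¹ * autFun (γ : MulAut P) (autFun (δ : MulAut P) x)) =
          x⁻¹ * autFun (γ : MulAut P) (autFun (δ : MulAut P) x) := by group
        rwa [e2] at h3
      | inv γ _ h1 =>
        intro x hx
        have h2 := h1 _ (autFun_mem (γ⁻¹ : MulAut P) hx)
        rw [autFun_apply_inv _ hx] at h2
        have h3 := inv_mem h2
        have e2 : ((autFun (γ⁻¹ : MulAut P) x)⁻¹ * x)⁻¹ = x⁻¹ * autFun (γ⁻¹ : MulAut P) x := by group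
        rw [e2] at h3
        exact h3
    rw [hg2 x hx]
    have h1 := key γ hγ _ (hg1 x hx)
    have h2 := hcomm g hg x (hPS hx)
    have h3 := mul_mem h2 h1
    have e : x⁻¹ * (g * x * g⁻¹) * ((g * x * g⁻¹)⁻¹ * autFun (γ : MulAut P) (g * x * g⁻¹)) =
      x⁻¹ * autFun (γ : MulAut P) (g * x * g⁻¹) := by group
    rwa [e] at h3

/-- The criterion. -/
theorem simple_crit {G : Type*} [Group G] [Finite G] (S : Sylow 2 G) (hne : (S : Subgroup G) ≠ ⊥)
    (hperf : commutator G = ⊤) (hAut : autInducedBy ⊤ (S : Subgroup G) ≤ Inn (S : Subgroup G))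
    (hT : ∀ T : Subgroup G, T ≤ S → T ≠ ⊥ →
      (∀ t ∈ T, ∀ g : G, g * t * g⁻¹ ∈ (S : Subgroup G) → g * t * g⁻¹ ∈ T) →
      ∃ s ∈ (S : Subgroup G), (S : Subgroup G) ≤ T ⊔ Subgroup.zpowers s) :
    (groupFusionSystem (S : Subgroup G)).IsSimple 2 := by
  haveI : Fact (Nat.Prime 2) := ⟨Nat.prime_two⟩
  have hsat : (groupFusionSystem (S : Subgroup G)).IsSaturated 2 := group_saturated S
  refine ⟨hsat, hne, fun T E hE => ?_⟩
  have hsc : (groupFusionSystem (S : Subgroup G)).StronglyClosed T := hE.1.2.2.2.1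
  by_cases hT0 : T = ⊥
  · exact Or.inl hT0
  right
  obtain ⟨s, hs, hcyc⟩ := hT T hsc.1 hT0 fun t ht g hg => by
    have hm : Mor (groupFusionSystem (S : Subgroup G)) (Subgroup.zpowers t)
        (fun x => g * x * g⁻¹) := by
      refine mor_group_conj (by rw [Subgroup.zpowers_le]; exact hsc.1 ht) fun x hx => ?_
      obtain ⟨k, rfl⟩ := Subgroup.mem_zpowers_iff.1 hx
      rw [← conj_zpow]
      exact zpow_mem hg k
    exact sc_apply (f := fun x => g * x * g⁻¹) hsc hm (Subgroup.mem_zpowers t) ht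
  have hST : (S : Subgroup G) ≤ T := by
    have h1 : (S : Subgroup G) ≤ (S : Subgroup G).focalSubgroup := by
      have h2 := Subgroup.commutator_inf_eq_focalSubgroup S
      rw [hperf, top_inf_eq] at h2
      exact h2.le
    refine h1.trans ?_
    rw [Subgroup.focalSubgroup_def, Subgroup.closure_le]
    rintro _ ⟨hxu, x, hx, u, rfl⟩
    have hu : u * x⁻¹ * u⁻¹ ∈ (S : Subgroup G) := by
      have e : u * x⁻¹ * u⁻¹ = x⁻¹ * ⁅x, u⁆ := by rw [commutatorElement_def]; group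
      rw [e]; exact mul_mem (inv_mem hx) hxu
    have hm : Mor (groupFusionSystem (S : Subgroup G)) (Subgroup.zpowers x⁻¹)
        (fun y => u * y * u⁻¹) := by
      refine mor_group_conj (by rw [Subgroup.zpowers_le]; exact inv_mem hx) fun y hy => ?_
      obtain ⟨k, rfl⟩ := Subgroup.mem_zpowers_iff.1 hy
      rw [← conj_zpow]
      exact zpow_mem hu k
    have h3 := fus_trivial_mod S.isPGroup' hsat hsc hs hcyc hm (Subgroup.mem_zpowers x⁻¹)
    have e : x⁻¹⁻¹ * (u * x⁻¹ * u⁻¹) = ⁅x, u⁆ := by rw [commutatorElement_def]; group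
    rw [e] at h3
    exact h3
  obtain rfl : T = (S : Subgroup G) := le_antisymm hsc.1 hST
  have hinv : E.IsInvariantIn (groupFusionSystem (S : Subgroup G)) := hE.1.2.2
  suffices h : (groupFusionSystem (S : Subgroup G)).autGroup (S : Subgroup G) ≤
      E.autGroup (S : Subgroup G) by
    have := inv_eq_of_top hinv h
    exact ⟨rfl, fun P => by rw [this]⟩
  rw [autGroup_group le_rfl]
  exact hAut.trans (Inn_le_autGroup le_rfl)

end Cfsg.Agent.H1.FusCrit
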