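import Mathlib

set_option autoImplicit false
set_option linter.all false

namespace Cfsg.Agent.H1.Pres

open Polynomial

section basic

variable {Γ Δ : Type*} [Group Γ] [Group Δ]

/-- conjugation `x ^ g` -/
def cj (g x : Γ) : Γ := g⁻¹ * x * g

lemma cj_mul (g x y : Γ) : cj g (x * y) = cj g x * cj g y := by unfold cj; group
lemma cj_one (g : Γ) : cj g 1 = 1 := by unfold cj; group
lemma one_cj (x : Γ) : cj 1 x = x := by unfold cj; group
lemma cj_inv (g x : Γ) : cj g x⁻¹ = (cj g x)⁻¹ := by unfold cj; group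
lemma cj_cj (g k x : Γ) : cj g (cj k x) = cj (k * g) x := by unfold cj; group
lemma cj_pow (g x : Γ) (n : ℕ) : cj g (x ^ n) = (cj g x) ^ n := by
  induction n with
  | zero => rw [pow_zero, pow_zero, cj_one]
  | succ n ih => rw [pow_succ, pow_succ, cj_mul, ih]
lemma cj_comm {g x y : Γ} (h : Commute x y) : Commute (cj g x) (cj g y) := by
  unfold Commute SemiconjBy
  rw [← cj_mul, ← cj_mul, h.eq]
lemma cj_inj {g x y : Γ} (h : cj g x = cj g y) : x = y := by
  unfold cj at h
  exact mul_left_cancel (mul_right_cancel h)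
lemma map_cj (φ : Γ →* Δ) (g x : Γ) : φ (cj g x) = cj (φ g) (φ x) := by
  unfold cj; rw [map_mul, map_mul, map_inv]

/-- the word `∏ (u ^ f_i) ^ (h ^ i)` -/
noncomputable def wd {p : ℕ} (f : (ZMod p)[X]) (u h : Γ) : Γ :=
  ((List.range (f.natDegree + 1)).map fun i => cj (h ^ i) (u ^ (f.coeff i).val)).prod

lemma map_wd {p : ℕ} (φ : Γ →* Δ) (f : (ZMod p)[X]) (u h : Γ) : φ (wd f u h) = wd f (φ u) (φ h) := by
  unfold wd
  rw [map_list_prod, List.map_map]
  congr 1
  apply List.map_congr_left
  intro i _
  show φ _ = _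
  rw [map_cj, map_pow, map_pow]

lemma comm_rel1 {u A B : Γ} (hAB : Commute A B) (h1 : cj A u = u * cj B u) (h2 : Commute u (cj B u)) :
    ∀ n : ℕ, Commute u (cj (B ^ n) u) := by
  have key : ∀ n : ℕ, ∀ j ≤ n + 1, Commute u (cj (B ^ j) u) := by
    intro n
    induction n with
    | zero =>
      intro j hj
      interval_cases j
      · rw [pow_zero, one_cj]
      · rw [pow_one]; exact h2
    | succ n ih =>
      intro j hj
      rcases Nat.lt_or_ge j (n + 2) with h | h
      · exact ih j (by omega)
      obtain rfl : j = n + 2 := by omega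
      -- notation: e j = cj (B ^ j) u
      have hs : ∀ j : ℕ, cj B (cj (B ^ j) u) = cj (B ^ (j + 1)) u := fun j => by rw [cj_cj, pow_succ]
      have hA : ∀ j : ℕ, cj A (cj (B ^ j) u) = cj (B ^ j) u * cj (B ^ (j + 1)) u := by
        intro j
        rw [cj_cj, (hAB.symm.pow_left j).eq, ← cj_cj, h1, cj_mul, cj_cj, pow_succ']
      have h3 : Commute (u * cj B u) (cj (B ^ (n + 1)) u * cj (B ^ (n + 2)) u) := by
        have := cj_comm (g := A) (ih (n + 1) le_rfl)
        rwa [h1, hA] at this
      have h4 : Commute (cj B u) (cj (B ^ (n + 1)) u) := by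
        have := cj_comm (g := B) (ih n (by omega))
        rwa [hs] at this
      have h5 : Commute (cj B u) (cj (B ^ (n + 2)) u) := by
        have := cj_comm (g := B) (ih (n + 1) (by omega))
        rwa [hs] at this
      have h6 : Commute u (cj (B ^ (n + 1)) u) := ih (n + 1) le_rfl
      generalize cj B u = e1 at *
      generalize cj (B ^ (n + 1)) u = en at *
      generalize cj (B ^ (n + 2)) u = em at *
      have h7 : u * e1 * (en * em) = en * em * (u * e1) := h3
      have h8 : u * e1 * (en * em) = en * (u * em) * e1 := by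
        calc u * e1 * (en * em) = u * (e1 * en) * em := by group
          _ = u * (en * e1) * em := by rw [h4.eq]
          _ = (u * en) * (e1 * em) := by group
          _ = (en * u) * (em * e1) := by rw [h6.eq, h5.eq]
          _ = en * (u * em) * e1 := by group
      have h9 : en * em * (u * e1) = en * (em * u) * e1 := by group
      rw [h8, h9] at h7
      exact mul_left_cancel (mul_right_cancel h7)
  intro n
  exact key n n (by omega)

lemma comm_rel2 {u A B : Γ} (hAB : Commute A B) (h1 : cj A u = u * cj B u) (h2 : Commute u (cj B u)) :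
    ∀ n : ℕ, Commute u (cj (A ^ n) u) := by
  intro n
  have h3 := comm_rel1 hAB h1 h2
  let M : Subgroup Γ := Subgroup.closure (Set.range fun j : ℕ => cj (B ^ j) u)
  have hM : ∀ x ∈ M, cj A x ∈ M := by
    intro x hx
    induction hx using Subgroup.closure_induction with
    | mem x hx =>
      obtain ⟨j, rfl⟩ := hx
      show cj A (cj (B ^ j) u) ∈ M
      rw [cj_cj, (hAB.symm.pow_left j).eq, ← cj_cj, h1, cj_mul, cj_cj, ← pow_succ']
      exact M.mul_mem (Subgroup.subset_closure ⟨j, rfl⟩) (Subgroup.subset_closure ⟨j + 1, rfl⟩)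
    | one => rw [cj_one]; exact M.one_mem
    | mul x y _ _ hx hy => rw [cj_mul]; exact M.mul_mem hx hy
    | inv x _ hx => rw [cj_inv]; exact M.inv_mem hx
  have h4 : ∀ n : ℕ, cj (A ^ n) u ∈ M := by
    intro n
    induction n with
    | zero =>
      rw [pow_zero, one_cj]
      refine Subgroup.subset_closure ⟨0, ?_⟩
      show cj (B ^ 0) u = u
      rw [pow_zero, one_cj]
    | succ n ih =>
      rw [pow_succ, ← cj_cj]
      exact hM _ ih
  have h5 : M ≤ Subgroup.centralizer {u} := by
    rw [Subgroup.closure_le]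
    rintro _ ⟨j, rfl⟩
    rw [SetLike.mem_coe, Subgroup.mem_centralizer_singleton_iff]
    exact (h3 j).symm.eq
  have h6 := h5 (h4 n)
  rw [Subgroup.mem_centralizer_singleton_iff] at h6
  exact (show Commute (cj (A ^ n) u) u from h6).symm

end basic

/-- an additive parametrization on which `h` acts by multiplication by `a` -/
structure Ups {Γ K : Type*} [Group Γ] [Field K] (υ : K → Γ) (h : Γ) (a : K) : Prop where
  add : ∀ x y, υ (x + y) = υ x * υ y
  act : ∀ y, cj h (υ y) = υ (a * y)

namespace Ups

variable {Γ K : Type*} [Group Γ] [Field K] {υ : K → Γ} {h : Γ} {a : K} (U : Ups υ h a)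
include U

lemma zero : υ 0 = 1 := by
  have := U.add 0 0
  rw [add_zero] at this
  exact left_eq_mul.1 this

lemma neg (x : K) : υ (-x) = (υ x)⁻¹ := by
  have := U.add (-x) x
  rw [neg_add_cancel, U.zero] at this
  exact eq_inv_of_mul_eq_one_left this.symm

lemma comm (x y : K) : υ x * υ y = υ y * υ x := by
  rw [← U.add, ← U.add, add_comm]

lemma npow (x : K) (n : ℕ) : υ x ^ n = υ (n * x) := by
  induction n with
  | zero => rw [pow_zero, Nat.cast_zero, zero_mul, U.zero]
  | succ n ih => rw [pow_succ, ih, ← U.add]; congr 1; push_cast; ring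

lemma actPow (n : ℕ) (y : K) : cj (h ^ n) (υ y) = υ (a ^ n * y) := by
  induction n with
  | zero => rw [pow_zero, one_cj, pow_zero, one_mul]
  | succ n ih => rw [pow_succ, ← cj_cj, ih, U.act]; congr 1; ring

lemma upsPow (n : ℕ) : Ups υ (h ^ n) (a ^ n) := ⟨U.add, U.actPow n⟩

lemma sum (n : ℕ) (g : ℕ → K) : υ (∑ i ∈ Finset.range n, g i) = ((List.range n).map fun i => υ (g i)).prod := by
  induction n with
  | zero => simp [U.zero]
  | succ n ih =>
    rw [Finset.sum_range_succ, U.add, ih, List.range_succ, List.map_append, List.prod_append]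
    simp

lemma wd_eq {p : ℕ} [Fact p.Prime] [Algebra (ZMod p) K] (f : (ZMod p)[X]) : wd f (υ 1) h = υ (aeval a f) := by
  rw [aeval_eq_sum_range, U.sum]
  unfold wd
  congr 1
  apply List.map_congr_left
  intro i _
  rw [U.npow, U.actPow]
  congr 1
  rw [Algebra.smul_def, mul_one, mul_comm]
  congr 1
  conv_rhs => rw [← ZMod.natCast_zmod_val (f.coeff i)]
  rw [map_natCast]

lemma wd_eq' {p : ℕ} [Fact p.Prime] [Algebra (ZMod p) K] (f : (ZMod p)[X]) (c : K) : wd f (υ c) h = υ (aeval a f * c) := by
  have U' : Ups (fun y => υ (y * c)) h a := ⟨fun x y => by rw [add_mul, U.add], fun y => by rw [U.act, mul_assoc]⟩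
  have := U'.wd_eq f
  simp only [one_mul] at this
  exact this

lemma map {Δ : Type*} [Group Δ] (φ : Γ →* Δ) : Ups (fun y => φ (υ y)) (φ h) a :=
  ⟨fun x y => by rw [U.add, map_mul], fun y => by rw [← map_cj, U.act]⟩

end Ups

section module

variable {Γ K : Type*} [Group Γ] [Field K] {p : ℕ} [Fact p.Prime] [Algebra (ZMod p) K]

theorem core {u h : Γ} {A : Type*} [AddCommGroup A] [Module (ZMod p) A] (T : Module.End (ZMod p) A) (u' : A) (val : A → Γ)
    (hval_inj : Function.Injective val) (hval_add : ∀ x y : A, val (x + y) = val x * val y) (hval_zero : val 0 = 1)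
    (hval_T : ∀ x : A, val (T x) = cj h (val x)) (hval_u : val u' = u)
    (a : K) (ha : ∀ y : K, ∃ f : (ZMod p)[X], aeval a f = y)
    (g₁ g₂ : (ZMod p)[X]) (hg₁ : wd g₁ u h = 1 ∨ ∃ k : ℕ, g₁ = X ^ k - X - 1 ∧ cj (h ^ k) u = u * cj h u) (hg₂ : cj h (wd g₂ u h) = wd g₂ u h)
    (hg : ∃ r s : (ZMod p)[X], minpoly (ZMod p) a = r * g₁ + s * ((X - 1) * g₂)) :
    ∃ υ : K → Γ, υ 1 = u ∧ Ups υ h a ∧ ∀ f : (ZMod p)[X], wd f u h = υ (aeval a f) := by
  have hval_nsmul : ∀ (n : ℕ) (x : A), val (n • x) = val x ^ n := by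
    intro n x
    induction n with
    | zero => rw [zero_smul, pow_zero, hval_zero]
    | succ n ih => rw [succ_nsmul, hval_add, ih, pow_succ]
  have hval_smul : ∀ (k : ZMod p) (x : A), val (k • x) = val x ^ k.val := by
    intro k x
    conv_lhs => rw [← ZMod.natCast_zmod_val k]
    rw [Nat.cast_smul_eq_nsmul, hval_nsmul]
  have hval_sum : ∀ (n : ℕ) (g : ℕ → A), val (∑ i ∈ Finset.range n, g i) = ((List.range n).map fun i => val (g i)).prod := by
    intro n g
    induction n with
    | zero => simp [hval_zero]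
    | succ n ih =>
      rw [Finset.sum_range_succ, hval_add, ih, List.range_succ, List.map_append, List.prod_append]
      simp
  have hTpow : ∀ (n : ℕ) (x : A), val ((T ^ n) x) = cj (h ^ n) (val x) := by
    intro n
    induction n with
    | zero => intro x; rw [pow_zero, pow_zero, one_cj]; rfl
    | succ n ih =>
      intro x
      rw [pow_succ', Module.End.mul_apply, hval_T, ih, cj_cj, pow_succ]
  have hwd : ∀ f : (ZMod p)[X], val ((aeval T f) u') = wd f u h := by
    intro f
    rw [aeval_eq_sum_range, LinearMap.sum_apply, hval_sum]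
    unfold wd
    congr 1
    apply List.map_congr_left
    intro i _
    rw [LinearMap.smul_apply, hval_smul, hTpow, hval_u, cj_pow]
  have hm : (aeval T (minpoly (ZMod p) a)) u' = 0 := by
    obtain ⟨r, s, hrs⟩ := hg
    have h1 : (aeval T g₁) u' = 0 := by
      rcases hg₁ with hg₁ | ⟨k, hk, hk2⟩
      · exact hval_inj (by rw [hwd, hg₁, hval_zero])
      · rw [hk, map_sub, map_sub, map_pow, aeval_X, map_one, LinearMap.sub_apply, LinearMap.sub_apply, Module.End.one_apply,
          sub_sub, sub_eq_zero]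
        apply hval_inj
        rw [hTpow, hval_add, hval_T, hval_u, hk2]
        have h3 : val (T u' + u') = val (u' + T u') := by rw [add_comm]
        rw [hval_add, hval_add, hval_T, hval_u] at h3
        exact h3.symm
    have h2 : (aeval T ((X - 1) * g₂)) u' = 0 := by
      rw [map_mul, Module.End.mul_apply, map_sub, aeval_X, map_one, LinearMap.sub_apply, Module.End.one_apply, sub_eq_zero]
      apply hval_inj
      rw [hval_T, hwd, hg₂]
    rw [hrs, map_add, LinearMap.add_apply, map_mul, Module.End.mul_apply, h1, map_zero, zero_add,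
      map_mul, Module.End.mul_apply, h2, map_zero]
  have hind : ∀ f g : (ZMod p)[X], aeval a f = aeval a g → (aeval T f) u' = (aeval T g) u' := by
    intro f g hfg
    have h1 : minpoly (ZMod p) a ∣ f - g := minpoly.dvd _ _ (by rw [map_sub, hfg, sub_self])
    obtain ⟨r, hr⟩ := h1
    have h2 : (aeval T (f - g)) u' = 0 := by
      rw [hr, mul_comm, map_mul, Module.End.mul_apply, hm, map_zero]
    rw [map_sub, LinearMap.sub_apply, sub_eq_zero] at h2
    exact h2
  choose F hF using ha
  refine ⟨fun y => val ((aeval T (F y)) u'), ?_, ⟨?_, ?_⟩, ?_⟩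
  · show val _ = u
    rw [hind (F 1) 1 (by rw [hF, map_one]), map_one, Module.End.one_apply, hval_u]
  · intro x y
    show val _ = val _ * val _
    rw [hind (F (x + y)) (F x + F y) (by rw [hF, map_add, hF, hF]), map_add, LinearMap.add_apply, hval_add]
  · intro y
    show cj h (val _) = val _
    rw [hind (F (a * y)) (X * F y) (by rw [hF, map_mul, aeval_X, hF]), map_mul, Module.End.mul_apply, aeval_X, hval_T]
  · intro f
    show _ = val _
    rw [← hwd f, hind (F (aeval a f)) f (by rw [hF])]

/-- the key construction: from an annihilating polynomial condition -/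
theorem exists_ups' {u h : Γ} (a : K) (ha : ∀ y : K, ∃ f : (ZMod p)[X], aeval a f = y)
    (hu : u ^ p = 1) (hc : ∀ i : ℕ, Commute u (cj (h ^ i) u))
    (g₁ g₂ : (ZMod p)[X]) (hg₁ : wd g₁ u h = 1 ∨ ∃ k : ℕ, g₁ = X ^ k - X - 1 ∧ cj (h ^ k) u = u * cj h u) (hg₂ : cj h (wd g₂ u h) = wd g₂ u h)
    (hg : ∃ r s : (ZMod p)[X], minpoly (ZMod p) a = r * g₁ + s * ((X - 1) * g₂)) :
    ∃ υ : K → Γ, υ 1 = u ∧ Ups υ h a ∧ ∀ f : (ZMod p)[X], wd f u h = υ (aeval a f) := by
  classical
  let e : ℤ → Γ := fun i => cj (h ^ i) u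
  have he0 : ∀ i j : ℤ, i ≤ j → Commute (e i) (e j) := by
    intro i j hij
    have h1 : e j = cj (h ^ i) (cj (h ^ (j - i).toNat) u) := by
      show cj (h ^ j) u = _
      rw [cj_cj]
      congr 1
      rw [← zpow_natCast, Int.toNat_of_nonneg (by omega), ← zpow_add]
      congr 1; ring
    rw [h1]
    exact cj_comm (hc _)
  have he : ∀ i j : ℤ, Commute (e i) (e j) := by
    intro i j
    rcases le_total i j with h1 | h1
    · exact he0 i j h1
    · exact (he0 j i h1).symm
  have hcomm : ∀ x ∈ Set.range e, ∀ y ∈ Set.range e, x * y = y * x := by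
    rintro _ ⟨i, rfl⟩ _ ⟨j, rfl⟩
    exact (he i j).eq
  letI : CommGroup (Subgroup.closure (Set.range e)) := Subgroup.closureCommGroupOfComm hcomm
  have hMc : ∀ x ∈ Subgroup.closure (Set.range e), ∀ y ∈ Subgroup.closure (Set.range e), x * y = y * x :=
    fun x hx y hy => congrArg Subtype.val (mul_comm (⟨x, hx⟩ : Subgroup.closure (Set.range e)) ⟨y, hy⟩)
  have hMp : ∀ x ∈ Subgroup.closure (Set.range e), x ^ p = 1 := by
    intro x hx
    induction hx using Subgroup.closure_induction with
    | mem x hx =>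
      obtain ⟨j, rfl⟩ := hx
      show (cj (h ^ j) u) ^ p = 1
      rw [← cj_pow, hu, cj_one]
    | one => exact one_pow p
    | mul x y hx' hy' hx hy =>
      rw [(show Commute x y from hMc x hx' y hy').mul_pow, hx, hy, one_mul]
    | inv x _ hx => rw [inv_pow, hx, inv_one]
  have hMh : ∀ x ∈ Subgroup.closure (Set.range e), cj h x ∈ Subgroup.closure (Set.range e) := by
    intro x hx
    induction hx using Subgroup.closure_induction with
    | mem x hx =>
      obtain ⟨j, rfl⟩ := hx
      refine Subgroup.subset_closure ⟨j + 1, ?_⟩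
      show cj (h ^ (j + 1)) u = cj h (cj (h ^ j) u)
      rw [cj_cj, zpow_add_one]
    | one => rw [cj_one]; exact Subgroup.one_mem _
    | mul x y _ _ hx hy => rw [cj_mul]; exact Subgroup.mul_mem _ hx hy
    | inv x _ hx => rw [cj_inv]; exact Subgroup.inv_mem _ hx
  have huM : u ∈ Subgroup.closure (Set.range e) := Subgroup.subset_closure ⟨0, by
    show cj (h ^ (0 : ℤ)) u = u
    rw [zpow_zero, one_cj]⟩
  letI : Module (ZMod p) (Additive (Subgroup.closure (Set.range e))) := AddCommGroup.zmodModule (n := p) (fun x => by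
    apply Additive.toMul.injective
    rw [toMul_nsmul, toMul_zero]
    apply Subtype.ext
    rw [Subgroup.coe_pow, Subgroup.coe_one]
    exact hMp _ (Additive.toMul x).2)
  let c : (Subgroup.closure (Set.range e)) →* (Subgroup.closure (Set.range e)) :=
    { toFun := fun x => ⟨cj h x.1, hMh _ x.2⟩
      map_one' := Subtype.ext (cj_one h)
      map_mul' := fun x y => Subtype.ext (cj_mul h x.1 y.1) }
  exact core (A := Additive (Subgroup.closure (Set.range e))) (AddMonoidHom.toZModLinearMap p (MonoidHom.toAdditive c))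
    (Additive.ofMul ⟨u, huM⟩) (fun x => ((Additive.toMul x : (Subgroup.closure (Set.range e))) : Γ))
    (fun x y hxy => Additive.toMul.injective (Subtype.ext hxy)) (fun x y => rfl) rfl (fun x => rfl) rfl a ha g₁ g₂ hg₁ hg₂ hg

end module

end Cfsg.Agent.H1.Pres
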