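import Cfsg.Agent.H1.PrA
import Cfsg.Agent.H16.Stein2

set_option autoImplicit false
set_option linter.all false

namespace Cfsg.Agent.H1.Pres

open Cfsg.Agent.H16

/-- the framework: data of a group satisfying the short relations -/
structure Frm {Γ K : Type*} [Group Γ] [Field K] (υ : K → Γ) (h t w : Γ) (ζ : K) : Prop where
  ups : Ups υ h (ζ ^ 2)
  inv : h * t * h = t
  zc : ∀ y, t ^ 2 * υ y = υ y * t ^ 2
  rel : ∀ x : K, x ≠ 0 → ∃ j : ℕ, ζ ^ j = x ∧ (υ x * t * h ^ j) ^ 3 = w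
  hq : ∀ i j : ℕ, ζ ^ i = ζ ^ j → h ^ i = h ^ j
  hw : w = t ^ 2 ∨ (w = 1 ∧ t ^ 4 = 1)

namespace Frm

variable {Γ K : Type*} [Group Γ] [Field K] {υ : K → Γ} {h t w : Γ} {ζ : K} (D : Frm υ h t w ζ)

/-- opposite root subgroup -/
def opp (υ : K → Γ) (t : Γ) (s : K) : Γ := t * υ (-s) * t⁻¹

include D

lemma th (j : ℕ) : h ^ j * t * h ^ j = t := by
  induction j with
  | zero => simp
  | succ j ih =>
    have : h ^ (j + 1) * t * h ^ (j + 1) = h ^ j * (h * t * h) * h ^ j := by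
      rw [pow_succ h j]
      have e : h ^ j * h = h * h ^ j := (pow_succ h j).symm.trans (pow_succ' h j)
      calc h ^ j * h * t * (h ^ j * h) = h ^ j * h * t * (h * h ^ j) := by rw [e]
        _ = h ^ j * (h * t * h) * h ^ j := by group
    rw [this, D.inv, ih]

lemma wcomm_ups (y : K) : w * υ y = υ y * w := by
  rcases D.hw with h1 | ⟨h1, -⟩
  · rw [h1]; exact D.zc y
  · rw [h1, one_mul, mul_one]

lemma tth : t ^ 2 * h = h * t ^ 2 := by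
  have h1 : t * h = h⁻¹ * t := by
    have := D.inv
    calc t * h = h⁻¹ * (h * t * h) := by group
      _ = h⁻¹ * t := by rw [this]
  have h2 : t * h⁻¹ = h * t := by
    have := D.inv
    calc t * h⁻¹ = (h * t * h) * h⁻¹ := by rw [this]
      _ = h * t := by group
  calc t ^ 2 * h = t * (t * h) := by rw [sq, mul_assoc]
    _ = (t * h⁻¹) * t := by rw [h1]; group
    _ = h * t ^ 2 := by rw [h2, sq, mul_assoc]

lemma wcomm_h : w * h = h * w := by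
  rcases D.hw with h1 | ⟨h1, -⟩
  · rw [h1]; exact D.tth
  · rw [h1, one_mul, mul_one]

lemma wcomm_t : w * t = t * w := by
  rcases D.hw with h1 | ⟨h1, -⟩
  · rw [h1, ← pow_succ, ← pow_succ']
  · rw [h1, one_mul, mul_one]

lemma hups (j : ℕ) (y : K) (hζ : ζ ≠ 0) : h ^ j * υ y = υ ((ζ ^ j)⁻¹ ^ 2 * y) * h ^ j := by
  have h1 := D.ups.actPow j ((ζ ^ j)⁻¹ ^ 2 * y)
  have h2 : (ζ ^ 2) ^ j * ((ζ ^ j)⁻¹ ^ 2 * y) = y := by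
    have : (ζ ^ 2) ^ j * ((ζ ^ j)⁻¹ ^ 2 * y) = (ζ ^ j * (ζ ^ j)⁻¹) ^ 2 * y := by ring
    rw [this, mul_inv_cancel₀ (pow_ne_zero j hζ), one_pow, one_mul]
  rw [h2] at h1
  rw [← h1]
  unfold cj
  group

lemma ww (hζ : ζ ≠ 0) {x : K} (hx : x ≠ 0) : ∃ j : ℕ, ζ ^ j = x ∧ υ x * opp υ t (-x⁻¹) * υ x = w * (h ^ j)⁻¹ * t⁻¹ ^ 3 := by
  obtain ⟨j, hj, hr⟩ := D.rel x hx
  refine ⟨j, hj, ?_⟩
  have h1 : h ^ j * υ x = υ x⁻¹ * h ^ j := by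
    rw [D.hups j x hζ, hj]
    congr 2
    field_simp
  have h2 : h ^ j * t * h ^ j = t := D.th j
  have h3 : υ x * t * υ x⁻¹ * t * υ x * t * h ^ j = w := by
    rw [← hr]
    calc υ x * t * υ x⁻¹ * t * υ x * t * h ^ j = υ x * t * υ x⁻¹ * (h ^ j * t * h ^ j) * υ x * t * h ^ j := by rw [h2]
      _ = υ x * t * (υ x⁻¹ * h ^ j) * t * h ^ j * υ x * t * h ^ j := by group
      _ = υ x * t * (h ^ j * υ x) * t * h ^ j * υ x * t * h ^ j := by rw [h1]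
      _ = (υ x * t * h ^ j) ^ 3 := by simp only [pow_succ, pow_zero, one_mul]; group
  have h4 : υ x * t * υ x⁻¹ * t * υ x = w * (h ^ j)⁻¹ * t⁻¹ := by
    rw [← h3]; group
  have h5 : opp υ t (-x⁻¹) = t * υ x⁻¹ * t⁻¹ := by unfold opp; rw [neg_neg]
  have h6 : υ x * t * υ x⁻¹ * t * υ x = υ x * (t * υ x⁻¹ * t⁻¹) * υ x * t ^ 2 := by
    calc υ x * t * υ x⁻¹ * t * υ x = υ x * t * υ x⁻¹ * t⁻¹ * (t ^ 2 * υ x) := by group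
      _ = υ x * t * υ x⁻¹ * t⁻¹ * (υ x * t ^ 2) := by rw [D.zc]
      _ = _ := by group
  rw [h5, ← mul_right_cancel_iff (a := t ^ 2), ← h6, h4]
  group

lemma conj_w (hζ : ζ ≠ 0) {x : K} (hx : x ≠ 0) (s : K) :
    (υ x * opp υ t (-x⁻¹) * υ x) * υ s * (υ x * opp υ t (-x⁻¹) * υ x)⁻¹ = opp υ t (-(x⁻¹ ^ 2 * s)) := by
  obtain ⟨j, hj, hr⟩ := D.ww hζ hx
  rw [hr]
  have h1 : t⁻¹ ^ 3 * υ s = t * υ s * t⁻¹ * t⁻¹ ^ 3 := by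
    have h2 : t ^ 4 * υ s = υ s * t ^ 4 := by
      have e4 : t ^ 4 = t ^ 2 * t ^ 2 := by rw [← pow_add]
      calc t ^ 4 * υ s = t ^ 2 * (t ^ 2 * υ s) := by rw [e4, mul_assoc]
        _ = (t ^ 2 * υ s) * t ^ 2 := by rw [mul_assoc, ← D.zc]
        _ = υ s * t ^ 4 := by rw [D.zc, e4, mul_assoc]
    calc t⁻¹ ^ 3 * υ s = t * (t⁻¹ ^ 4 * (υ s * t ^ 4)) * t⁻¹ ^ 4 := by group
      _ = t * (t⁻¹ ^ 4 * (t ^ 4 * υ s)) * t⁻¹ ^ 4 := by rw [h2]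
      _ = t * υ s * t⁻¹ * t⁻¹ ^ 3 := by group
  have h3 : (h ^ j)⁻¹ * t = t * h ^ j := by
    have := D.th j
    calc (h ^ j)⁻¹ * t = (h ^ j)⁻¹ * (h ^ j * t * h ^ j) := by rw [this]
      _ = t * h ^ j := by group
  have h4 : h ^ j * υ s = υ (x⁻¹ ^ 2 * s) * h ^ j := by rw [D.hups j s hζ, hj]
  have hwv := D.wcomm_ups (x⁻¹ ^ 2 * s)
  have h5 : w * (t * υ (x⁻¹ ^ 2 * s) * t⁻¹) = t * υ (x⁻¹ ^ 2 * s) * t⁻¹ * w := by
    have e : w * t⁻¹ = t⁻¹ * w := by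
      have := D.wcomm_t
      calc w * t⁻¹ = t⁻¹ * (t * w) * t⁻¹ := by group
        _ = t⁻¹ * (w * t) * t⁻¹ := by rw [this]
        _ = t⁻¹ * w := by group
    generalize υ (x⁻¹ ^ 2 * s) = v at *
    have ev : w * v = v * w := hwv
    calc w * (t * v * t⁻¹) = (w * t) * v * t⁻¹ := by group
      _ = t * (w * v) * t⁻¹ := by rw [D.wcomm_t]; group
      _ = t * v * (w * t⁻¹) := by rw [ev]; group
      _ = _ := by rw [e]; group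
  have h6 : (h ^ j)⁻¹ * (t * υ s * t⁻¹) = t * υ (x⁻¹ ^ 2 * s) * t⁻¹ * (h ^ j)⁻¹ := by
    have e : h ^ j * t⁻¹ = t⁻¹ * (h ^ j)⁻¹ := by
      calc h ^ j * t⁻¹ = t⁻¹ * (t * h ^ j) * t⁻¹ := by group
        _ = t⁻¹ * ((h ^ j)⁻¹ * t) * t⁻¹ := by rw [h3]
        _ = t⁻¹ * (h ^ j)⁻¹ := by group
    calc (h ^ j)⁻¹ * (t * υ s * t⁻¹) = ((h ^ j)⁻¹ * t) * υ s * t⁻¹ := by group
      _ = t * (h ^ j * υ s) * t⁻¹ := by rw [h3]; group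
      _ = t * υ (x⁻¹ ^ 2 * s) * (h ^ j * t⁻¹) := by rw [h4]; group
      _ = _ := by rw [e]; group
  unfold opp
  rw [neg_neg]
  calc w * (h ^ j)⁻¹ * t⁻¹ ^ 3 * υ s * (w * (h ^ j)⁻¹ * t⁻¹ ^ 3)⁻¹
      = w * (h ^ j)⁻¹ * (t⁻¹ ^ 3 * υ s) * (w * (h ^ j)⁻¹ * t⁻¹ ^ 3)⁻¹ := by group
    _ = w * ((h ^ j)⁻¹ * (t * υ s * t⁻¹)) * t⁻¹ ^ 3 * (w * (h ^ j)⁻¹ * t⁻¹ ^ 3)⁻¹ := by rw [h1]; group
    _ = w * (t * υ (x⁻¹ ^ 2 * s) * t⁻¹) * (h ^ j)⁻¹ * t⁻¹ ^ 3 * (w * (h ^ j)⁻¹ * t⁻¹ ^ 3)⁻¹ := by rw [h6]; group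
    _ = t * υ (x⁻¹ ^ 2 * s) * t⁻¹ * w * (h ^ j)⁻¹ * t⁻¹ ^ 3 * (w * (h ^ j)⁻¹ * t⁻¹ ^ 3)⁻¹ := by rw [h5]
    _ = t * υ (x⁻¹ ^ 2 * s) * t⁻¹ := by group

lemma opp_eq (s : K) : t * opp υ t s * t⁻¹ = υ (-s) := by
  unfold opp
  have := D.zc (-s)
  calc t * (t * υ (-s) * t⁻¹) * t⁻¹ = (t ^ 2 * υ (-s)) * t⁻¹ ^ 2 := by rw [sq, sq]; group
    _ = υ (-s) := by rw [this, sq, sq]; group

theorem stn (hζ : ζ ≠ 0) : Stn υ (opp υ t) where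
  hx := D.ups.add
  hy := by
    intro a b
    unfold opp
    rw [neg_add, D.ups.add]
    group
  hw := fun x s hx => D.conj_w hζ hx s
  hw' := by
    intro x s hx
    have h1 := D.conj_w hζ (x := -x) (neg_ne_zero.2 hx) (-s)
    have e1 : υ (-x⁻¹) = t * opp υ t x⁻¹ * t⁻¹ := (D.opp_eq x⁻¹).symm
    have e2 : opp υ t (-(-x)⁻¹) = opp υ t x⁻¹ := by rw [inv_neg, neg_neg]
    have e3 : (opp υ t x * υ (-x⁻¹) * opp υ t x) = t * (υ (-x) * opp υ t (-(-x)⁻¹) * υ (-x)) * t⁻¹ := by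
      rw [e1, e2]
      have : opp υ t x = t * υ (-x) * t⁻¹ := rfl
      rw [this]
      group
    have e4 : opp υ t s = t * υ (-s) * t⁻¹ := rfl
    rw [e3, e4]
    have e5 : t * (υ (-x) * opp υ t (-(-x)⁻¹) * υ (-x)) * t⁻¹ * (t * υ (-s) * t⁻¹) * (t * (υ (-x) * opp υ t (-(-x)⁻¹) * υ (-x)) * t⁻¹)⁻¹ =
        t * ((υ (-x) * opp υ t (-(-x)⁻¹) * υ (-x)) * υ (-s) * (υ (-x) * opp υ t (-(-x)⁻¹) * υ (-x))⁻¹) * t⁻¹ := by group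
    rw [e5, h1, D.opp_eq]
    congr 1
    rw [inv_neg]
    ring

lemma w_one (hζ : ζ ≠ 0) : υ 1 * opp υ t (-(1 : K)⁻¹) * υ 1 = w * t⁻¹ ^ 3 := by
  obtain ⟨j, hj, hr⟩ := D.ww hζ (one_ne_zero (α := K))
  rw [hr]
  have : h ^ j = h ^ 0 := D.hq j 0 (by rw [hj, pow_zero])
  rw [this, pow_zero, inv_one, mul_one]

lemma w_zeta (hζ : ζ ≠ 0) : υ ζ * opp υ t (-ζ⁻¹) * υ ζ = w * h⁻¹ * t⁻¹ ^ 3 := by
  obtain ⟨j, hj, hr⟩ := D.ww hζ hζ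
  rw [hr]
  have : h ^ j = h ^ 1 := D.hq j 1 (by rw [hj, pow_one])
  rw [this, pow_one]

/-- `t` and `h` expressed by root elements -/
lemma t_eq : w * t⁻¹ ^ 3 = t⁻¹ ∨ w * t⁻¹ ^ 3 = t := by
  rcases D.hw with h1 | ⟨h1, h2⟩
  · left; rw [h1]; group
  · right
    rw [h1, one_mul]
    calc t⁻¹ ^ 3 = t * (t ^ 4)⁻¹ := by group
      _ = t := by rw [h2, inv_one, mul_one]

lemma h_eq : (w * t⁻¹ ^ 3) * (w * h⁻¹ * t⁻¹ ^ 3)⁻¹ = h := by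
  have e : w * h = h * w := D.wcomm_h
  have : (w * t⁻¹ ^ 3) * (w * h⁻¹ * t⁻¹ ^ 3)⁻¹ = (w * h) * w⁻¹ := by group
  rw [this, e]; group

theorem gen (hζ : ζ ≠ 0) (hg : Subgroup.closure ({υ 1, h, t} : Set Γ) = ⊤) :
    Subgroup.closure (Set.range υ ∪ Set.range (opp υ t)) = ⊤ := by
  rw [eq_top_iff, ← hg, Subgroup.closure_le]
  have hx : ∀ s, υ s ∈ Subgroup.closure (Set.range υ ∪ Set.range (opp υ t)) := fun s => Subgroup.subset_closure (Or.inl ⟨s, rfl⟩)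
  have hy : ∀ s, opp υ t s ∈ Subgroup.closure (Set.range υ ∪ Set.range (opp υ t)) := fun s => Subgroup.subset_closure (Or.inr ⟨s, rfl⟩)
  have h1 : w * t⁻¹ ^ 3 ∈ Subgroup.closure (Set.range υ ∪ Set.range (opp υ t)) := by
    rw [← D.w_one hζ]
    exact Subgroup.mul_mem _ (Subgroup.mul_mem _ (hx _) (hy _)) (hx _)
  have h2 : w * h⁻¹ * t⁻¹ ^ 3 ∈ Subgroup.closure (Set.range υ ∪ Set.range (opp υ t)) := by
    rw [← D.w_zeta hζ]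
    exact Subgroup.mul_mem _ (Subgroup.mul_mem _ (hx _) (hy _)) (hx _)
  rintro g (rfl | rfl | rfl)
  · exact hx 1
  · rw [SetLike.mem_coe, ← D.h_eq]
    exact Subgroup.mul_mem _ h1 (Subgroup.inv_mem _ h2)
  · rw [SetLike.mem_coe]
    rcases D.t_eq with h3 | h3
    · rw [h3] at h1
      have := Subgroup.inv_mem _ h1
      rwa [inv_inv] at this
    · rwa [h3] at h1

theorem card_le [Fintype K] (hζ : ζ ≠ 0) (hg : Subgroup.closure ({υ 1, h, t} : Set Γ) = ⊤) :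
    Finite Γ ∧ Nat.card Γ ≤ Nat.card (Matrix.SpecialLinearGroup (Fin 2) K) :=
  (D.stn hζ).finite_and_card (D.gen hζ hg)

end Frm

end Cfsg.Agent.H1.Pres
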