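import Cfsg.Agent.H1.PrB
import Cfsg.Agent.S2426

set_option autoImplicit false
set_option linter.all false

namespace Cfsg.Agent.H1.Pres

open Cfsg.Agent.H16 Matrix

section targets

variable {K : Type*} [Field K]

def sU (y : K) : SpecialLinearGroup (Fin 2) K := ⟨!![1, y; 0, 1], by simp [Matrix.det_fin_two]⟩
def sL (y : K) : SpecialLinearGroup (Fin 2) K := ⟨!![1, 0; y, 1], by simp [Matrix.det_fin_two]⟩
def sH (ζ : K) (hζ : ζ ≠ 0) : SpecialLinearGroup (Fin 2) K := ⟨!![ζ⁻¹, 0; 0, ζ], by simp [Matrix.det_fin_two, hζ]⟩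
def sT : SpecialLinearGroup (Fin 2) K := ⟨!![0, 1; -1, 0], by simp [Matrix.det_fin_two]⟩

lemma sU_add (x y : K) : sU (x + y) = sU x * sU y := by
  apply Subtype.ext
  rw [Matrix.SpecialLinearGroup.coe_mul]
  show !![1, x + y; 0, 1] = !![1, x; 0, 1] * !![1, y; 0, 1]
  ext i j; fin_cases i <;> fin_cases j <;> simp [Matrix.mul_apply, add_comm]

lemma s_ups {ζ : K} (hζ : ζ ≠ 0) : Ups (sU (K := K)) (sH ζ hζ) (ζ ^ 2) where
  add := sU_add
  act := by
    intro y
    unfold cj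
    rw [mul_assoc, inv_mul_eq_iff_eq_mul]
    apply Subtype.ext
    rw [Matrix.SpecialLinearGroup.coe_mul, Matrix.SpecialLinearGroup.coe_mul]
    show !![1, y; 0, 1] * !![ζ⁻¹, 0; 0, ζ] = !![ζ⁻¹, 0; 0, ζ] * !![1, ζ ^ 2 * y; 0, 1]
    ext i j; fin_cases i <;> fin_cases j <;> simp [Matrix.mul_apply, Fin.sum_univ_two] <;> field_simp

lemma s_inv {ζ : K} (hζ : ζ ≠ 0) : sH ζ hζ * sT * sH ζ hζ = sT := by
  apply Subtype.ext
  rw [Matrix.SpecialLinearGroup.coe_mul, Matrix.SpecialLinearGroup.coe_mul]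
  show !![ζ⁻¹, 0; 0, ζ] * !![0, 1; -1, 0] * !![ζ⁻¹, 0; 0, ζ] = !![0, 1; -1, 0]
  ext i j; fin_cases i <;> fin_cases j <;> simp [Matrix.mul_apply, Fin.sum_univ_two, hζ]

lemma s_T2 : (sT : SpecialLinearGroup (Fin 2) K) ^ 2 = -1 := by
  apply Subtype.ext
  rw [sq, Matrix.SpecialLinearGroup.coe_mul, Matrix.SpecialLinearGroup.coe_neg, Matrix.SpecialLinearGroup.coe_one]
  show !![(0 : K), 1; -1, 0] * !![0, 1; -1, 0] = -1
  ext i j; fin_cases i <;> fin_cases j <;> simp [Matrix.mul_apply, Fin.sum_univ_two]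

lemma s_R0 : ((sU 1 : SpecialLinearGroup (Fin 2) K) * sT) ^ 3 = 1 := by
  apply Subtype.ext
  rw [pow_succ, sq, Matrix.SpecialLinearGroup.coe_mul, Matrix.SpecialLinearGroup.coe_mul, Matrix.SpecialLinearGroup.coe_mul, Matrix.SpecialLinearGroup.coe_one]
  have : ((sU 1 : SpecialLinearGroup (Fin 2) K) : Matrix (Fin 2) (Fin 2) K) * ((sT : SpecialLinearGroup (Fin 2) K) : Matrix (Fin 2) (Fin 2) K) = !![-1, 1; -1, 0] := by
    show !![(1 : K), 1; 0, 1] * !![0, 1; -1, 0] = _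
    ext i j; fin_cases i <;> fin_cases j <;> simp [Matrix.mul_apply, Fin.sum_univ_two]
  rw [this]
  ext i j; fin_cases i <;> fin_cases j <;> simp [Matrix.mul_apply, Fin.sum_univ_two]

lemma s_R1 {ζ : K} (hζ : ζ ≠ 0) : (sU ζ * sT * sH ζ hζ) ^ 3 = 1 := by
  apply Subtype.ext
  rw [pow_succ, sq]
  simp only [Matrix.SpecialLinearGroup.coe_mul, Matrix.SpecialLinearGroup.coe_one]
  have : ((sU ζ : SpecialLinearGroup (Fin 2) K) : Matrix (Fin 2) (Fin 2) K) * ((sT : SpecialLinearGroup (Fin 2) K) : Matrix (Fin 2) (Fin 2) K) * ((sH ζ hζ : SpecialLinearGroup (Fin 2) K) : Matrix (Fin 2) (Fin 2) K) = !![-1, ζ; -ζ⁻¹, 0] := by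
    show !![(1 : K), ζ; 0, 1] * !![0, 1; -1, 0] * !![ζ⁻¹, 0; 0, ζ] = _
    ext i j; fin_cases i <;> fin_cases j <;> simp [Matrix.mul_apply, Fin.sum_univ_two, hζ]
  rw [this]
  ext i j; fin_cases i <;> fin_cases j <;> simp [Matrix.mul_apply, Fin.sum_univ_two, hζ]

lemma sH_coe {ζ : K} (hζ : ζ ≠ 0) : ((sH ζ hζ : SpecialLinearGroup (Fin 2) K) : Matrix (Fin 2) (Fin 2) K) = Matrix.diagonal ![ζ⁻¹, ζ] := by
  show !![ζ⁻¹, 0; 0, ζ] = _
  ext i j; fin_cases i <;> fin_cases j <;> simp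

lemma sH_pow {ζ : K} (hζ : ζ ≠ 0) (m : ℕ) : (((sH ζ hζ : SpecialLinearGroup (Fin 2) K) ^ m : SpecialLinearGroup (Fin 2) K) : Matrix (Fin 2) (Fin 2) K) = Matrix.diagonal ![ζ⁻¹ ^ m, ζ ^ m] := by
  rw [Matrix.SpecialLinearGroup.coe_pow, sH_coe, Matrix.diagonal_pow]
  congr 1
  ext i; fin_cases i <;> simp

lemma sH_pow_neg {ζ : K} (hζ : ζ ≠ 0) {m : ℕ} (hm : ζ ^ m = -1) : (sH ζ hζ : SpecialLinearGroup (Fin 2) K) ^ m = -1 := by
  apply Subtype.ext
  rw [sH_pow, Matrix.SpecialLinearGroup.coe_neg, Matrix.SpecialLinearGroup.coe_one, inv_pow, hm]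
  ext i j; fin_cases i <;> fin_cases j <;> simp

lemma sH_pow_one {ζ : K} (hζ : ζ ≠ 0) {m : ℕ} (hm : ζ ^ m = 1) : (sH ζ hζ : SpecialLinearGroup (Fin 2) K) ^ m = 1 := by
  apply Subtype.ext
  rw [sH_pow, Matrix.SpecialLinearGroup.coe_one, inv_pow, hm]
  ext i j; fin_cases i <;> fin_cases j <;> simp

lemma wd_mem {Γ : Type*} [Group Γ] {p : ℕ} (H : Subgroup Γ) (f : Polynomial (ZMod p)) {u h : Γ} (hu : u ∈ H) (hh : h ∈ H) : wd f u h ∈ H := by
  unfold wd
  apply Subgroup.list_prod_mem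
  intro x hx
  rw [List.mem_map] at hx
  obtain ⟨i, -, rfl⟩ := hx
  exact H.mul_mem (H.mul_mem (H.inv_mem (H.pow_mem hh _)) (H.pow_mem hu _)) (H.pow_mem hh _)

lemma sL_eq (c : K) : sL c = sT * sU (-c) * (sT : SpecialLinearGroup (Fin 2) K)⁻¹ := by
  rw [eq_mul_inv_iff_mul_eq]
  apply Subtype.ext
  simp only [Matrix.SpecialLinearGroup.coe_mul]
  show !![1, 0; c, 1] * !![0, 1; -1, 0] = !![0, 1; -1, 0] * !![1, -c; 0, 1]
  ext i j; fin_cases i <;> fin_cases j <;> simp [Matrix.mul_apply, Fin.sum_univ_two]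

theorem s_gen {p : ℕ} [Fact p.Prime] [Algebra (ZMod p) K] {ζ : K} (hζ : ζ ≠ 0)
    (ha : ∀ y : K, ∃ f : Polynomial (ZMod p), Polynomial.aeval (ζ ^ 2) f = y) :
    Subgroup.closure ({sU 1, sH ζ hζ, sT} : Set (SpecialLinearGroup (Fin 2) K)) = ⊤ := by
  apply eq_top_of_transvection_mem
  have hU : ∀ y : K, sU y ∈ Subgroup.closure ({sU 1, sH ζ hζ, sT} : Set (SpecialLinearGroup (Fin 2) K)) := by
    intro y
    obtain ⟨f, rfl⟩ := ha y
    rw [← (s_ups hζ).wd_eq f]
    exact wd_mem _ f (Subgroup.subset_closure (by simp)) (Subgroup.subset_closure (by simp))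
  have hT : (sT : SpecialLinearGroup (Fin 2) K) ∈ Subgroup.closure ({sU 1, sH ζ hζ, sT} : Set (SpecialLinearGroup (Fin 2) K)) :=
    Subgroup.subset_closure (by simp)
  have hL : ∀ y : K, sL y ∈ Subgroup.closure ({sU 1, sH ζ hζ, sT} : Set (SpecialLinearGroup (Fin 2) K)) := by
    intro y
    rw [sL_eq]
    exact Subgroup.mul_mem _ (Subgroup.mul_mem _ hT (hU _)) (Subgroup.inv_mem _ hT)
  intro i j hij c
  have h01 : (i = 0 ∧ j = 1) ∨ (i = 1 ∧ j = 0) := by
    fin_cases i <;> fin_cases j <;> simp_all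
  rcases h01 with ⟨rfl, rfl⟩ | ⟨rfl, rfl⟩
  · have : SpecialLinearGroup.transvection hij c = sU c := by
      apply Subtype.ext
      show Matrix.transvection (0 : Fin 2) 1 c = !![1, c; 0, 1]
      ext a b; fin_cases a <;> fin_cases b <;> simp [Matrix.transvection, Matrix.single_apply]
    rw [this]; exact hU c
  · have : SpecialLinearGroup.transvection hij c = sL c := by
      apply Subtype.ext
      show Matrix.transvection (1 : Fin 2) 0 c = !![1, 0; c, 1]
      ext a b; fin_cases a <;> fin_cases b <;> simp [Matrix.transvection, Matrix.single_apply]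
    rw [this]; exact hL c

end targets

section psl

variable {Γ K : Type*} [Group Γ] [Field K] {υ : K → Γ} {h t : Γ} {ζ : K}

open Cfsg.Agent.S2426 in
theorem Frm.psl_card [Fintype K] (D : Frm υ h t (t ^ 2) ζ) (hζ : ζ ≠ 0) (hg : Subgroup.closure ({υ 1, h, t} : Set Γ) = ⊤)
    {m : ℕ} (hm : ζ ^ m = -1) (hh : h ^ m = 1) :
    Nat.card Γ ≤ Nat.card (Matrix.ProjectiveSpecialLinearGroup (Fin 2) K) := by
  classical
  obtain ⟨e, he1, he2⟩ := Cfsg.Agent.S2426.result (K := K)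
  have S := D.stn hζ
  let F : Bool × K → Γ := fun p => if p.1 then υ p.2 else Frm.opp υ t p.2
  have hF : ∀ r ∈ Cfsg.Agent.S2426.rels K, FreeGroup.lift F r = 1 := by
    intro r hr
    rcases hr with ⟨b, s, u, rfl⟩ | ⟨b, s, u, hs, rfl⟩
    · rw [map_mul, map_mul, map_inv, FreeGroup.lift_apply_of, FreeGroup.lift_apply_of, FreeGroup.lift_apply_of, mul_inv_eq_one]
      cases b
      · exact (S.hy s u).symm
      · exact (S.hx s u).symm
    · simp only [map_mul, map_inv, FreeGroup.lift_apply_of]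
      rw [mul_inv_eq_one]
      cases b
      · exact S.hw' s u hs
      · exact S.hw s u hs
  let ψ : SpecialLinearGroup (Fin 2) K →* Γ := (PresentedGroup.toGroup hF).comp e.symm.toMonoidHom
  have h1 : ∀ s, ψ (sU s) = υ s := by
    intro s
    have : e.symm (sU s) = PresentedGroup.of (true, s) := by
      rw [MulEquiv.symm_apply_eq]
      exact Subtype.ext (he1 s).symm
    show PresentedGroup.toGroup hF (e.symm (sU s)) = _
    rw [this, PresentedGroup.toGroup.of]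
    rfl
  have h2 : ∀ s, ψ (sL s) = Frm.opp υ t s := by
    intro s
    have : e.symm (sL s) = PresentedGroup.of (false, s) := by
      rw [MulEquiv.symm_apply_eq]
      exact Subtype.ext (he2 s).symm
    show PresentedGroup.toGroup hF (e.symm (sL s)) = _
    rw [this, PresentedGroup.toGroup.of]
    rfl
  have hsurj : Function.Surjective ψ := by
    rw [← MonoidHom.range_eq_top, eq_top_iff, ← D.gen hζ hg, Subgroup.closure_le]
    rintro _ (⟨s, rfl⟩ | ⟨s, rfl⟩)
    · exact ⟨_, h1 s⟩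
    · exact ⟨_, h2 s⟩
  have hH : ψ (sH ζ hζ) = h := by
    have e1 : sH ζ hζ = (sU 1 * sL (-(1 : K)⁻¹) * sU 1) * (sU ζ * sL (-ζ⁻¹) * sU ζ)⁻¹ := by
      rw [eq_mul_inv_iff_mul_eq]
      apply Subtype.ext
      simp only [Matrix.SpecialLinearGroup.coe_mul]
      show !![ζ⁻¹, 0; 0, ζ] * (!![1, ζ; 0, 1] * !![1, 0; -ζ⁻¹, 1] * !![1, ζ; 0, 1]) = !![1, 1; 0, 1] * !![1, 0; -(1 : K)⁻¹, 1] * !![1, 1; 0, 1]
      ext i j; fin_cases i <;> fin_cases j <;> simp [Matrix.mul_apply, Fin.sum_univ_two, hζ]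
    rw [e1, map_mul, map_inv, map_mul, map_mul, map_mul, map_mul, h1, h2, h1, h2, D.w_one hζ, D.w_zeta hζ, D.h_eq]
  have hneg : ψ (-1) = 1 := by
    rw [← sH_pow_neg hζ hm, map_pow, hH, hh]
  have hcen : ∀ x ∈ Subgroup.center (SpecialLinearGroup (Fin 2) K), ψ x = 1 := by
    intro x hx
    rw [Matrix.SpecialLinearGroup.mem_center_iff] at hx
    obtain ⟨r, hr, hrx⟩ := hx
    rw [Fintype.card_fin] at hr
    have hr' : (r - 1) * (r + 1) = 0 := by
      have : r ^ 2 = 1 := hr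
      linear_combination this
    rcases mul_eq_zero.1 hr' with h | h
    · have : x = 1 := by
        apply Subtype.ext
        show (x : Matrix (Fin 2) (Fin 2) K) = 1
        rw [← hrx, sub_eq_zero.1 h, map_one]
      rw [this, map_one]
    · have : x = -1 := by
        apply Subtype.ext
        show (x : Matrix (Fin 2) (Fin 2) K) = ((-1 : SpecialLinearGroup (Fin 2) K) : Matrix (Fin 2) (Fin 2) K)
        rw [Matrix.SpecialLinearGroup.coe_neg, Matrix.SpecialLinearGroup.coe_one, ← hrx, eq_neg_of_add_eq_zero_left h, map_neg, map_one]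
      rw [this, hneg]
  let ψ' : Matrix.ProjectiveSpecialLinearGroup (Fin 2) K →* Γ := QuotientGroup.lift (Subgroup.center (SpecialLinearGroup (Fin 2) K)) ψ hcen
  have hs' : Function.Surjective ψ' := by
    intro g
    obtain ⟨x, rfl⟩ := hsurj g
    exact ⟨QuotientGroup.mk x, rfl⟩
  exact Nat.card_le_card_of_surjective ψ' hs'

end psl

/-- the finishing lemma -/
theorem pres_of {T : Type*} [Group T] [Finite T] (L : List (FreeGroup (Fin 3))) (n : ℕ) (hn : L.length ≤ n) (u h t : T)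
    (hgen : Subgroup.closure ({u, h, t} : Set T) = ⊤) (hrel : ∀ r ∈ L, FreeGroup.lift ![u, h, t] r = 1)
    (hΓ : ∀ (Γ : Type) [Group Γ] (u h t : Γ), Subgroup.closure ({u, h, t} : Set Γ) = ⊤ → (∀ r ∈ L, FreeGroup.lift ![u, h, t] r = 1) →
      Finite Γ ∧ Nat.card Γ ≤ Nat.card T) :
    ∃ rels : Finset (FreeGroup (Fin 3)), rels.card ≤ n ∧ Nonempty (PresentedGroup (↑rels : Set (FreeGroup (Fin 3))) ≃* T) := by
  classical
  refine ⟨L.toFinset, (List.toFinset_card_le L).trans hn, ?_⟩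
  have hr : ∀ r ∈ (↑L.toFinset : Set (FreeGroup (Fin 3))), FreeGroup.lift ![u, h, t] r = 1 := by
    intro r hr
    exact hrel r (by simpa using hr)
  let φ : PresentedGroup (↑L.toFinset : Set (FreeGroup (Fin 3))) →* T := PresentedGroup.toGroup hr
  have hφ : ∀ i, φ (PresentedGroup.of i) = ![u, h, t] i := fun i => PresentedGroup.toGroup.of hr
  have hsurj : Function.Surjective φ := by
    rw [← MonoidHom.range_eq_top, eq_top_iff, ← hgen, Subgroup.closure_le]
    rintro _ (rfl | rfl | rfl)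
    · exact ⟨_, hφ 0⟩
    · exact ⟨_, hφ 1⟩
    · exact ⟨_, hφ 2⟩
  obtain ⟨hfin, hcard⟩ := hΓ (PresentedGroup (↑L.toFinset : Set (FreeGroup (Fin 3)))) (PresentedGroup.of 0) (PresentedGroup.of 1) (PresentedGroup.of 2) (by
      rw [eq_top_iff, ← PresentedGroup.closure_range_of, Subgroup.closure_le]
      rintro _ ⟨i, rfl⟩
      apply Subgroup.subset_closure
      fin_cases i <;> simp) (by
      intro r hr
      have h1 : FreeGroup.lift ![(PresentedGroup.of 0 : PresentedGroup (↑L.toFinset : Set (FreeGroup (Fin 3)))), PresentedGroup.of 1, PresentedGroup.of 2] = PresentedGroup.mk _ := by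
        apply FreeGroup.ext_hom
        intro i
        rw [FreeGroup.lift_apply_of]
        fin_cases i <;> rfl
      rw [h1]
      exact PresentedGroup.one_of_mem (by simpa using hr))
  have hbij : Function.Bijective φ := by
    exact (Nat.bijective_iff_surjective_and_card φ).2 ⟨hsurj, le_antisymm hcard (Nat.card_le_card_of_surjective _ hsurj)⟩
  exact ⟨MulEquiv.ofBijective φ hbij⟩

end Cfsg.Agent.H1.Pres
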