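import Cfsg.Agent.H1.PrC

set_option autoImplicit false
set_option linter.all false

namespace Cfsg.Agent.H1.Pres

open Polynomial

section field

variable {K : Type*} [Field K] [Fintype K]

lemma exists_zeta (K : Type*) [Field K] [Fintype K] : ∃ ζ : K, ζ ≠ 0 ∧ (∀ x : K, x ≠ 0 → ∃ n : ℕ, ζ ^ n = x) ∧ orderOf ζ = Fintype.card K - 1 := by
  classical
  obtain ⟨g, hg⟩ := IsCyclic.exists_generator (α := Kˣ)
  refine ⟨g, g.ne_zero, fun x hx => ?_, ?_⟩
  · obtain ⟨n, hn⟩ := mem_powers_iff_mem_zpowers.2 (hg (Units.mk0 x hx))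
    refine ⟨n, ?_⟩
    have := congrArg Units.val hn
    simpa using this
  · rw [orderOf_units, orderOf_eq_card_of_forall_mem_zpowers hg, Nat.card_eq_fintype_card, Fintype.card_units]

lemma full_of {p : ℕ} [Fact p.Prime] [Algebra (ZMod p) K] (b : K)
    (hb : ∀ k : ℕ, 2 ≤ p ^ k → (∀ y ∈ IntermediateField.adjoin (ZMod p) ({b} : Set K), y ^ (p ^ k) = y) → (p ^ k) ^ 2 ≤ Fintype.card K → False) :
    ∀ y : K, ∃ f : (ZMod p)[X], aeval b f = y := by
  classical
  haveI : CharP K p := (Algebra.charP_iff (ZMod p) K p).1 inferInstance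
  haveI : Fintype (IntermediateField.adjoin (ZMod p) ({b} : Set K)) := Fintype.ofFinite _
  haveI : CharP (IntermediateField.adjoin (ZMod p) ({b} : Set K)) p := (Algebra.charP_iff (ZMod p) _ p).1 inferInstance
  have hL : IntermediateField.adjoin (ZMod p) ({b} : Set K) = ⊤ := by
    by_contra hne
    obtain ⟨n, hp, hn⟩ := FiniteField.card (IntermediateField.adjoin (ZMod p) ({b} : Set K)) p
    have h1 : Module.finrank (IntermediateField.adjoin (ZMod p) ({b} : Set K)) K ≠ 1 := by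
      intro h
      exact hne (IntermediateField.finrank_eq_one_iff_eq_top.1 h)
    have h0 : 0 < Module.finrank (IntermediateField.adjoin (ZMod p) ({b} : Set K)) K := Module.finrank_pos
    have h2 := Module.card_eq_pow_finrank (K := (IntermediateField.adjoin (ZMod p) ({b} : Set K))) (V := K)
    rw [hn] at h2
    refine hb n ?_ ?_ ?_
    · exact hp.two_le.trans (Nat.le_self_pow n.2.ne' p)
    · intro y hy
      have := FiniteField.pow_card (⟨y, hy⟩ : IntermediateField.adjoin (ZMod p) ({b} : Set K))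
      rw [hn] at this
      exact congrArg Subtype.val this
    · rw [h2]
      exact Nat.pow_le_pow_right (Nat.pos_of_ne_zero (pow_ne_zero _ hp.ne_zero)) (by omega)
  intro y
  have hy : y ∈ (IntermediateField.adjoin (ZMod p) ({b} : Set K)).toSubalgebra := by
    rw [hL]; trivial
  rw [IntermediateField.adjoin_toSubalgebra, Algebra.adjoin_singleton_eq_range_aeval] at hy
  exact hy

variable {p : ℕ} [Fact p.Prime] [Algebra (ZMod p) K] {ζ : K}

lemma full_sq (hord : orderOf ζ = Fintype.card K - 1) : ∀ y : K, ∃ f : (ZMod p)[X], aeval (ζ ^ 2) f = y := by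
  apply full_of
  intro k hk h1 h2
  have h0 : ζ ≠ 0 := by
    rintro rfl
    have h3 : 2 ^ 2 ≤ Fintype.card K := (Nat.pow_le_pow_left hk 2).trans h2
    have h4 := pow_orderOf_eq_one (0 : K)
    rw [hord, zero_pow (by omega)] at h4
    exact zero_ne_one h4
  have h3 := h1 (ζ ^ 2) (IntermediateField.mem_adjoin_simple_self _ _)
  have h4 : ζ ^ (2 * (p ^ k - 1)) = 1 := by
    obtain ⟨r, hr⟩ : ∃ r, p ^ k = r + 1 := ⟨p ^ k - 1, by omega⟩
    rw [hr] at h3 ⊢
    rw [← pow_mul, Nat.add_sub_cancel] at *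
    have : ζ ^ (2 * r) * ζ ^ 2 = 1 * ζ ^ 2 := by
      rw [one_mul, ← pow_add, ← h3]
      congr 1
    exact mul_right_cancel₀ (pow_ne_zero 2 h0) this
  have h5 := Nat.le_of_dvd (by omega) (orderOf_dvd_of_pow_eq_one h4)
  rw [hord] at h5
  generalize p ^ k = r at *
  nlinarith [Nat.sub_add_cancel (show 1 ≤ r by omega), Nat.sub_add_cancel (show 1 ≤ Fintype.card K from Fintype.card_pos)]

lemma full_b (hord : orderOf ζ = Fintype.card K - 1) (h2 : (2 : K) ≠ 0) (hq : 10 ≤ Fintype.card K) :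
    ∀ y : K, ∃ f : (ZMod p)[X], aeval (((ζ + ζ⁻¹) / 2) ^ 2) f = y := by
  haveI : CharP K p := (Algebra.charP_iff (ZMod p) K p).1 inferInstance
  haveI : ExpChar K p := ExpChar.prime Fact.out
  apply full_of
  intro k hk h1 h3
  have h0 : ζ ≠ 0 := by
    rintro rfl
    have h4 := pow_orderOf_eq_one (0 : K)
    rw [hord, zero_pow (by omega)] at h4
    exact zero_ne_one h4
  have hb := IntermediateField.mem_adjoin_simple_self (ZMod p) (((ζ + ζ⁻¹) / 2) ^ 2)
  have hc : ζ ^ 2 + (ζ⁻¹) ^ 2 ∈ IntermediateField.adjoin (ZMod p) ({((ζ + ζ⁻¹) / 2) ^ 2} : Set K) := by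
    have e : ζ ^ 2 + (ζ⁻¹) ^ 2 = (4 : ℕ) • ((ζ + ζ⁻¹) / 2) ^ 2 - (2 : ℕ) • 1 := by
      simp only [nsmul_eq_mul]
      push_cast
      field_simp
      ring
    rw [e]
    exact sub_mem (nsmul_mem hb _) (nsmul_mem (one_mem _) _)
  have h4 := h1 _ hc
  rw [add_pow_expChar_pow] at h4
  have h5 : ((ζ ^ 2) ^ p ^ k - ζ ^ 2) * ((ζ ^ 2) ^ p ^ k * ζ ^ 2 - 1) = 0 := by
    rw [inv_pow, inv_pow] at h4
    have h6 : ζ ^ 2 ≠ 0 := pow_ne_zero 2 h0
    have h7 : (ζ ^ 2) ^ p ^ k ≠ 0 := pow_ne_zero _ h6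
    generalize (ζ ^ 2) ^ p ^ k = A at *
    generalize ζ ^ 2 = a at *
    field_simp at h4
    linear_combination h4
  have hpos : 0 < Fintype.card K := Fintype.card_pos
  rcases mul_eq_zero.1 h5 with h6 | h6
  · have h4 : ζ ^ (2 * (p ^ k - 1)) = 1 := by
      obtain ⟨r, hr⟩ : ∃ r, p ^ k = r + 1 := ⟨p ^ k - 1, by omega⟩
      rw [hr] at h6 ⊢
      have h3 := sub_eq_zero.1 h6
      rw [← pow_mul, Nat.add_sub_cancel] at *
      have : ζ ^ (2 * r) * ζ ^ 2 = 1 * ζ ^ 2 := by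
        rw [one_mul, ← pow_add, ← h3]
        congr 1
      exact mul_right_cancel₀ (pow_ne_zero 2 h0) this
    have h5 := Nat.le_of_dvd (by omega) (orderOf_dvd_of_pow_eq_one h4)
    rw [hord] at h5
    generalize p ^ k = r at *
    nlinarith [Nat.sub_add_cancel (show 1 ≤ r by omega), Nat.sub_add_cancel (show 1 ≤ Fintype.card K from Fintype.card_pos)]
  · have h4 : ζ ^ (2 * (p ^ k + 1)) = 1 := by
      have h3 := sub_eq_zero.1 h6
      rw [← h3]; ring
    have h5 := Nat.le_of_dvd (by omega) (orderOf_dvd_of_pow_eq_one h4)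
    rw [hord] at h5
    generalize p ^ k = r at *
    have h8 : r ≤ 3 := by
      by_contra h9
      push Not at h9
      have h10 : r ^ 2 ≤ 2 * (r + 1) + 1 := by omega
      nlinarith
    omega

end field

section bp

open Polynomial

/-- short Borel presentations -/
def BP.{v} (K : Type v) [Field K] (ζ : K) : Prop :=
  ∃ (L : List (FreeGroup (Fin 3))) (W : FreeGroup (Fin 3)), L.length ≤ 5 ∧
    (∀ (Γ : Type) [Group Γ] (u h t : Γ), (∀ r ∈ L, FreeGroup.lift ![u, h, t] r = 1) →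
      ∃ υ : K → Γ, υ 1 = u ∧ Ups υ h (ζ ^ 2) ∧ FreeGroup.lift ![u, h, t] W = υ ζ) ∧
    (∀ (Γ : Type v) [Group Γ] (υ : K → Γ) (h t : Γ), Ups υ h (ζ ^ 2) →
      (∀ r ∈ L, FreeGroup.lift ![υ 1, h, t] r = 1) ∧ FreeGroup.lift ![υ 1, h, t] W = υ ζ)

abbrev gU : FreeGroup (Fin 3) := FreeGroup.of 0
abbrev gH : FreeGroup (Fin 3) := FreeGroup.of 1
abbrev gT : FreeGroup (Fin 3) := FreeGroup.of 2

lemma lU {Γ : Type*} [Group Γ] (u h t : Γ) : FreeGroup.lift ![u, h, t] gU = u := by simp [gU]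
lemma lH {Γ : Type*} [Group Γ] (u h t : Γ) : FreeGroup.lift ![u, h, t] gH = h := by simp [gH]
lemma lT {Γ : Type*} [Group Γ] (u h t : Γ) : FreeGroup.lift ![u, h, t] gT = t := by simp [gT]

lemma wd_zero {Γ : Type*} [Group Γ] {p : ℕ} [Fact p.Prime] (u h : Γ) : wd (0 : (ZMod p)[X]) u h = 1 := by
  simp [wd, cj_one]

theorem exists_ups {Γ K : Type*} [Group Γ] [Field K] {p : ℕ} [Fact p.Prime] [Algebra (ZMod p) K] {u h : Γ} (a : K)
    (ha : ∀ y : K, ∃ f : (ZMod p)[X], aeval a f = y)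
    (hu : u ^ p = 1) (hc : ∀ i : ℕ, Commute u (cj (h ^ i) u)) (hm : wd (minpoly (ZMod p) a) u h = 1) :
    ∃ υ : K → Γ, υ 1 = u ∧ Ups υ h a ∧ ∀ f : (ZMod p)[X], wd f u h = υ (aeval a f) :=
  exists_ups' a ha hu hc (minpoly (ZMod p) a) 0 (Or.inl hm) (by rw [wd_zero, cj_one]) ⟨1, 0, by ring⟩

lemma comm_small {Γ : Type*} [Group Γ] {p : ℕ} [Fact p.Prime] {u h : Γ} (m : (ZMod p)[X]) (hmon : m.Monic) (h0 : 0 < m.natDegree) (h2 : m.natDegree ≤ 2)
    (hc : Commute u (cj h u)) (hm : wd m u h = 1) : ∀ i : ℕ, Commute u (cj (h ^ i) u) := by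
  have hu : u ∈ Subgroup.closure ({u, cj h u} : Set Γ) := Subgroup.subset_closure (by simp)
  have hv : cj h u ∈ Subgroup.closure ({u, cj h u} : Set Γ) := Subgroup.subset_closure (by simp)
  have hw : cj h (cj h u) ∈ Subgroup.closure ({u, cj h u} : Set Γ) := by
    have hd : m.natDegree = 1 ∨ m.natDegree = 2 := by omega
    haveI : Fact (1 < p) := ⟨(Fact.out : p.Prime).one_lt⟩
    rcases hd with hd | hd
    · have hl : m.coeff 1 = 1 := by rw [← hd]; exact hmon
      unfold wd at hm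
      rw [hd] at hm
      simp only [List.range_succ, List.range_zero, List.nil_append, List.map_append, List.map_cons, List.map_nil, List.prod_append,
        List.prod_cons, List.prod_nil, mul_one, pow_zero, pow_one, one_cj, hl, ZMod.val_one, List.cons_append] at hm
      have h3 : cj h u = (u ^ (m.coeff 0).val)⁻¹ := (eq_inv_of_mul_eq_one_right hm)
      have h4 : cj h (cj h u) = ((cj h u) ^ (m.coeff 0).val)⁻¹ := by
        conv_lhs => rw [h3, cj_inv, cj_pow]
      rw [h4]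
      exact Subgroup.inv_mem _ (Subgroup.pow_mem _ hv _)
    · have hl : m.coeff 2 = 1 := by rw [← hd]; exact hmon
      unfold wd at hm
      rw [hd] at hm
      simp only [List.range_succ, List.range_zero, List.nil_append, List.map_append, List.map_cons, List.map_nil, List.prod_append,
        List.prod_cons, List.prod_nil, mul_one, pow_zero, pow_one, one_cj, hl, ZMod.val_one, List.cons_append] at hm
      have h3 : cj (h ^ 2) u = (u ^ (m.coeff 0).val * cj h (u ^ (m.coeff 1).val))⁻¹ := (eq_inv_of_mul_eq_one_right (by rw [← hm]; group))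
      rw [cj_cj, ← sq, h3, cj_pow]
      exact Subgroup.inv_mem _ (Subgroup.mul_mem _ (Subgroup.pow_mem _ hu _) (Subgroup.pow_mem _ hv _))
  have hM : ∀ x ∈ Subgroup.closure ({u, cj h u} : Set Γ), cj h x ∈ Subgroup.closure ({u, cj h u} : Set Γ) := by
    intro x hx
    induction hx using Subgroup.closure_induction with
    | mem x hx =>
      rcases hx with rfl | rfl
      · exact hv
      · exact hw
    | one => rw [cj_one]; exact Subgroup.one_mem _
    | mul x y _ _ hx hy => rw [cj_mul]; exact Subgroup.mul_mem _ hx hy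
    | inv x _ hx => rw [cj_inv]; exact Subgroup.inv_mem _ hx
  have hI : ∀ i : ℕ, cj (h ^ i) u ∈ Subgroup.closure ({u, cj h u} : Set Γ) := by
    intro i
    induction i with
    | zero => rw [pow_zero, one_cj]; exact hu
    | succ i ih => rw [pow_succ, ← cj_cj]; exact hM _ ih
  have hC : Subgroup.closure ({u, cj h u} : Set Γ) ≤ Subgroup.centralizer {u} := by
    rw [Subgroup.closure_le]
    rintro x (rfl | rfl)
    · rw [SetLike.mem_coe, Subgroup.mem_centralizer_singleton_iff]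
    · rw [SetLike.mem_coe, Subgroup.mem_centralizer_singleton_iff]
      exact hc.symm.eq
  intro i
  have h6 := hC (hI i)
  rw [Subgroup.mem_centralizer_singleton_iff] at h6
  exact (show Commute (cj (h ^ i) u) u from h6).symm

theorem bp_small (K : Type*) [Field K] [Fintype K] {p : ℕ} [Fact p.Prime] [Algebra (ZMod p) K] {ζ : K}
    (hord : orderOf ζ = Fintype.card K - 1) (hn : Module.finrank (ZMod p) K ≤ 2) : BP K ζ := by
  have hfull := full_sq (p := p) hord
  obtain ⟨f, hf⟩ := hfull ζ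
  haveI : CharP K p := (Algebra.charP_iff (ZMod p) K p).1 inferInstance
  have hint : IsIntegral (ZMod p) (ζ ^ 2) := Algebra.IsIntegral.isIntegral _
  refine ⟨[gU ^ p, gU * cj gH gU * (cj gH gU * gU)⁻¹, wd (minpoly (ZMod p) (ζ ^ 2)) gU gH], wd f gU gH, by simp, ?_, ?_⟩
  · intro Γ _ u h t hr
    simp only [List.mem_cons, List.not_mem_nil, or_false, forall_eq_or_imp, forall_eq] at hr
    obtain ⟨r1, r2, r3⟩ := hr
    rw [map_pow, lU] at r1
    rw [map_mul, map_inv, map_mul, map_mul, map_cj, lU, lH, mul_inv_eq_one] at r2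
    rw [map_wd, lU, lH] at r3
    have hc := comm_small (minpoly (ZMod p) (ζ ^ 2)) (minpoly.monic hint) (minpoly.natDegree_pos hint) ((minpoly.natDegree_le _).trans hn) r2 r3
    obtain ⟨υ, h1, h2, h3⟩ := exists_ups (ζ ^ 2) hfull r1 hc r3
    refine ⟨υ, h1, h2, ?_⟩
    rw [map_wd, lU, lH, h3, hf]
  · intro Γ _ υ h t U
    refine ⟨?_, ?_⟩
    · simp only [List.mem_cons, List.not_mem_nil, or_false, forall_eq_or_imp, forall_eq]
      refine ⟨?_, ?_, ?_⟩
      · rw [map_pow, lU, U.npow, CharP.cast_eq_zero, zero_mul, U.zero]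
      · rw [map_mul, map_inv, map_mul, map_mul, map_cj, lU, lH, mul_inv_eq_one, U.act, U.comm]
      · rw [map_wd, lU, lH, U.wd_eq, minpoly.aeval, U.zero]
    · rw [map_wd, lU, lH, U.wd_eq, hf]

theorem bp_big (K : Type*) [Field K] [Fintype K] {p : ℕ} [Fact p.Prime] [Algebra (ZMod p) K] {ζ : K} (h0 : ζ ≠ 0)
    (hζ : ∀ x : K, x ≠ 0 → ∃ n : ℕ, ζ ^ n = x)
    (hord : orderOf ζ = Fintype.card K - 1) (h2 : (2 : K) ≠ 0) (hq : 10 ≤ Fintype.card K) : BP K ζ := by
  have hfull := full_b (p := p) hord h2 hq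
  haveI : CharP K p := (Algebra.charP_iff (ZMod p) K p).1 inferInstance
  have hpow : ∀ n : ℕ, 0 < n → n < 9 → ζ ^ n ≠ 1 := by
    intro n hn hn2 h
    have := Nat.le_of_dvd hn (orderOf_dvd_of_pow_eq_one h)
    omega
  have hb0 : (ζ + ζ⁻¹) / 2 ≠ 0 := by
    intro h
    have h3 : ζ ^ 2 = -1 := by
      field_simp at h
      linear_combination h
    apply hpow 4 (by norm_num) (by norm_num)
    linear_combination (ζ ^ 2 - 1) * h3
  have hc0 : (ζ - ζ⁻¹) / 2 ≠ 0 := by
    intro h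
    have h3 : ζ ^ 2 = 1 := by
      field_simp at h
      linear_combination h
    exact hpow 2 (by norm_num) (by norm_num) h3
  obtain ⟨k, hk⟩ := hζ _ hb0
  obtain ⟨l, hl⟩ := hζ _ hc0
  have hk2 : (ζ ^ 2) ^ k = ((ζ + ζ⁻¹) / 2) ^ 2 := by rw [← hk]; ring
  have hkl : (ζ ^ 2) ^ k = 1 + (ζ ^ 2) ^ l := by
    have hl2 : (ζ ^ 2) ^ l = ((ζ - ζ⁻¹) / 2) ^ 2 := by rw [← hl]; ring
    rw [hk2, hl2]
    field_simp
    ring
  rw [← hk2] at hfull
  obtain ⟨f, hf⟩ := hfull ζ
  obtain ⟨g, hg⟩ := hfull (ζ ^ 2)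
  refine ⟨[gU ^ p, cj (gH ^ k) gU * (gU * cj (gH ^ l) gU)⁻¹, gU * cj (gH ^ l) gU * (cj (gH ^ l) gU * gU)⁻¹,
    wd (minpoly (ZMod p) ((ζ ^ 2) ^ k)) gU (gH ^ k), cj gH gU * (wd g gU (gH ^ k))⁻¹], wd f gU (gH ^ k), by simp, ?_, ?_⟩
  · intro Γ _ u h t hr
    simp only [List.mem_cons, List.not_mem_nil, or_false, forall_eq_or_imp, forall_eq] at hr
    obtain ⟨r1, r2, r3, r4, r5⟩ := hr
    rw [map_pow, lU] at r1
    rw [map_mul, map_inv, map_mul, map_cj, map_cj, map_pow, map_pow, lU, lH, mul_inv_eq_one] at r2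
    rw [map_mul, map_inv, map_mul, map_mul, map_cj, map_pow, lU, lH, mul_inv_eq_one] at r3
    rw [map_wd, map_pow, lU, lH] at r4
    rw [map_mul, map_inv, map_cj, map_wd, map_pow, lU, lH, mul_inv_eq_one] at r5
    have hc := comm_rel2 (u := u) ((Commute.refl h).pow_pow k l) r2 r3
    obtain ⟨υ, h1, h2, h3⟩ := exists_ups ((ζ ^ 2) ^ k) hfull r1 hc r4
    refine ⟨υ, h1, ⟨h2.add, ?_⟩, ?_⟩
    · intro y
      obtain ⟨f, rfl⟩ := hfull y
      rw [← h3]
      have e1 : cj h (wd f u (h ^ k)) = wd f (cj h u) (h ^ k) := by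
        have e2 : ∀ x : Γ, cj h x = (MulAut.conj h⁻¹).toMonoidHom x := by
          intro x
          show h⁻¹ * x * h = h⁻¹ * x * h⁻¹⁻¹
          rw [inv_inv]
        rw [e2, map_wd, ← e2, ← e2]
        congr 1
        unfold cj
        rw [mul_assoc, ← pow_succ, pow_succ', ← mul_assoc, inv_mul_cancel, one_mul]
      rw [e1, r5, h3, hg, h2.wd_eq', mul_comm]
    · rw [map_wd, map_pow, lU, lH, h3, hf]
  · intro Γ _ υ h t U
    have Uk := U.upsPow k
    refine ⟨?_, ?_⟩
    · simp only [List.mem_cons, List.not_mem_nil, or_false, forall_eq_or_imp, forall_eq]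
      refine ⟨?_, ?_, ?_, ?_, ?_⟩
      · rw [map_pow, lU, U.npow, CharP.cast_eq_zero, zero_mul, U.zero]
      · rw [map_mul, map_inv, map_mul, map_cj, map_cj, map_pow, map_pow, lU, lH, mul_inv_eq_one, U.actPow, U.actPow, ← U.add, mul_one, mul_one, hkl]
      · rw [map_mul, map_inv, map_mul, map_mul, map_cj, map_pow, lU, lH, mul_inv_eq_one, U.actPow, U.comm]
      · rw [map_wd, map_pow, lU, lH, Uk.wd_eq, minpoly.aeval, U.zero]
      · rw [map_mul, map_inv, map_cj, map_wd, map_pow, lU, lH, mul_inv_eq_one, Uk.wd_eq, hg, U.act, mul_one]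
    · rw [map_wd, map_pow, lU, lH, Uk.wd_eq, hf]

end bp

end Cfsg.Agent.H1.Pres
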