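import Cfsg.Agent.H1.PrD

set_option autoImplicit false
set_option linter.all false

namespace Cfsg.Agent.H1.Pres

open Polynomial Matrix

section frm

variable {Γ K : Type*} [Group Γ] [Field K] {υ : K → Γ} {h t w : Γ} {ζ : K}

lemma th' (hinv : h * t * h = t) (j : ℕ) : h ^ j * t * h ^ j = t := by
  induction j with
  | zero => simp
  | succ j ih =>
    have e : h ^ j * h = h * h ^ j := (pow_succ h j).symm.trans (pow_succ' h j)
    calc h ^ (j + 1) * t * h ^ (j + 1) = h ^ j * h * t * (h ^ j * h) := by rw [pow_succ]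
      _ = h ^ j * h * t * (h * h ^ j) := by rw [e]
      _ = h ^ j * (h * t * h) * h ^ j := by group
      _ = t := by rw [hinv, ih]

lemma tth' (hinv : h * t * h = t) : t ^ 2 * h = h * t ^ 2 := by
  have h1 : t * h = h⁻¹ * t := by
    calc t * h = h⁻¹ * (h * t * h) := by group
      _ = h⁻¹ * t := by rw [hinv]
  have h2 : t * h⁻¹ = h * t := by
    calc t * h⁻¹ = (h * t * h) * h⁻¹ := by rw [hinv]
      _ = h * t := by group
  calc t ^ 2 * h = t * (t * h) := by rw [sq, mul_assoc]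
    _ = (t * h⁻¹) * t := by rw [h1]; group
    _ = h * t ^ 2 := by rw [h2, sq, mul_assoc]

lemma rel_shift (U : Ups υ h (ζ ^ 2)) (hinv : h * t * h = t) (hwh : w * h = h * w) {x : K} {j : ℕ}
    (hR : (υ x * t * h ^ j) ^ 3 = w) (i : ℕ) : (υ ((ζ ^ 2) ^ i * x) * t * h ^ (2 * i + j)) ^ 3 = w := by
  have h1 : cj (h ^ i) w = w := by
    unfold cj
    have : w * h ^ i = h ^ i * w := ((show Commute w h from hwh).pow_right i).eq
    rw [mul_assoc, this]; group
  have h2 : cj (h ^ i) t = t * h ^ (2 * i) := by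
    unfold cj
    have := th' hinv i
    calc (h ^ i)⁻¹ * t * h ^ i = (h ^ i)⁻¹ * (h ^ i * t * h ^ i) * h ^ i := by rw [this]
      _ = t * (h ^ i * h ^ i) := by group
      _ = t * h ^ (2 * i) := by rw [← pow_add, two_mul]
  have h3 : cj (h ^ i) (h ^ j) = h ^ j := by
    unfold cj
    rw [mul_assoc, ← pow_add, add_comm, pow_add]; group
  rw [← h1, ← hR, cj_pow, cj_mul, cj_mul, h2, h3, U.actPow]
  congr 1
  rw [mul_assoc, mul_assoc, mul_assoc, pow_add]

theorem mk_frm (hζ0 : ζ ≠ 0) (U : Ups υ h (ζ ^ 2)) (hinv : h * t * h = t) (hz : ∀ y, t ^ 2 * υ y = υ y * t ^ 2)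
    (hw : w = t ^ 2 ∨ (w = 1 ∧ t ^ 4 = 1)) (hN : h ^ orderOf ζ = 1)
    (hR0 : (υ 1 * t) ^ 3 = w)
    (hR1 : (∀ x : K, x ≠ 0 → ∃ n : ℕ, (ζ ^ 2) ^ n = x) ∨ ((υ ζ * t * h) ^ 3 = w ∧ ∀ x : K, x ≠ 0 → ∃ n : ℕ, ζ ^ n = x)) :
    Frm υ h t w ζ where
  ups := U
  inv := hinv
  zc := hz
  hw := hw
  hq := by
    intro i j hij
    have h1 : (Units.mk0 ζ hζ0) ^ i = (Units.mk0 ζ hζ0) ^ j := by
      apply Units.ext
      simpa using hij
    rw [pow_eq_pow_iff_modEq] at h1
    rw [pow_eq_pow_iff_modEq]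
    have h2 : orderOf (Units.mk0 ζ hζ0) = orderOf ζ := by rw [← orderOf_units]; rfl
    rw [h2] at h1
    exact h1.of_dvd (orderOf_dvd_of_pow_eq_one hN)
  rel := by
    have hwh : w * h = h * w := by
      rcases hw with h1 | ⟨h1, -⟩
      · rw [h1]; exact tth' hinv
      · rw [h1, one_mul, mul_one]
    intro x hx
    have hR0' : (υ 1 * t * h ^ 0) ^ 3 = w := by rw [pow_zero, mul_one]; exact hR0
    have hE : ∀ n : ℕ, (ζ ^ 2) ^ n = x → ∃ j : ℕ, ζ ^ j = x ∧ (υ x * t * h ^ j) ^ 3 = w := by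
      intro n hn
      refine ⟨2 * n, by rw [pow_mul, hn], ?_⟩
      have := rel_shift U hinv hwh hR0' n
      rw [mul_one, hn, add_zero] at this
      exact this
    rcases hR1 with hE2 | ⟨hR1, hg⟩
    · obtain ⟨n, hn⟩ := hE2 x hx
      exact hE n hn
    · obtain ⟨n, hn⟩ := hg x hx
      rcases Nat.even_or_odd' n with ⟨i, rfl | rfl⟩
      · exact hE i (by rw [← pow_mul, hn])
      · refine ⟨2 * i + 1, hn, ?_⟩
        have hR1' : (υ ζ * t * h ^ 1) ^ 3 = w := by rw [pow_one]; exact hR1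
        have := rel_shift U hinv hwh hR1' i
        have e : (ζ ^ 2) ^ i * ζ = x := by rw [← hn]; ring
        rw [e] at this
        exact this

end frm

lemma zeta_half {K : Type*} [Field K] [Fintype K] {ζ : K} (h2 : (2 : K) ≠ 0) (hord : orderOf ζ = Fintype.card K - 1) :
    ∃ m : ℕ, 2 * m = Fintype.card K - 1 ∧ ζ ^ m = -1 := by
  have hodd : Fintype.card K % 2 = 1 := FiniteField.odd_card_of_char_ne_two (fun h => h2 (by
    haveI := ringChar.charP K
    rw [h] at this
    exact_mod_cast CharP.cast_eq_zero K 2))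
  have hq : 1 < Fintype.card K := Fintype.one_lt_card
  refine ⟨(Fintype.card K - 1) / 2, by omega, ?_⟩
  have h1 : ζ ^ (Fintype.card K - 1) = 1 := by rw [← hord]; exact pow_orderOf_eq_one ζ
  have h3 : ζ ^ ((Fintype.card K - 1) / 2) ≠ 1 := by
    intro h
    have := Nat.le_of_dvd (by omega) (orderOf_dvd_of_pow_eq_one h)
    omega
  have h4 : (ζ ^ ((Fintype.card K - 1) / 2) - 1) * (ζ ^ ((Fintype.card K - 1) / 2) + 1) = 0 := by
    have h5 : (ζ ^ ((Fintype.card K - 1) / 2)) ^ 2 = 1 := by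
      rw [← pow_mul, show (Fintype.card K - 1) / 2 * 2 = Fintype.card K - 1 by omega, h1]
    linear_combination h5
  rcases mul_eq_zero.1 h4 with h | h
  · exact absurd (sub_eq_zero.1 h) h3
  · exact eq_neg_of_add_eq_zero_left h

theorem bp_odd (K : Type*) [Field K] [Fintype K] {p : ℕ} [Fact p.Prime] [Algebra (ZMod p) K] (h2 : (2 : K) ≠ 0) :
    ∃ ζ : K, ζ ≠ 0 ∧ (∀ x : K, x ≠ 0 → ∃ n : ℕ, ζ ^ n = x) ∧ orderOf ζ = Fintype.card K - 1 ∧ BP K ζ := by
  obtain ⟨ζ, h0, hζ, hord⟩ := exists_zeta K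
  refine ⟨ζ, h0, hζ, hord, ?_⟩
  rcases Nat.lt_or_ge (Fintype.card K) 10 with h | h
  · apply bp_small (p := p) K hord
    by_contra hn
    push Not at hn
    have h3 := Module.card_eq_pow_finrank (K := ZMod p) (V := K)
    rw [ZMod.card] at h3
    have hp : (Fact.out : p.Prime).two_le = (Fact.out : p.Prime).two_le := rfl
    have hp2 : p ≠ 2 := by
      rintro rfl
      haveI : CharP K 2 := (Algebra.charP_iff (ZMod 2) K 2).1 inferInstance
      exact h2 (by exact_mod_cast CharP.cast_eq_zero K 2)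
    have hp3 : 3 ≤ p := by have := (Fact.out : p.Prime).two_le; omega
    have h5 : 3 ^ 3 ≤ p ^ Module.finrank (ZMod p) K := (Nat.pow_le_pow_left hp3 3).trans (Nat.pow_le_pow_right (by omega) hn)
    omega
  · exact bp_big (p := p) K h0 hζ hord h2 h

theorem sl_odd (K : Type*) [Field K] [Fintype K] {p : ℕ} [Fact p.Prime] [Algebra (ZMod p) K] (h2 : (2 : K) ≠ 0) :
    ∃ rels : Finset (FreeGroup (Fin 3)), rels.card ≤ 9 ∧ Nonempty (PresentedGroup (↑rels : Set (FreeGroup (Fin 3))) ≃* Matrix.SpecialLinearGroup (Fin 2) K) := by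
  classical
  obtain ⟨ζ, h0, hζ, hord, L, W, hL, hA, hB⟩ := bp_odd (p := p) K h2
  obtain ⟨m, hm, hm2⟩ := zeta_half h2 hord
  have h1 : (ζ ^ 2) ^ m = 1 := by rw [← pow_mul, hm, ← hord, pow_orderOf_eq_one]
  refine pres_of (T := Matrix.SpecialLinearGroup (Fin 2) K) (L ++ [gH * gT * gH * gT⁻¹, (gU * gT) ^ 3, (W * gT * gH) ^ 3, gH ^ m * (gT ^ 2)⁻¹]) 9
    (by rw [List.length_append]; simp; omega) (sU 1) (sH ζ h0) sT (s_gen (p := p) h0 (full_sq hord)) ?_ ?_
  · intro r hr
    obtain ⟨hB1, hB2⟩ := hB (Matrix.SpecialLinearGroup (Fin 2) K) sU (sH ζ h0) sT (s_ups h0)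
    rw [List.mem_append] at hr
    rcases hr with hr | hr
    · exact hB1 r hr
    · simp only [List.mem_cons, List.not_mem_nil, or_false] at hr
      rcases hr with rfl | rfl | rfl | rfl
      · rw [map_mul, map_mul, map_mul, map_inv, lH, lT, s_inv, mul_inv_cancel]
      · rw [map_pow, map_mul, lU, lT, s_R0]
      · rw [map_pow, map_mul, map_mul, lH, lT, hB2, s_R1]
      · rw [map_mul, map_pow, map_inv, map_pow, lH, lT, sH_pow_neg h0 hm2, s_T2, mul_inv_cancel]
  · intro Γ _ u h t hgen hr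
    obtain ⟨υ, rfl, U, hW⟩ := hA Γ u h t (fun r hr' => hr r (List.mem_append.2 (Or.inl hr')))
    have r1 := hr (gH * gT * gH * gT⁻¹) (by simp)
    have r2 := hr ((gU * gT) ^ 3) (by simp)
    have r3 := hr ((W * gT * gH) ^ 3) (by simp)
    have r4 := hr (gH ^ m * (gT ^ 2)⁻¹) (by simp)
    rw [map_mul, map_mul, map_mul, map_inv, lH, lT, mul_inv_eq_one] at r1
    rw [map_pow, map_mul, lU, lT] at r2
    rw [map_pow, map_mul, map_mul, lH, lT, hW] at r3
    rw [map_mul, map_pow, map_inv, map_pow, lH, lT, mul_inv_eq_one] at r4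
    have ht4 : t ^ 4 = 1 := by
      have h3 := th' r1 m
      rw [r4] at h3
      have h4 : t ^ 4 * t = 1 * t := by
        rw [one_mul]
        conv_rhs => rw [← h3]
        simp only [pow_succ, pow_zero, one_mul, mul_assoc]
      exact mul_right_cancel h4
    have hz : ∀ y, t ^ 2 * υ y = υ y * t ^ 2 := by
      intro y
      rw [← r4]
      have h3 := U.actPow m y
      rw [h1, one_mul] at h3
      unfold cj at h3
      have h4 : υ y * h ^ m = h ^ m * υ y := by
        conv_rhs => rw [← h3]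
        group
      exact h4.symm
    have hN : h ^ orderOf ζ = 1 := by
      rw [hord, ← hm, mul_comm, pow_mul, r4, ← pow_mul, ht4]
    have D : Frm υ h t 1 ζ := mk_frm h0 U r1 hz (Or.inr ⟨rfl, ht4⟩) hN r2 (Or.inr ⟨r3, hζ⟩)
    exact D.card_le h0 hgen

section image

variable {K : Type*} [Field K]

def pr : Matrix.SpecialLinearGroup (Fin 2) K →* Matrix.ProjectiveSpecialLinearGroup (Fin 2) K :=
  QuotientGroup.mk' (Subgroup.center (Matrix.SpecialLinearGroup (Fin 2) K))

lemma pr_neg : pr (-1 : Matrix.SpecialLinearGroup (Fin 2) K) = 1 := by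
  unfold pr
  rw [QuotientGroup.mk'_apply, QuotientGroup.eq_one_iff, Subgroup.mem_center_iff]
  intro g
  rw [mul_neg, neg_mul, mul_one, one_mul]

lemma pr_surj : Function.Surjective (pr (K := K)) := QuotientGroup.mk'_surjective _

lemma closure_image {G H : Type*} [Group G] [Group H] (f : G →* H) (hf : Function.Surjective f) {a b c : G}
    (hg : Subgroup.closure ({a, b, c} : Set G) = ⊤) : Subgroup.closure ({f a, f b, f c} : Set H) = ⊤ := by
  have h1 := MonoidHom.map_closure f ({a, b, c} : Set G)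
  rw [hg, Subgroup.map_top_of_surjective f hf] at h1
  rw [h1]
  congr 1
  simp [Set.image_insert_eq]

end image

theorem psl_odd (K : Type*) [Field K] [Fintype K] {p : ℕ} [Fact p.Prime] [Algebra (ZMod p) K] (h2 : (2 : K) ≠ 0) :
    ∃ rels : Finset (FreeGroup (Fin 3)), rels.card ≤ 9 ∧ Nonempty (PresentedGroup (↑rels : Set (FreeGroup (Fin 3))) ≃* Matrix.ProjectiveSpecialLinearGroup (Fin 2) K) := by
  classical
  obtain ⟨ζ, h0, hζ, hord, L, W, hL, hA, hB⟩ := bp_odd (p := p) K h2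
  obtain ⟨m, hm, hm2⟩ := zeta_half h2 hord
  have hfull := full_sq (p := p) hord
  refine pres_of (T := Matrix.ProjectiveSpecialLinearGroup (Fin 2) K) (L ++ [gH * gT * gH * gT⁻¹, (gU * gT) ^ 3 * (gT ^ 2)⁻¹, (W * gT * gH) ^ 3 * (gT ^ 2)⁻¹, gH ^ m]) 9
    (by rw [List.length_append]; simp; omega) (pr (sU 1)) (pr (sH ζ h0)) (pr sT) (closure_image pr pr_surj (s_gen (p := p) h0 (full_sq hord))) ?_ ?_
  · intro r hr
    obtain ⟨hB1, hB2⟩ := hB (Matrix.ProjectiveSpecialLinearGroup (Fin 2) K) (fun y => pr (sU y)) (pr (sH ζ h0)) (pr sT) ((s_ups h0).map pr)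
    rw [List.mem_append] at hr
    rcases hr with hr | hr
    · exact hB1 r hr
    · simp only [List.mem_cons, List.not_mem_nil, or_false] at hr
      rcases hr with rfl | rfl | rfl | rfl
      · rw [map_mul, map_mul, map_mul, map_inv, lH, lT, ← map_mul, ← map_mul, s_inv, mul_inv_cancel]
      · rw [map_mul, map_inv, map_pow, map_pow, map_mul, lU, lT, ← map_mul, ← map_pow, ← map_pow, s_R0, s_T2, pr_neg, map_one, inv_one, mul_one]
      · rw [map_mul, map_inv, map_pow, map_pow, map_mul, map_mul, lH, lT, hB2, ← map_mul, ← map_mul, ← map_pow, ← map_pow, s_R1, s_T2, pr_neg, map_one, inv_one, mul_one]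
      · rw [map_pow, lH, ← map_pow, sH_pow_neg h0 hm2, pr_neg]
  · intro Γ _ u h t hgen hr
    obtain ⟨υ, rfl, U, hW⟩ := hA Γ u h t (fun r hr' => hr r (List.mem_append.2 (Or.inl hr')))
    have r1 := hr (gH * gT * gH * gT⁻¹) (by simp)
    have r2 := hr ((gU * gT) ^ 3 * (gT ^ 2)⁻¹) (by simp)
    have r3 := hr ((W * gT * gH) ^ 3 * (gT ^ 2)⁻¹) (by simp)
    have r4 := hr (gH ^ m) (by simp)
    rw [map_mul, map_mul, map_mul, map_inv, lH, lT, mul_inv_eq_one] at r1
    rw [map_mul, map_inv, map_pow, map_pow, map_mul, lU, lT, mul_inv_eq_one] at r2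
    rw [map_mul, map_inv, map_pow, map_pow, map_mul, map_mul, lH, lT, hW, mul_inv_eq_one] at r3
    rw [map_pow, lH] at r4
    have hzu : υ 1 ∈ Subgroup.centralizer ({t ^ 2} : Set Γ) := by
      rw [Subgroup.mem_centralizer_singleton_iff]
      have h3 : Commute (t ^ 2) (υ 1 * t) := by rw [← r2]; exact (Commute.refl _).pow_left 3
      have h4 : Commute (t ^ 2) t := (Commute.refl t).pow_left 2
      have h5 : Commute (t ^ 2) (υ 1) := by
        have := h3.mul_right h4.inv_right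
        rwa [mul_inv_cancel_right] at this
      exact h5.symm.eq
    have hzh : h ∈ Subgroup.centralizer ({t ^ 2} : Set Γ) := by
      rw [Subgroup.mem_centralizer_singleton_iff]
      exact (tth' r1).symm
    have hz : ∀ y, t ^ 2 * υ y = υ y * t ^ 2 := by
      intro y
      obtain ⟨f, rfl⟩ := hfull y
      have h3 := wd_mem _ f hzu hzh
      rw [U.wd_eq, Subgroup.mem_centralizer_singleton_iff] at h3
      exact h3.symm
    have hN : h ^ orderOf ζ = 1 := by
      rw [hord, ← hm, mul_comm, pow_mul, r4, one_pow]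
    have D : Frm υ h t (t ^ 2) ζ := mk_frm h0 U r1 hz (Or.inl rfl) hN r2 (Or.inr ⟨r3, hζ⟩)
    exact ⟨(D.card_le h0 hgen).1, D.psl_card h0 hgen hm2 r4⟩

end Cfsg.Agent.H1.Pres
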