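import Cfsg.Agent.H1.PrE

set_option autoImplicit false
set_option linter.all false

namespace Cfsg.Agent.H1.Pres

open Cfsg.Agent.H16 Matrix

section psi

variable {Γ K : Type*} [Group Γ] [Field K] {υ : K → Γ} {h t : Γ} {ζ : K}

open Cfsg.Agent.S2426 in
theorem Frm.exists_psi [Fintype K] (D : Frm υ h t (t ^ 2) ζ) (hζ : ζ ≠ 0) :
    ∃ ψ : SpecialLinearGroup (Fin 2) K →* Γ, (∀ s, ψ (sU s) = υ s) ∧ (∀ s, ψ (sL s) = Frm.opp υ t s) ∧ ψ (sH ζ hζ) = h ∧ ψ sT = t⁻¹ := by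
  classical
  obtain ⟨e, he1, he2⟩ := Cfsg.Agent.S2426.result (K := K)
  have S := D.stn hζ
  let F : Bool × K → Γ := fun p => if p.1 then υ p.2 else Frm.opp υ t p.2
  have hF : ∀ r ∈ Cfsg.Agent.S2426.rels K, FreeGroup.lift F r = 1 := by
    intro r hr
    rcases hr with ⟨b, s, u, rfl⟩ | ⟨b, s, u, hs, rfl⟩
    · rw [map_mul, map_mul, map_inv, FreeGroup.lift_apply_of, FreeGroup.lift_apply_of, FreeGroup.lift_apply_of, mul_inv_eq_one]
      cases b
      · exact (S.hy s u).symm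
      · exact (S.hx s u).symm
    · simp only [map_mul, map_inv, FreeGroup.lift_apply_of]
      rw [mul_inv_eq_one]
      cases b
      · exact S.hw' s u hs
      · exact S.hw s u hs
  let ψ : SpecialLinearGroup (Fin 2) K →* Γ := (PresentedGroup.toGroup hF).comp e.symm.toMonoidHom
  have h1 : ∀ s, ψ (sU s) = υ s := by
    intro s
    have : e.symm (sU s) = PresentedGroup.of (true, s) := by
      rw [MulEquiv.symm_apply_eq]
      exact Subtype.ext (he1 s).symm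
    show PresentedGroup.toGroup hF (e.symm (sU s)) = _
    rw [this, PresentedGroup.toGroup.of]
    rfl
  have h2 : ∀ s, ψ (sL s) = Frm.opp υ t s := by
    intro s
    have : e.symm (sL s) = PresentedGroup.of (false, s) := by
      rw [MulEquiv.symm_apply_eq]
      exact Subtype.ext (he2 s).symm
    show PresentedGroup.toGroup hF (e.symm (sL s)) = _
    rw [this, PresentedGroup.toGroup.of]
    rfl
  refine ⟨ψ, h1, h2, ?_, ?_⟩
  · have e1 : sH ζ hζ = (sU 1 * sL (-(1 : K)⁻¹) * sU 1) * (sU ζ * sL (-ζ⁻¹) * sU ζ)⁻¹ := by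
      rw [eq_mul_inv_iff_mul_eq]
      apply Subtype.ext
      simp only [Matrix.SpecialLinearGroup.coe_mul]
      show !![ζ⁻¹, 0; 0, ζ] * (!![1, ζ; 0, 1] * !![1, 0; -ζ⁻¹, 1] * !![1, ζ; 0, 1]) = !![1, 1; 0, 1] * !![1, 0; -(1 : K)⁻¹, 1] * !![1, 1; 0, 1]
      ext i j; fin_cases i <;> fin_cases j <;> simp [Matrix.mul_apply, Fin.sum_univ_two, hζ]
    rw [e1, map_mul, map_inv, map_mul, map_mul, map_mul, map_mul, h1, h2, h1, h2, D.w_one hζ, D.w_zeta hζ, D.h_eq]
  · have e1 : (sT : SpecialLinearGroup (Fin 2) K) = (sU 1 * sL (-(1 : K)⁻¹) * sU 1) := by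
      apply Subtype.ext
      simp only [Matrix.SpecialLinearGroup.coe_mul]
      show !![0, 1; -1, 0] = !![1, 1; 0, 1] * !![1, 0; -(1 : K)⁻¹, 1] * !![1, 1; 0, 1]
      ext i j; fin_cases i <;> fin_cases j <;> simp [Matrix.mul_apply, Fin.sum_univ_two, hζ]
    rw [e1, map_mul, map_mul, h1, h2, D.w_one hζ]
    group

lemma s_closure : Subgroup.closure (Set.range (sU (K := K)) ∪ Set.range (sL (K := K))) = ⊤ := by
  apply eq_top_of_transvection_mem
  intro i j hij c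
  have h01 : (i = 0 ∧ j = 1) ∨ (i = 1 ∧ j = 0) := by
    fin_cases i <;> fin_cases j <;> simp_all
  rcases h01 with ⟨rfl, rfl⟩ | ⟨rfl, rfl⟩
  · have : SpecialLinearGroup.transvection hij c = sU c := by
      apply Subtype.ext
      show Matrix.transvection (0 : Fin 2) 1 c = !![1, c; 0, 1]
      ext a b; fin_cases a <;> fin_cases b <;> simp [Matrix.transvection, Matrix.single_apply]
    rw [this]; exact Subgroup.subset_closure (Or.inl ⟨c, rfl⟩)
  · have : SpecialLinearGroup.transvection hij c = sL c := by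
      apply Subtype.ext
      show Matrix.transvection (1 : Fin 2) 0 c = !![1, 0; c, 1]
      ext a b; fin_cases a <;> fin_cases b <;> simp [Matrix.transvection, Matrix.single_apply]
    rw [this]; exact Subgroup.subset_closure (Or.inr ⟨c, rfl⟩)

/-- big cell decomposition in `SL₂` -/
lemma s_dec (g : SpecialLinearGroup (Fin 2) K) (hζ : ζ ≠ 0) (hg : ∀ x : K, x ≠ 0 → ∃ n : ℕ, ζ ^ n = x) :
    (∃ a b : K, ∃ j : ℕ, g = sU a * sH ζ hζ ^ j * sL b) ∨ (∃ a : K, ∃ j : ℕ, g = sU a * sH ζ hζ ^ j * sT⁻¹) := by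
  have hdet : g.1 0 0 * g.1 1 1 - g.1 0 1 * g.1 1 0 = 1 := by
    have := g.2
    rwa [Matrix.det_fin_two] at this
  have hcoe : ∀ j : ℕ, ((sH ζ hζ ^ j : SpecialLinearGroup (Fin 2) K) : Matrix (Fin 2) (Fin 2) K) = !![(ζ ^ j)⁻¹, 0; 0, ζ ^ j] := by
    intro j
    rw [sH_pow, inv_pow]
    ext i j; fin_cases i <;> fin_cases j <;> simp
  by_cases h1 : g.1 1 1 = 0
  · right
    have h2 : g.1 0 1 * g.1 1 0 = -1 := by rw [h1] at hdet; linear_combination -hdet
    have h3 : g.1 1 0 ≠ 0 := by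
      intro h; rw [h, mul_zero] at h2
      exact one_ne_zero (neg_eq_zero.1 h2.symm)
    obtain ⟨j, hj⟩ := hg _ h3
    refine ⟨g.1 0 0 / g.1 1 0, j, ?_⟩
    rw [eq_mul_inv_iff_mul_eq]
    apply Subtype.ext
    simp only [Matrix.SpecialLinearGroup.coe_mul]
    rw [hcoe, hj]
    show g.1 * !![0, 1; -1, 0] = !![1, g.1 0 0 / g.1 1 0; 0, 1] * !![(g.1 1 0)⁻¹, 0; 0, g.1 1 0]
    have h4 : g.1 0 1 = -(g.1 1 0)⁻¹ := by field_simp; linear_combination h2
    ext i j; fin_cases i <;> fin_cases j <;> simp [Matrix.mul_apply, Fin.sum_univ_two, h1, h4, h3]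
  · left
    obtain ⟨j, hj⟩ := hg _ h1
    refine ⟨g.1 0 1 / g.1 1 1, g.1 1 0 / g.1 1 1, j, ?_⟩
    apply Subtype.ext
    simp only [Matrix.SpecialLinearGroup.coe_mul]
    rw [hcoe, hj]
    show g.1 = !![1, g.1 0 1 / g.1 1 1; 0, 1] * !![(g.1 1 1)⁻¹, 0; 0, g.1 1 1] * !![1, 0; g.1 1 0 / g.1 1 1, 1]
    have h5 : (g.1 1 1)⁻¹ + g.1 0 1 * (g.1 1 0 / g.1 1 1) = g.1 0 0 := by
      field_simp
      linear_combination -hdet
    ext i j; fin_cases i <;> fin_cases j <;> simp [Matrix.mul_apply, Fin.sum_univ_two, h1]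
    · rw [h5]
    · field_simp

end psi

end Cfsg.Agent.H1.Pres
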