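import Cfsg.Agent.H1.BG34
import Cfsg.Agent.H2.QuadGrp

/-!
# The linear representation over an algebraically closed field afforded by an elementary abelian
subgroup (helper1)
-/

set_option autoImplicit false

namespace Cfsg.Agent.H1

open Subgroup
open scoped commutatorElement Pointwise TensorProduct

universe u v w

/-- A representation of `N_X(V)` over `F` obtained from `V` by extension of scalars. -/
structure RepOf {X : Type u} [Group X] (V : Subgroup X) (F : Type v) [Field F] (M : Type w)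
    [AddCommGroup M] [Module F M] where
  rep : Representation F (normalizer (V : Set X)) M
  ι : V → M
  span_top : Submodule.span F (Set.range ι) = ⊤
  rep_ι : ∀ g v, rep g (ι v) = ι (V.normalizerMonoidHom g v)
  ι_mul : ∀ v w, ι (v * w) = ι v + ι w
  ι_inj : ∀ v, ι v = 0 → v = 1

theorem exists_repOf_aux {W : Type u} [CommGroup W] [Finite W] {ℓ : ℕ} [hℓ : Fact ℓ.Prime]
    [Module (ZMod ℓ) (Additive W)] (F : Type) [Field F] [Algebra (ZMod ℓ) F] :
    ∃ (M : Type u) (_ : AddCommGroup M) (_ : Module F M) (_ : FiniteDimensional F M)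
      (κ : MulAut W →* (M →ₗ[F] M)) (ι : W → M), Submodule.span F (Set.range ι) = ⊤ ∧
      (∀ φ v, κ φ (ι v) = ι (φ v)) ∧ (∀ v w, ι (v * w) = ι v + ι w) ∧ (∀ v, ι v = 0 → v = 1) := by
  haveI : Module.Finite (ZMod ℓ) (Additive W) := Module.Finite.of_finite
  refine ⟨F ⊗[ZMod ℓ] Additive W, inferInstance, inferInstance, inferInstance, H2.krep ℓ F,
    fun v => (1 : F) ⊗ₜ[ZMod ℓ] Additive.ofMul v, ?_, ?_, ?_, ?_⟩
  · rw [eq_top_iff]
    intro x _
    induction x using TensorProduct.induction_on with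
    | zero => exact zero_mem _
    | tmul a v =>
      have : a ⊗ₜ[ZMod ℓ] v = a • ((1 : F) ⊗ₜ[ZMod ℓ] v) := by
        rw [TensorProduct.smul_tmul', smul_eq_mul, mul_one]
      rw [this]
      exact Submodule.smul_mem _ _ (Submodule.subset_span ⟨Additive.toMul v, rfl⟩)
    | add x y hx hy => exact add_mem (hx trivial) (hy trivial)
  · intro φ v
    rw [H2.krep_apply]
    exact LinearMap.baseChange_tmul _ _ _
  · intro v w
    show (1 : F) ⊗ₜ[ZMod ℓ] Additive.ofMul (v * w) = _
    rw [ofMul_mul, TensorProduct.tmul_add]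
  · intro v hv
    have hinj : Function.Injective (TensorProduct.mk (ZMod ℓ) F (Additive W) 1) :=
      Module.FaithfullyFlat.tensorProduct_mk_injective (Additive W)
    have h0 : TensorProduct.mk (ZMod ℓ) F (Additive W) 1 (Additive.ofMul v) =
        TensorProduct.mk (ZMod ℓ) F (Additive W) 1 0 := by
      rw [map_zero]; exact hv
    exact hinj h0

theorem exists_repOf {X : Type u} [Group X] [Finite X] {ℓ : ℕ} [hℓ : Fact ℓ.Prime] {V : Subgroup X}
    (hV : Cfsg.IsElementaryAbelian ℓ V) :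
    ∃ (F : Type) (_ : Field F) (_ : IsAlgClosed F) (_ : CharP F ℓ) (M : Type u)
      (_ : AddCommGroup M) (_ : Module F M) (_ : FiniteDimensional F M),
      Nonempty (RepOf V F M) := by
  letI cg : CommGroup V := { (inferInstance : Group V) with mul_comm := hV.1.is_comm.comm }
  letI md : Module (ZMod ℓ) (Additive V) := AddCommGroup.zmodModule (n := ℓ) (by
    intro x
    change Additive.ofMul ((Additive.toMul x) ^ ℓ) = 0
    have : (Additive.toMul x) ^ ℓ = 1 := Subtype.ext (hV.2 _ (Additive.toMul x).2)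
    rw [this]; rfl)
  haveI : CharP (AlgebraicClosure (ZMod ℓ)) ℓ :=
    charP_of_injective_algebraMap (algebraMap (ZMod ℓ) (AlgebraicClosure (ZMod ℓ))).injective ℓ
  obtain ⟨M, i1, i2, i3, κ, ι, h1, h2, h3, h4⟩ := exists_repOf_aux (W := V) (ℓ := ℓ)
    (AlgebraicClosure (ZMod ℓ))
  exact ⟨AlgebraicClosure (ZMod ℓ), inferInstance, inferInstance, this, M, i1, i2, i3,
    ⟨{ rep := κ.comp V.normalizerMonoidHom
       ι := ι
       span_top := h1
       rep_ι := fun g v => h2 _ v
       ι_mul := h3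
       ι_inj := h4 }⟩⟩

namespace RepOf

variable {X : Type u} [Group X] {V : Subgroup X} {F : Type v} [Field F] {M : Type w}
    [AddCommGroup M] [Module F M] (R : RepOf V F M)

theorem ι_one : R.ι 1 = 0 := by
  have := R.ι_mul 1 1
  rw [mul_one] at this
  exact left_eq_add.mp this

theorem ι_inv (v : V) : R.ι v⁻¹ = - R.ι v := by
  have := R.ι_mul v⁻¹ v
  rw [inv_mul_cancel, R.ι_one] at this
  exact eq_neg_of_add_eq_zero_left this.symm

theorem ι_injective : Function.Injective R.ι := by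
  intro v w h
  have : R.ι (v * w⁻¹) = 0 := by rw [R.ι_mul, R.ι_inv, h, add_neg_cancel]
  exact mul_inv_eq_one.mp (R.ι_inj _ this)

theorem ι_pow (v : V) (n : ℕ) : R.ι (v ^ n) = (n : F) • R.ι v := by
  induction n with
  | zero => rw [pow_zero, R.ι_one, Nat.cast_zero, zero_smul]
  | succ n ih => rw [pow_succ, R.ι_mul, ih, Nat.cast_succ, add_smul, one_smul]

theorem coe_hom (g : normalizer (V : Set X)) (v : V) :
    ((V.normalizerMonoidHom g v : V) : X) = g * v * (g : X)⁻¹ := rfl

/-- sums of images of elements of `V` come from `V` -/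
theorem sum_mem {α : Type*} (s : Finset α) (f : α → V) : ∃ w, ∑ a ∈ s, R.ι (f a) = R.ι w := by
  classical
  induction s using Finset.induction_on with
  | empty => exact ⟨1, by rw [Finset.sum_empty, R.ι_one]⟩
  | insert a s ha ih =>
    obtain ⟨w, hw⟩ := ih
    exact ⟨f a * w, by rw [Finset.sum_insert ha, hw, R.ι_mul]⟩

/-- the kernel of the representation is the centralizer -/
theorem mem_centralizer_of_rep_eq_one {g : normalizer (V : Set X)} (h : R.rep g = 1) :
    (g : X) ∈ centralizer (V : Set X) := by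
  rw [mem_centralizer_iff]
  intro v hv
  have h1 := R.rep_ι g ⟨v, hv⟩
  rw [h, Module.End.one_apply] at h1
  have h2 := congrArg Subtype.val (R.ι_injective h1)
  rw [coe_hom] at h2
  exact (eq_mul_inv_iff_mul_eq.mp h2)

theorem rep_eq_one_of_mem_centralizer {g : normalizer (V : Set X)}
    (h : (g : X) ∈ centralizer (V : Set X)) : R.rep g = 1 := by
  apply LinearMap.ext
  intro m
  have hm : m ∈ Submodule.span F (Set.range R.ι) := by rw [R.span_top]; trivial
  induction hm using Submodule.span_induction with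
  | mem x hx =>
    obtain ⟨v, rfl⟩ := hx
    rw [R.rep_ι, Module.End.one_apply]
    congr 1
    apply Subtype.ext
    rw [coe_hom, ← (mem_centralizer_iff.mp h) v v.2, mul_inv_cancel_right]
  | zero => rw [map_zero, map_zero]
  | add x y _ _ hx hy => rw [map_add, map_add, hx, hy]
  | smul a x _ hx => rw [map_smul, map_smul, hx]

open Classical in
/-- fixed vectors come from fixed elements -/
theorem mem_span_fixed [Finite X] (S : Subgroup (normalizer (V : Set X)))
    (hS : (Nat.card S : F) ≠ 0) {m : M} (hm : ∀ s ∈ S, R.rep s m = m) :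
    m ∈ Submodule.span F (R.ι '' {v | ∀ s ∈ S, (s : X) * v * (s : X)⁻¹ = v}) := by
  haveI : Fintype S := Fintype.ofFinite S
  set P : M →ₗ[F] M := ∑ s : S, R.rep (s : normalizer (V : Set X)) with hP
  have h1 : P m = (Nat.card S : F) • m := by
    rw [hP, LinearMap.sum_apply, Finset.sum_congr rfl fun (s : S) _ => hm s s.2, Finset.sum_const,
      Finset.card_univ, ← Nat.card_eq_fintype_card, Nat.cast_smul_eq_nsmul F]
  have h2 : ∀ v, P (R.ι v) ∈ Submodule.span F
      (R.ι '' {v | ∀ s ∈ S, (s : X) * v * (s : X)⁻¹ = v}) := by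
    intro v
    have e : P (R.ι v) = ∑ s : S, R.ι (V.normalizerMonoidHom (s : normalizer (V : Set X)) v) := by
      rw [hP, LinearMap.sum_apply]
      exact Finset.sum_congr rfl fun s _ => R.rep_ι _ _
    obtain ⟨w, hw⟩ := R.sum_mem Finset.univ
      (fun s : S => V.normalizerMonoidHom (s : normalizer (V : Set X)) v)
    rw [← e] at hw
    rw [hw]
    refine Submodule.subset_span ⟨w, ?_, rfl⟩
    intro s hs
    have h3 : R.rep s (R.ι w) = R.ι w := by
      rw [← hw, hP, ← Module.End.mul_apply, Finset.mul_sum]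
      congr 1
      refine Fintype.sum_equiv (Equiv.mulLeft (⟨s, hs⟩ : S)) _ _ fun t => ?_
      rw [← map_mul]; rfl
    rw [R.rep_ι] at h3
    exact congrArg Subtype.val (R.ι_injective h3)
  have h3 : P m ∈ Submodule.span F (R.ι '' {v | ∀ s ∈ S, (s : X) * v * (s : X)⁻¹ = v}) := by
    have h4 : Submodule.span F (Set.range R.ι) ≤ (Submodule.span F
        (R.ι '' {v | ∀ s ∈ S, (s : X) * v * (s : X)⁻¹ = v})).comap P := by
      rw [Submodule.span_le]
      rintro _ ⟨v, rfl⟩
      exact h2 v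
    rw [R.span_top] at h4
    exact h4 trivial
  rw [h1] at h3
  have := Submodule.smul_mem _ ((Nat.card S : F)⁻¹) h3
  rwa [smul_smul, inv_mul_cancel₀ hS, one_smul] at this

/-- the orbit sum of `ρ` is fixed by `ρ` -/
theorem rep_sum_fixed {G : Type*} [Group G] (π : Representation F G M) {ρ : G} {r : ℕ}
    (hρ : ρ ^ r = 1) (m : M) :
    ∀ s ∈ zpowers ρ, π s ((∑ j ∈ Finset.range r, π (ρ ^ j)) m) =
      (∑ j ∈ Finset.range r, π (ρ ^ j)) m := by
  have h1 : π ρ * (∑ j ∈ Finset.range r, π (ρ ^ j)) = ∑ j ∈ Finset.range r, π (ρ ^ j) := by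
    rw [Finset.mul_sum]
    rcases Nat.eq_zero_or_pos r with h0 | h0
    · rw [h0]; simp
    · obtain ⟨k, rfl⟩ : ∃ k, r = k + 1 := ⟨r - 1, by omega⟩
      rw [Finset.sum_range_succ, Finset.sum_range_succ', pow_zero, map_one, ← map_mul, ← pow_succ',
        hρ, map_one]
      congr 1
      refine Finset.sum_congr rfl fun j _ => ?_
      rw [← map_mul, ← pow_succ']
  intro s hs
  obtain ⟨k, rfl⟩ := mem_zpowers_iff.mp hs
  have h2 : ρ ∈ ({
      carrier := {g | π g ((∑ j ∈ Finset.range r, π (ρ ^ j)) m) =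
        (∑ j ∈ Finset.range r, π (ρ ^ j)) m}
      mul_mem' := fun {a b} ha hb => by
        show π (a * b) _ = _
        rw [map_mul, Module.End.mul_apply, show π b _ = _ from hb, show π a _ = _ from ha]
      one_mem' := by show π 1 _ = _; rw [map_one, Module.End.one_apply]
      inv_mem' := fun {a} ha => by
        show π a⁻¹ _ = _
        have ha' : π a ((∑ j ∈ Finset.range r, π (ρ ^ j)) m) =
          (∑ j ∈ Finset.range r, π (ρ ^ j)) m := ha
        conv_lhs => rw [← ha']
        rw [← Module.End.mul_apply, ← map_mul, inv_mul_cancel, map_one, Module.End.one_apply] } :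
      Subgroup G) := by
    show π ρ _ = _
    rw [← Module.End.mul_apply, h1]
  exact Subgroup.zpow_mem _ h2 k

/-- if `ρ` has no fixed points on `V`, its orbit sum vanishes -/
theorem sum_eq_zero [Finite X] {ρ : normalizer (V : Set X)} {r : ℕ} (hρ : ρ ^ r = 1)
    (hr : (r : F) ≠ 0) (hfix : ∀ v ∈ V, (ρ : X) * v = v * ρ → v = 1) :
    ∑ j ∈ Finset.range r, R.rep (ρ ^ j) = 0 := by
  apply LinearMap.ext
  intro m
  have hc : (Nat.card (zpowers ρ) : F) ≠ 0 := by
    have h1 : Nat.card (zpowers ρ) ∣ r := by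
      rw [Nat.card_zpowers]; exact orderOf_dvd_of_pow_eq_one hρ
    obtain ⟨k, hk⟩ := h1
    intro h0
    apply hr
    rw [hk, Nat.cast_mul, h0, zero_mul]
  have h1 := R.mem_span_fixed (zpowers ρ) hc (rep_sum_fixed R.rep hρ m)
  have h2 : R.ι '' {v | ∀ s ∈ zpowers ρ, (s : X) * v * (s : X)⁻¹ = v} ⊆ {0} := by
    rintro _ ⟨v, hv, rfl⟩
    have h3 := hv ρ (mem_zpowers ρ)
    have h4 : (v : X) = 1 := hfix v v.2 (mul_inv_eq_iff_eq_mul.mp h3)
    have h5 : v = 1 := Subtype.ext h4
    rw [h5, R.ι_one]; rfl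
  have h3 := Submodule.span_mono (R := F) h2 h1
  rw [Submodule.span_zero_singleton, Submodule.mem_bot] at h3
  rw [h3, LinearMap.zero_apply]

end RepOf

section Main

variable {X : Type u} [Group X] [Finite X]

theorem cast_ne_zero_of_not_dvd {F : Type*} [Field F] {ℓ : ℕ} [CharP F ℓ] {n : ℕ} (h : ¬ ℓ ∣ n) :
    (n : F) ≠ 0 := fun h0 => h ((CharP.cast_eq_zero_iff F ℓ n).mp h0)

/-- **BG 3.4** -/
theorem bg34 {ℓ : ℕ} [hℓ : Fact ℓ.Prime] {V K : Subgroup X} {ρ : X} {r : ℕ} (hr : r.Prime)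
    (hr2 : r ≠ 2) (hV : Cfsg.IsElementaryAbelian ℓ V) (hKV : K ≤ normalizer (V : Set X))
    (hρV : ρ ∈ normalizer (V : Set X)) (hρK : ρ ∈ normalizer (K : Set X)) (hρr : ρ ^ r = 1)
    (hrℓ : r ≠ ℓ) (hcop : (Nat.card K).Coprime r) (hodd : Odd (Nat.card K))
    (hs : Group.IsSolvable K) (hKℓ : ¬ ℓ ∣ Nat.card K)
    (hfix : ∀ v ∈ V, ρ * v = v * ρ → v = 1) : ∀ x ∈ K, ⁅x, ρ⁆ ∈ centralizer (V : Set X) := by
  obtain ⟨F, _, _, _, M, _, _, _, ⟨R⟩⟩ := exists_repOf hV
  have hrF : (r : F) ≠ 0 := cast_ne_zero_of_not_dvd (ℓ := ℓ) fun h =>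
    hrℓ ((Nat.prime_dvd_prime_iff_eq hℓ.out hr).mp h).symm
  set N := normalizer (V : Set X) with hN
  have hρr' : (⟨ρ, hρV⟩ : N) ^ r = 1 := Subtype.ext hρr
  intro x hx
  have hc : Nat.card (K.subgroupOf N) = Nat.card K := card_subgroupOf hKV
  have key := bg34_all (F := F) hr hr2 hrF (Nat.card (K.subgroupOf N)) N (K.subgroupOf N)
    (⟨ρ, hρV⟩ : N) rfl (by
      rw [mem_normalizer_iff]
      intro g
      rw [mem_subgroupOf, mem_subgroupOf]
      exact mem_normalizer_iff.mp hρK g) hρr' (by rw [hc]; exact hcop) (by rw [hc]; exact hodd)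
    (by
      haveI := hs
      exact Group.isSolvable_of_isSolvable_injective (f := (subgroupOfEquivOfLe hKV).toMonoidHom)
        (subgroupOfEquivOfLe hKV).injective)
    (by rw [hc]; exact cast_ne_zero_of_not_dvd (ℓ := ℓ) hKℓ) M R.rep
    (R.sum_eq_zero hρr' hrF hfix) ⟨x, hKV hx⟩ hx
  exact R.mem_centralizer_of_rep_eq_one key

end Main

end Cfsg.Agent.H1
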