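import Cfsg.Agent.H1.RepOf
import Cfsg.Agent.H2.Basic

/-!
# Weights of a normal subgroup acting by commuting operators (helper1)
-/

set_option autoImplicit false

namespace Cfsg.Agent.H1

open Subgroup
open scoped commutatorElement Pointwise

universe u v w

section Weights

variable {F : Type*} [Field F] {G : Type u} [Group G] {M : Type v} [AddCommGroup M]
  [Module F M]

/-- weight spaces -/
def wt (π : Representation F G M) (N : Subgroup G) (χ : N →* Fˣ) : Submodule F M where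
  carrier := {m | ∀ n : N, π n m = (χ n : F) • m}
  add_mem' := fun {a b} ha hb n => by
    rw [map_add, show π n a = _ from ha n, show π n b = _ from hb n, smul_add]
  zero_mem' := fun n => by rw [map_zero, smul_zero]
  smul_mem' := fun c x hx n => by
    rw [map_smul, show π n x = _ from hx n, smul_comm]

theorem mem_wt {π : Representation F G M} {N : Subgroup G} {χ : N →* Fˣ} {m : M} :
    m ∈ wt π N χ ↔ ∀ n : N, π n m = (χ n : F) • m := Iff.rfl

/-- the conjugate of a linear character -/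
def cwt {N : Subgroup G} [N.Normal] (g : G) (χ : N →* Fˣ) : N →* Fˣ :=
  χ.comp (MulAut.conjNormal g⁻¹ : N ≃* N).toMonoidHom

theorem cwt_apply {N : Subgroup G} [hN : N.Normal] (g : G) (χ : N →* Fˣ) (n : N) :
    cwt g χ n = χ ⟨g⁻¹ * n * g, by
      have := hN.conj_mem n n.2 g⁻¹
      rwa [inv_inv] at this⟩ := by
  show χ _ = χ _
  congr 1
  apply Subtype.ext
  show g⁻¹ * (n : G) * g⁻¹⁻¹ = g⁻¹ * (n : G) * g
  rw [inv_inv]

theorem cwt_one {N : Subgroup G} [N.Normal] (χ : N →* Fˣ) : cwt (1 : G) χ = χ := by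
  ext n
  rw [cwt_apply]
  congr 2
  apply Subtype.ext
  show (1 : G)⁻¹ * n * 1 = n
  group

theorem cwt_mul {N : Subgroup G} [N.Normal] (g h : G) (χ : N →* Fˣ) :
    cwt (g * h) χ = cwt g (cwt h χ) := by
  ext n
  rw [cwt_apply, cwt_apply, cwt_apply]
  congr 2
  apply Subtype.ext
  show (g * h)⁻¹ * (n : G) * (g * h) = h⁻¹ * (g⁻¹ * n * g) * h
  group

/-- conjugation action on characters -/
@[reducible] def cwtAction (F : Type*) [Field F] (N : Subgroup G) [N.Normal] :
    MulAction G (N →* Fˣ) where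
  smul := cwt
  one_smul := cwt_one
  mul_smul := cwt_mul

theorem wt_map {π : Representation F G M} {N : Subgroup G} [hN : N.Normal] {χ : N →* Fˣ} {m : M}
    (hm : m ∈ wt π N χ) (g : G) : π g m ∈ wt π N (cwt g χ) := by
  intro n
  rw [cwt_apply]
  have h1 := hm ⟨g⁻¹ * n * g, by
      have := hN.conj_mem n n.2 g⁻¹
      rwa [inv_inv] at this⟩
  rw [← map_smul, ← h1, ← Module.End.mul_apply, ← Module.End.mul_apply, ← map_mul, ← map_mul]
  congr 2
  show (n : G) * g = g * (g⁻¹ * n * g)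
  group

open Classical in
/-- the (unnormalised) projection onto a weight space -/
noncomputable def prj [Finite G] (π : Representation F G M) (N : Subgroup G) (χ : N →* Fˣ) : M →ₗ[F] M :=
  letI : Fintype N := Fintype.ofFinite N
  ∑ n : N, ((χ n : F)⁻¹) • π n

open Classical in
theorem prj_of_mem [Finite G] {π : Representation F G M} {N : Subgroup G} {χ ψ : N →* Fˣ} {m : M}
    (hm : m ∈ wt π N ψ) : prj π N χ m = if ψ = χ then (Nat.card N : F) • m else 0 := by
  letI : Fintype N := Fintype.ofFinite N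
  have h1 : prj π N χ m = (∑ n : N, (((ψ * χ⁻¹) n : Fˣ) : F)) • m := by
    rw [prj, LinearMap.sum_apply, Finset.sum_smul]
    refine Finset.sum_congr rfl fun n _ => ?_
    rw [LinearMap.smul_apply, hm n, smul_smul]
    congr 1
    rw [MonoidHom.mul_apply, MonoidHom.inv_apply, Units.val_mul, Units.val_inv_eq_inv_val, mul_comm]
  rw [h1]
  split_ifs with h
  · subst h
    congr 1
    have h2 : ∀ n : N, (((ψ * ψ⁻¹) n : Fˣ) : F) = 1 := fun n => by
      rw [MonoidHom.mul_apply, MonoidHom.inv_apply, mul_inv_cancel, Units.val_one]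
    rw [Finset.sum_congr rfl fun n _ => h2 n,
      Finset.sum_const, Finset.card_univ, ← Nat.card_eq_fintype_card, nsmul_eq_mul, mul_one]
  · have h2 : (Units.coeHom F).comp (ψ * χ⁻¹) ≠ 1 := by
      intro h3
      apply h
      ext n
      have h4 := DFunLike.congr_fun h3 n
      have h5 : (ψ * χ⁻¹) n = 1 := Units.ext h4
      rw [MonoidHom.mul_apply, MonoidHom.inv_apply, mul_inv_eq_one] at h5
      rw [h5]
    have h3 := sum_hom_units_eq_zero _ h2
    have h4 : ∑ n : N, (((ψ * χ⁻¹) n : Fˣ) : F) = 0 := h3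
    rw [h4, zero_smul]

theorem wt_eq_of_ne_zero {π : Representation F G M} {N : Subgroup G} {χ ψ : N →* Fˣ} {m : M}
    (h1 : m ∈ wt π N ψ) (h2 : m ∈ wt π N χ) (hm : m ≠ 0) : ψ = χ := by
  ext n
  have h3 := h1 n
  rw [h2 n] at h3
  have h4 : ((χ n : F) - (ψ n : F)) • m = 0 := by rw [sub_smul, h3, sub_self]
  rcases smul_eq_zero.mp h4 with h | h
  · exact (sub_eq_zero.mp h).symm
  · exact absurd h hm

theorem cwt_pow_injOn {N : Subgroup G} [N.Normal] {ρ : G} {r : ℕ} (hr : r.Prime) (hρ : ρ ^ r = 1)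
    {χ : N →* Fˣ} (h : cwt ρ χ ≠ χ) {j : ℕ} (hj0 : 0 < j) (hj : j < r) : cwt (ρ ^ j) χ ≠ χ := by
  intro h1
  apply h
  obtain ⟨k, hk⟩ := exists_pow_pow_eq hr hρ hj0 hj
  have h2 : ∀ n : ℕ, cwt ((ρ ^ j) ^ n) χ = χ := by
    intro n
    induction n with
    | zero => rw [pow_zero, cwt_one]
    | succ n ih => rw [pow_succ, cwt_mul, h1, ih]
  rw [← hk]; exact h2 k

section Fix

variable [Finite G] {π : Representation F G M} {N : Subgroup G} [hN : N.Normal] {ρ : G} {r : ℕ}

/-- projecting the orbit sum -/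
theorem prj_orbit_sum (hr : r.Prime) (hρ : ρ ^ r = 1) {χ : N →* Fˣ} (hχ : cwt ρ χ ≠ χ) {m : M}
    (hm : m ∈ wt π N χ) :
    prj π N χ ((∑ j ∈ Finset.range r, π (ρ ^ j)) m) = (Nat.card N : F) • m := by
  rw [LinearMap.sum_apply, map_sum, Finset.sum_eq_single 0]
  · rw [pow_zero, map_one, Module.End.one_apply, prj_of_mem hm, if_pos rfl]
  · intro j hj hj0
    rw [prj_of_mem (wt_map hm (ρ ^ j)), if_neg]
    exact cwt_pow_injOn hr hρ hχ (Nat.pos_of_ne_zero hj0) (Finset.mem_range.mp hj)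
  · intro h
    exact absurd (Finset.mem_range.mpr hr.pos) h

/-- all `ρ`-fixed vectors are proportional -/
def FixLine (π : Representation F G M) (ρ : G) : Prop :=
  ∃ w : M, ∀ m, π ρ m = m → m ∈ Submodule.span F {w}

theorem wt_line (hNF : (Nat.card N : F) ≠ 0) (hr : r.Prime) (hρ : ρ ^ r = 1)
    (hfix : FixLine π ρ) {χ : N →* Fˣ} (hχ : cwt ρ χ ≠ χ) {m m' : M} (hm : m ∈ wt π N χ)
    (hm' : m' ∈ wt π N χ) (hne : m' ≠ 0) : ∃ c : F, m = c • m' := by
  obtain ⟨w, hw⟩ := hfix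
  have hs : ∀ m : M, π ρ ((∑ j ∈ Finset.range r, π (ρ ^ j)) m) =
      (∑ j ∈ Finset.range r, π (ρ ^ j)) m := fun m =>
    RepOf.rep_sum_fixed π hρ m ρ (mem_zpowers ρ)
  obtain ⟨a, ha⟩ := Submodule.mem_span_singleton.mp (hw _ (hs m))
  obtain ⟨b, hb⟩ := Submodule.mem_span_singleton.mp (hw _ (hs m'))
  have h1 := prj_orbit_sum hr hρ hχ hm
  have h2 := prj_orbit_sum hr hρ hχ hm'
  rw [← ha, map_smul] at h1
  rw [← hb, map_smul] at h2
  have hb0 : b ≠ 0 := by
    rintro rfl
    rw [zero_smul] at h2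
    exact (smul_ne_zero hNF hne) h2.symm
  refine ⟨a * b⁻¹, ?_⟩
  have h3 : (Nat.card N : F) • m = (Nat.card N : F) • ((a * b⁻¹) • m') := by
    rw [← h1, smul_comm, ← h2, smul_smul, mul_assoc, inv_mul_cancel₀ hb0, mul_one]
  exact smul_right_injective _ hNF h3

theorem wt_orbit (hNF : (Nat.card N : F) ≠ 0) (hr : r.Prime) (hρ : ρ ^ r = 1)
    (hfix : FixLine π ρ) {χ ψ : N →* Fˣ} (hχ : cwt ρ χ ≠ χ) (hψ : cwt ρ ψ ≠ ψ) {m m' : M}
    (hm : m ∈ wt π N χ) (hne : m ≠ 0) (hm' : m' ∈ wt π N ψ) (hne' : m' ≠ 0) :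
    ∃ j < r, cwt (ρ ^ j) ψ = χ := by
  obtain ⟨w, hw⟩ := hfix
  have hs : ∀ m : M, π ρ ((∑ j ∈ Finset.range r, π (ρ ^ j)) m) =
      (∑ j ∈ Finset.range r, π (ρ ^ j)) m := fun m =>
    RepOf.rep_sum_fixed π hρ m ρ (mem_zpowers ρ)
  obtain ⟨a, ha⟩ := Submodule.mem_span_singleton.mp (hw _ (hs m))
  obtain ⟨b, hb⟩ := Submodule.mem_span_singleton.mp (hw _ (hs m'))
  have h1 := prj_orbit_sum hr hρ hχ hm
  have h2 := prj_orbit_sum hr hρ hψ hm'
  rw [← ha, map_smul] at h1
  rw [← hb, map_smul] at h2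
  have hb0 : b ≠ 0 := by
    rintro rfl
    rw [zero_smul] at h2
    exact (smul_ne_zero hNF hne') h2.symm
  have hw0 : prj π N χ w ≠ 0 := by
    intro h0
    rw [h0, smul_zero] at h1
    exact (smul_ne_zero hNF hne) h1.symm
  by_contra hcon
  push Not at hcon
  have h3 : prj π N χ ((∑ j ∈ Finset.range r, π (ρ ^ j)) m') = 0 := by
    rw [LinearMap.sum_apply, map_sum]
    refine Finset.sum_eq_zero fun j hj => ?_
    rw [prj_of_mem (wt_map hm' (ρ ^ j)), if_neg (hcon j (Finset.mem_range.mp hj))]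
  rw [← hb, map_smul] at h3
  exact (smul_ne_zero hb0 hw0) h3

end Fix

/-- simultaneous eigenbasis for a group acting by commuting operators -/
theorem exists_eigenbasis_of_comm [IsAlgClosed F] {N : Type u} [Group N] [Finite N]
    (hNF : (Nat.card N : F) ≠ 0) [FiniteDimensional F M] (π : Representation F N M)
    (hc : ∀ a b, π a * π b = π b * π a) :
    ∃ (ι : Type) (_ : Fintype ι) (b : Module.Basis ι F M) (μ : ι → (N →* Fˣ)),
      ∀ a i, π a (b i) = (μ i a : F) • b i := by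
  let πq : Representation F (N ⧸ π.ker) M := QuotientGroup.lift π.ker π (fun x hx => hx)
  have hπq : ∀ a : N, πq (QuotientGroup.mk' π.ker a) = π a := fun a => rfl
  haveI : IsMulCommutative (N ⧸ π.ker) := ⟨⟨fun a b => by
    induction a using QuotientGroup.induction_on with
    | H a =>
      induction b using QuotientGroup.induction_on with
      | H b =>
        show QuotientGroup.mk' π.ker a * QuotientGroup.mk' π.ker b =
          QuotientGroup.mk' π.ker b * QuotientGroup.mk' π.ker a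
        rw [← map_mul, ← map_mul]
        apply QuotientGroup.eq.mpr
        show π ((a * b)⁻¹ * (b * a)) = 1
        rw [map_mul, map_mul, ← hc a b, ← map_mul π a b, ← map_mul, inv_mul_cancel, map_one]⟩⟩
  haveI : NeZero ((Nat.card (N ⧸ π.ker) : ℕ) : F) := ⟨by
    obtain ⟨m, hm⟩ := card_quotient_dvd_card π.ker
    intro h0
    apply hNF
    rw [hm, Nat.cast_mul, h0, zero_mul]⟩
  obtain ⟨ι, i1, b, μ, h⟩ := H3.exists_simul_eigenbasis (k := F) (A := N ⧸ π.ker) πq
  exact ⟨ι, i1, b, fun i => (μ i).comp (QuotientGroup.mk' π.ker),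
    fun a i => h (QuotientGroup.mk' π.ker a) i⟩

end Weights

end Cfsg.Agent.H1
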