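import Cfsg.Agent.H1.BG310
import Cfsg.Agent.H20.Fpf2

/-!
# Wielandt's formula for a Frobenius group acting on a solvable group (helper1)
-/

set_option autoImplicit false

namespace Cfsg.Agent.H1

open Subgroup
open scoped commutatorElement Pointwise

universe u v w

variable {X : Type u} [Group X] [Finite X]

structure HypW (U E H : Subgroup X) : Prop where
  EU : E ≤ normalizer (U : Set X)
  UH : U ≤ normalizer (H : Set X)
  EH : E ≤ normalizer (H : Set X)
  frob : ∀ x ∈ E, x ≠ 1 → ∀ a ∈ U, Commute x a → a = 1
  solU : Group.IsSolvable U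
  solH : Group.IsSolvable H
  cop : (Nat.card (U ⊔ E : Subgroup X)).Coprime (Nat.card H)

theorem HypW.quot {U E H : Subgroup X} (h : HypW U E H) (N : Subgroup X) [hN : N.Normal]
    (hNH : N ≤ H) : HypW (U.map (QuotientGroup.mk' N)) (E.map (QuotientGroup.mk' N))
      (H.map (QuotientGroup.mk' N)) := by
  have hκs := QuotientGroup.mk'_surjective N
  have hNc := card_dvd_of_le hNH
  have hUN : U ⊓ N = ⊥ := inf_eq_bot_of_card_coprime (Nat.Coprime.coprime_dvd_right hNc
    (Nat.Coprime.coprime_dvd_left (card_dvd_of_le le_sup_left) h.cop))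
  exact
  { EU := le_normalizer_map' _ hκs h.EU
    UH := le_normalizer_map' _ hκs h.UH
    EH := le_normalizer_map' _ hκs h.EH
    frob := by
      rintro _ ⟨x, hx, rfl⟩ hx1 _ ⟨a, ha, rfl⟩ hc
      have h1 : ⁅x, a⁆ ∈ U ⊓ N := by
        refine mem_inf.mpr ⟨?_, ?_⟩
        · rw [commutatorElement_def]
          exact mul_mem ((mem_normalizer_iff.mp (h.EU hx) a).mp ha) (inv_mem ha)
        · rw [← QuotientGroup.eq_one_iff]
          show QuotientGroup.mk' N ⁅x, a⁆ = 1
          rw [map_commutatorElement, commutatorElement_eq_one_iff_mul_comm]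
          exact hc
      rw [hUN, mem_bot, commutatorElement_eq_one_iff_mul_comm] at h1
      have hx1' : x ≠ 1 := by rintro rfl; exact hx1 (map_one _)
      rw [h.frob x hx hx1' a ha h1, map_one]
    solU := isSolvable_map _ h.solU
    solH := isSolvable_map _ h.solH
    cop := by
      rw [← Subgroup.map_sup]
      exact Nat.Coprime.coprime_dvd_left (card_map_dvd _ _)
        (Nat.Coprime.coprime_dvd_right (card_map_dvd _ _) h.cop) }

/-- multiplicativity of fixed points in a coprime action -/
theorem card_inf_centralizer_mul {A H N : Subgroup X} [hN : N.Normal] (hNH : N ≤ H)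
    (hcop : (Nat.card A).Coprime (Nat.card N)) (hs : Group.IsSolvable N) :
    Nat.card (N ⊓ centralizer (A : Set X) : Subgroup X) *
      Nat.card (H.map (QuotientGroup.mk' N) ⊓
        centralizer ((A.map (QuotientGroup.mk' N) : Subgroup (X ⧸ N)) : Set (X ⧸ N)) :
          Subgroup (X ⧸ N)) = Nat.card (H ⊓ centralizer (A : Set X) : Subgroup X) := by
  rw [← H23.map_inf_centralizer hcop (Or.inr hs) hNH]
  have h1 := card_map_mk'_mul N (H ⊓ centralizer (A : Set X))
  have h2 : H ⊓ centralizer (A : Set X) ⊓ N = N ⊓ centralizer (A : Set X) := by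
    rw [inf_comm, ← inf_assoc, inf_of_le_left hNH]
  rw [h2] at h1
  exact h1

theorem wielandt_step {U E H : Subgroup X} (h : HypW U E H) (htop : H ⊔ (U ⊔ E) = ⊤)
    (ih : ∀ (Y : Type u) [Group Y] [Finite Y] (U' E' H' : Subgroup Y), Nat.card H' < Nat.card H →
      HypW U' E' H' →
      Nat.card (H' ⊓ centralizer ((U' ⊔ E' : Subgroup Y) : Set Y) : Subgroup Y) ^ Nat.card E' *
        Nat.card H' = Nat.card (H' ⊓ centralizer (E' : Set Y) : Subgroup Y) ^ Nat.card E' *
          Nat.card (H' ⊓ centralizer (U' : Set Y) : Subgroup Y)) :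
    Nat.card (H ⊓ centralizer ((U ⊔ E : Subgroup X) : Set X) : Subgroup X) ^ Nat.card E *
      Nat.card H = Nat.card (H ⊓ centralizer (E : Set X) : Subgroup X) ^ Nat.card E *
        Nat.card (H ⊓ centralizer (U : Set X) : Subgroup X) := by
  by_cases hH1 : H = ⊥
  · subst hH1
    rw [bot_inf_eq, bot_inf_eq, bot_inf_eq]
  have hnorm : ∀ N : Subgroup X, H ≤ normalizer (N : Set X) → U ≤ normalizer (N : Set X) →
      E ≤ normalizer (N : Set X) → N.Normal := by
    intro N h1 h2 h3
    rw [← normalizer_eq_top_iff, eq_top_iff, ← htop]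
    exact sup_le h1 (sup_le h2 h3)
  haveI hHn : H.Normal := hnorm H le_normalizer h.UH h.EH
  have copU : (Nat.card U).Coprime (Nat.card H) :=
    Nat.Coprime.coprime_dvd_left (card_dvd_of_le le_sup_left) h.cop
  have copE : (Nat.card E).Coprime (Nat.card H) :=
    Nat.Coprime.coprime_dvd_left (card_dvd_of_le le_sup_right) h.cop
  by_cases hred : ∃ N : Subgroup X, N.Normal ∧ N ≤ H ∧ N ≠ ⊥ ∧ N ≠ H
  · obtain ⟨N, hN, hNH, hN1, hN2⟩ := hred
    have hlt : N < H := lt_of_le_of_ne hNH hN2
    have hNc := card_dvd_of_le hNH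
    have hNs := isSolvable_of_le hNH h.solH
    have h1 := ih X U E N (card_lt_of_lt' hlt)
      { EU := h.EU
        UH := by rw [normalizer_eq_top]; exact le_top
        EH := by rw [normalizer_eq_top]; exact le_top
        frob := h.frob
        solU := h.solU
        solH := hNs
        cop := Nat.Coprime.coprime_dvd_right hNc h.cop }
    have hq := card_map_mk'_mul N H
    rw [inf_of_le_right hNH] at hq
    have hNE : N ⊓ E = ⊥ := by
      rw [inf_comm]
      exact inf_eq_bot_of_card_coprime (Nat.Coprime.coprime_dvd_right hNc copE)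
    have hcardN : 1 < Nat.card N := by
      rw [Nat.one_lt_iff_ne_zero_and_ne_one]
      exact ⟨Nat.card_pos.ne', fun h4 => hN1 (card_eq_one.mp h4)⟩
    have h2 := ih (X ⧸ N) _ _ _ (by
      rw [← hq]; exact lt_mul_of_one_lt_left Nat.card_pos hcardN) (h.quot N hNH)
    rw [card_map_eq_of_inf_eq_bot hNE, ← Subgroup.map_sup] at h2
    have e1 := card_inf_centralizer_mul (A := U ⊔ E) hNH
      (Nat.Coprime.coprime_dvd_right hNc h.cop) hNs
    have e2 := card_inf_centralizer_mul (A := E) hNH
      (Nat.Coprime.coprime_dvd_right hNc copE) hNs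
    have e3 := card_inf_centralizer_mul (A := U) hNH
      (Nat.Coprime.coprime_dvd_right hNc copU) hNs
    rw [← e1, ← e2, ← e3, ← hq, mul_pow, mul_pow]
    have key : ∀ a b c d e f g i : ℕ, a * b = c * d → e * f = g * i →
        a * e * (b * f) = c * g * (d * i) := by
      intro a b c d e f g i h3 h4
      calc a * e * (b * f) = (a * b) * (e * f) := by ring
        _ = (c * d) * (g * i) := by rw [h3, h4]
        _ = c * g * (d * i) := by ring
    exact key _ _ _ _ _ _ _ _ h1 h2
  · push Not at hred
    have hmin : ∀ N : Subgroup X, N.Normal → N ≤ H → N = ⊥ ∨ N = H := by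
      intro N hN hNM
      by_cases h0 : N = ⊥
      · exact Or.inl h0
      · exact Or.inr (hred N hN hNM h0)
    obtain ⟨hab, p, hp, hMp, hpow⟩ := minimal_normal_solvable hHn hH1 hmin h.solH
    have hgen : ∀ A : Subgroup X, A ≤ normalizer (U : Set X) → A ≤ normalizer ((H ⊓ centralizer
        (U : Set X) : Subgroup X) : Set X) := by
      intro A hA y hy
      have h1 : y ∈ normalizer ((centralizer (U : Set X) : Subgroup X) : Set X) :=
        OOT.normalizer_le_normalizer_centralizer _ (hA hy)
      rw [mem_normalizer_iff]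
      intro g
      have h2 : y ∈ normalizer (H : Set X) := by rw [normalizer_eq_top]; trivial
      rw [mem_inf, mem_inf, mem_normalizer_iff.mp h2 g, mem_normalizer_iff.mp h1 g]
    have hNn : (H ⊓ centralizer (U : Set X) : Subgroup X).Normal := by
      apply hnorm
      · intro y hy
        rw [mem_normalizer_iff_conj_smul]
        apply H23.conj_smul_eq_of_mem_centralizer
        rw [mem_centralizer_iff]
        intro z hz
        exact congrArg Subtype.val (hab.is_comm.comm (⟨z, (mem_inf.mp hz).1⟩ : H) ⟨y, hy⟩)
      · exact hgen U le_normalizer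
      · exact hgen E h.EU
    rcases hmin _ hNn inf_le_left with h0 | h0
    · have h1 := main310 (Nat.card H) X U E H rfl
        { SK := h.EU
          KM := h.UH
          SM := h.EH
          frob := h.frob
          solK := h.solU
          solM := h.solH
          copK := copU
          copS := copE
          CMK := h0 }
      have h2 : H ⊓ centralizer ((U ⊔ E : Subgroup X) : Set X) = ⊥ := by
        rw [eq_bot_iff, ← h0]
        exact inf_le_inf_left _ (centralizer_le (SetLike.coe_subset_coe.mpr le_sup_left))
      rw [h0, h2, card_bot, one_pow, one_mul, mul_one]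
      exact h1
    · have h1 : H ⊓ centralizer ((U ⊔ E : Subgroup X) : Set X) = H ⊓ centralizer (E : Set X) := by
        apply le_antisymm (inf_le_inf_left _ (centralizer_le
          (SetLike.coe_subset_coe.mpr le_sup_right)))
        refine le_inf inf_le_left ?_
        rw [le_centralizer_iff]
        refine sup_le ?_ ?_
        · rw [le_centralizer_iff]
          exact inf_le_left.trans (h0.ge.trans inf_le_right)
        · rw [le_centralizer_iff]
          exact inf_le_right
      rw [h1, h0]

theorem HypW.sub {U E H Z : Subgroup X} (h : HypW U E H) (hU : U ≤ Z) (hE : E ≤ Z)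
    (hH : H ≤ Z) : HypW (U.subgroupOf Z) (E.subgroupOf Z) (H.subgroupOf Z) :=
  { EU := le_normalizer_subgroupOf' h.EU
    UH := le_normalizer_subgroupOf' h.UH
    EH := le_normalizer_subgroupOf' h.EH
    frob := fun x hx hx1 a ha hc => Subtype.ext (h.frob x hx (fun h0 => hx1 (Subtype.ext h0)) a ha
      (congrArg Subtype.val hc))
    solU := isSolvable_subgroupOf310 h.solU hU
    solH := isSolvable_subgroupOf310 h.solH hH
    cop := by
      have h1 : U.subgroupOf Z ⊔ E.subgroupOf Z = (U ⊔ E).subgroupOf Z := by
        apply map_injective Z.subtype_injective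
        rw [Subgroup.map_sup, subgroupOf_map_subtype, subgroupOf_map_subtype,
          subgroupOf_map_subtype, inf_of_le_left hU, inf_of_le_left hE,
          inf_of_le_left (sup_le hU hE)]
      rw [h1, card_subgroupOf (sup_le hU hE), card_subgroupOf hH]
      exact h.cop }

theorem wielandt_main (n : ℕ) : ∀ (X : Type u) [Group X] [Finite X] (U E H : Subgroup X),
    Nat.card H = n → HypW U E H →
      Nat.card (H ⊓ centralizer ((U ⊔ E : Subgroup X) : Set X) : Subgroup X) ^ Nat.card E *
        Nat.card H = Nat.card (H ⊓ centralizer (E : Set X) : Subgroup X) ^ Nat.card E *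
          Nat.card (H ⊓ centralizer (U : Set X) : Subgroup X) := by
  induction n using Nat.strong_induction_on with
  | _ n ih =>
    intro X _ _ U E H hn h
    set Z : Subgroup X := H ⊔ (U ⊔ E) with hZ
    have hHZ : H ≤ Z := le_sup_left
    have hUZ : U ≤ Z := le_sup_left.trans le_sup_right
    have hEZ : E ≤ Z := le_sup_right.trans le_sup_right
    have h1 : U.subgroupOf Z ⊔ E.subgroupOf Z = (U ⊔ E).subgroupOf Z := by
      apply map_injective Z.subtype_injective
      rw [Subgroup.map_sup, subgroupOf_map_subtype, subgroupOf_map_subtype,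
        subgroupOf_map_subtype, inf_of_le_left hUZ, inf_of_le_left hEZ,
        inf_of_le_left (sup_le hUZ hEZ)]
    have h2 := wielandt_step (h.sub hUZ hEZ hHZ) (by
      rw [h1]
      apply map_injective Z.subtype_injective
      rw [Subgroup.map_sup, subgroupOf_map_subtype, subgroupOf_map_subtype, inf_of_le_left hHZ,
        inf_of_le_left (sup_le hUZ hEZ), ← MonoidHom.range_eq_map, range_subtype]) (by
      intro Y _ _ U' E' H' hlt h'
      rw [card_subgroupOf hHZ, hn] at hlt
      exact ih _ hlt Y U' E' H' rfl h')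
    rw [h1, card_subgroupOf hHZ, card_subgroupOf hEZ,
      card_inf_centralizer_subgroupOf hHZ (sup_le hUZ hEZ),
      card_inf_centralizer_subgroupOf hHZ hEZ, card_inf_centralizer_subgroupOf hHZ hUZ] at h2
    exact h2

end Cfsg.Agent.H1
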