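import Cfsg.Agent.FT
import Cfsg.Agent.H4.ZStarF
import Cfsg.Agent.H1.Coprime2
import Cfsg.Agent.H1.Chief

set_option autoImplicit false

/-! Involutions all of whose commutators are `p`-elements. -/

namespace Cfsg.Agent.H1
open Cfsg
open scoped commutatorElement

section
variable {G : Type*} [Group G] [Finite G]

theorem central_of_pCore_bot {p : ℕ} [hp : Fact p.Prime] (hp2 : p ≠ 2) (hO : pCore p G = ⊥) {d : G}
    (hd : orderOf d = 2) (hprod : ∀ g : G, ∃ k : ℕ, orderOf (d * (g * d * g⁻¹)) = p ^ k) :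
    ∀ g : G, g * d * g⁻¹ = d := by
  have hdd : d * d = 1 := by rw [← pow_two, ← hd]; exact pow_orderOf_eq_one d
  have hdinv : d⁻¹ = d := inv_eq_of_mul_eq_one_left hdd
  have hiso : IsIsolatedInvolution d := by
    refine ⟨hd, fun g hc => ?_⟩
    obtain ⟨k, hk⟩ := hprod g
    have h1 : (d * (g * d * g⁻¹)) ^ 2 = 1 := by
      rw [hc.mul_pow, pow_two, hdd, one_mul, pow_two]
      calc g * d * g⁻¹ * (g * d * g⁻¹) = g * (d * d) * g⁻¹ := by group
        _ = 1 := by rw [hdd]; group
    have h2 : orderOf (d * (g * d * g⁻¹)) ∣ 2 := orderOf_dvd_of_pow_eq_one h1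
    rw [hk] at h2
    have h3 : k = 0 := by
      by_contra hk0
      have h4 : p ∣ 2 := (dvd_pow_self p hk0).trans h2
      exact hp2 ((Nat.prime_dvd_prime_iff_eq hp.out Nat.prime_two).1 h4)
    rw [h3, pow_zero, orderOf_eq_one_iff] at hk
    exact (inv_eq_of_mul_eq_one_right hk).symm.trans hdinv
  set K : Subgroup G := oddCore G with hK
  have hKodd : Odd (Nat.card K) := H4.oddCore_odd G
  haveI hKn : K.Normal := pPrimeCore_normal 2 G
  have hKs : Group.IsSolvable K := FT.odd_order hKodd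
  have hKp : pCore p K = ⊥ := by
    have h1 : ((pCore p K).map K.subtype) ≤ pCore p G :=
      le_pCore inferInstance ((pCore_isPGroup p K).map _)
    rw [hO, le_bot_iff, Subgroup.map_eq_bot_iff, Subgroup.ker_subtype, le_bot_iff] at h1
    exact h1
  set F : Subgroup G := (fittingSubgroup K).map K.subtype with hF
  haveI hFn : F.Normal := inferInstance
  have hFK : F ≤ K := Subgroup.map_subtype_le _
  have hFcop : (Nat.card F).Coprime p := by
    have h1 : fittingSubgroup K ≤ pPrimeCore p K := by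
      rw [fitting_eq_iSup_pCore]
      have := iSup_pCore_eq_sup (G := K) p
      rwa [hKp, bot_sup_eq] at this
    have h2 : Nat.card F = Nat.card (fittingSubgroup K) :=
      (Nat.card_congr ((fittingSubgroup K).equivMapOfInjective K.subtype K.subtype_injective).toEquiv).symm
    rw [h2]
    exact Nat.Coprime.coprime_dvd_left (Subgroup.card_dvd_of_le h1) (pPrimeCore_coprime p K)
  -- d centralizes F
  have hdF : ∀ x ∈ F, d * x * d⁻¹ = x := by
    intro x hx
    obtain ⟨k, hk⟩ := hprod x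
    have h1 : d * (x * d * x⁻¹) ∈ F := by
      have h2 : d * x * d⁻¹ ∈ F := hFn.conj_mem x hx d
      have h3 := F.mul_mem h2 (F.inv_mem hx)
      rwa [hdinv, show d * x * d * x⁻¹ = d * (x * d * x⁻¹) by group] at h3
    have h4 : orderOf (⟨_, h1⟩ : F) ∣ Nat.card F := orderOf_dvd_natCard _
    rw [Subgroup.orderOf_mk, hk] at h4
    have h5 : p ^ k = 1 := Nat.eq_one_of_dvd_coprimes (Nat.Coprime.pow_right k hFcop) h4 dvd_rfl
    rw [h5, orderOf_eq_one_iff] at hk
    rw [hdinv]
    have : d * x * d * x⁻¹ = 1 := by rw [← hk]; group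
    exact mul_inv_eq_one.1 this
  set A : Subgroup G := Subgroup.zpowers d with hA
  have hAF : A ≤ Subgroup.centralizer (F : Set G) := by
    rw [hA, Subgroup.zpowers_le, Subgroup.mem_centralizer_iff]
    intro x hx
    have := hdF x hx
    rw [mul_inv_eq_iff_eq_mul] at this
    exact this.symm
  -- [K, A] centralizes F
  have hKAF : ⁅K, A⁆ ≤ Subgroup.centralizer (F : Set G) := by
    rw [← Subgroup.commutator_eq_bot_iff_le_centralizer]
    apply Subgroup.commutator_commutator_eq_bot_of_rotate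
    · have : ⁅A, F⁆ = ⊥ := by
        rw [Subgroup.commutator_eq_bot_iff_le_centralizer]; exact hAF
      rw [this, Subgroup.commutator_bot_left]
    · have h1 : ⁅F, K⁆ ≤ F := Subgroup.commutator_le_left F K
      have : ⁅F, A⁆ = ⊥ := by
        rw [Subgroup.commutator_comm, Subgroup.commutator_eq_bot_iff_le_centralizer]; exact hAF
      rw [eq_bot_iff, ← this]
      exact Subgroup.commutator_mono h1 le_rfl
  have hKAK : ⁅K, A⁆ ≤ K := Subgroup.commutator_le_left K A
  have hKAF2 : ⁅K, A⁆ ≤ F := by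
    intro x hx
    have hxK := hKAK hx
    have h1 : (⟨x, hxK⟩ : K) ∈ Subgroup.centralizer (fittingSubgroup K : Set K) := by
      rw [Subgroup.mem_centralizer_iff]
      intro y hy
      apply Subtype.ext
      exact Subgroup.mem_centralizer_iff.1 (hKAF hx) y ⟨y, hy, rfl⟩
    exact ⟨⟨x, hxK⟩, centralizer_fitting_le hKs h1, rfl⟩
  have hcop : (Nat.card A).Coprime (Nat.card K) := by
    rw [hA, Nat.card_zpowers, hd]
    exact (Nat.coprime_two_left).2 hKodd
  have hKA : ⁅K, A⁆ = ⊥ := by
    rw [← commutator_commutator_eq A K (by rw [Subgroup.normalizer_eq_top]; exact le_top) hcop (Or.inr hKs),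
      Subgroup.commutator_comm, eq_bot_iff]
    have : ⁅A, F⁆ = ⊥ := by
      rw [Subgroup.commutator_eq_bot_iff_le_centralizer]; exact hAF
    rw [← this]
    exact Subgroup.commutator_mono le_rfl hKAF2
  intro g
  obtain ⟨k, hk, c, hc, rfl⟩ := H4.zstar_factor hiso g
  rw [Subgroup.mem_centralizer_singleton_iff] at hc
  have h1 : k * d = d * k := by
    have h2 : ⁅k, d⁆ ∈ ⁅K, A⁆ := Subgroup.commutator_mem_commutator hk (Subgroup.mem_zpowers d)
    rw [hKA, Subgroup.mem_bot, commutatorElement_eq_one_iff_mul_comm] at h2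
    exact h2
  calc k * c * d * (k * c)⁻¹ = k * (c * d) * c⁻¹ * k⁻¹ := by group
    _ = k * (d * c) * c⁻¹ * k⁻¹ := by rw [hc]
    _ = (k * d) * k⁻¹ := by group
    _ = (d * k) * k⁻¹ := by rw [h1]
    _ = d := by group

/-- the `Z*`-type result for involutions with `p`-power products -/
theorem mul_mem_pCore {p : ℕ} [hp : Fact p.Prime] (hp2 : p ≠ 2) {d : G} (hd : orderOf d = 2)
    (hprod : ∀ a ∈ conjugatesOf d, ∀ b ∈ conjugatesOf d, ∃ k : ℕ, orderOf (a * b) = p ^ k) :
    ∀ a ∈ conjugatesOf d, ∀ b ∈ conjugatesOf d, a * b ∈ pCore p G := by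
  have hdd : d * d = 1 := by rw [← pow_two, ← hd]; exact pow_orderOf_eq_one d
  let q : G →* G ⧸ pCore p G := QuotientGroup.mk' (pCore p G)
  have hq : Function.Surjective q := QuotientGroup.mk'_surjective _
  have hOq : pCore p (G ⧸ pCore p G) = ⊥ := pCore_quotient_eq_bot p
  have hdq : orderOf (q d) = 2 := by
    apply orderOf_eq_prime
    · rw [← map_pow, pow_two, hdd, map_one]
    · intro h1
      have h2 : d ∈ pCore p G := (QuotientGroup.eq_one_iff d).1 h1
      obtain ⟨n, hn⟩ := IsPGroup.iff_card.1 (pCore_isPGroup p G)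
      have h3 : orderOf (⟨d, h2⟩ : pCore p G) ∣ Nat.card (pCore p G) := orderOf_dvd_natCard _
      rw [Subgroup.orderOf_mk, hd, hn] at h3
      have h4 := Nat.prime_two.dvd_of_dvd_pow h3
      exact hp2 ((Nat.prime_dvd_prime_iff_eq Nat.prime_two hp.out).1 h4).symm
  have hcen := central_of_pCore_bot hp2 hOq hdq (by
    intro g'
    obtain ⟨g, rfl⟩ := hq g'
    obtain ⟨k, hk⟩ := hprod d (mem_conjugatesOf_self) (g * d * g⁻¹) (by
      exact isConj_iff.2 ⟨g, rfl⟩)
    have h1 : orderOf (q (d * (g * d * g⁻¹))) ∣ p ^ k := by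
      rw [← hk]; exact orderOf_map_dvd q _
    obtain ⟨j, -, hj⟩ := (Nat.dvd_prime_pow hp.out).1 h1
    exact ⟨j, by rw [← hj]; simp⟩)
  intro a ha b hb
  obtain ⟨g, rfl⟩ := isConj_iff.1 (show IsConj d a from ha)
  obtain ⟨h, rfl⟩ := isConj_iff.1 (show IsConj d b from hb)
  rw [← QuotientGroup.eq_one_iff]
  show q (g * d * g⁻¹ * (h * d * h⁻¹)) = 1
  rw [map_mul, map_mul, map_mul, map_mul, map_mul, map_inv, map_inv, hcen, hcen, ← map_mul, hdd, map_one]

end

end Cfsg.Agent.H1
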